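import Groth.Agent.AlgStLib.DiagCover
import Groth.Agent.AlgStLib.SpaceCalc
import Groth.Agent.AlgStLib.Charts

/-!
# Descending properties of the diagonal along a cover, with relative cancellation
-/

set_option autoImplicit false
set_option backward.isDefEq.respectTransparency false
set_option backward.isDefEq.respectTransparency.types false

universe u

open CategoryTheory CategoryTheory.Limits AlgebraicGeometry AlgSp

namespace Groth.Agent.AlgStLib

open Groth.Agent.FibBase Groth.Agent.AlgSpLib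

variable {S : Scheme.{u}} {𝒳 : AlgSt.Cat S} {P Q : MorphismProperty (Sp S)}

theorem repByAlgSpWith_toSelf_overCat (hPb : StableBC P) {U : Over S}
    (h : P ((yon S).map ((Over.mkIdTerminal (X := S)).from U))) :
    AlgSt.RepByAlgSpWith P (FibCat.toSelf (FibCat.overCat U : AlgSt.Cat S)) := by
  have hT : IsTerminal (Over.mk (𝟙 S)) := Over.mkIdTerminal
  have hfull : (FibCat.toSelf (FibCat.overCat (Over.mk (𝟙 S)) : AlgSt.Cat S)).toFunctor.Full :=
    ⟨fun {x y} g => ⟨Over.homMk g (hT.hom_ext _ _), rfl⟩⟩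
  have hfaith : (FibCat.toSelf (FibCat.overCat (Over.mk (𝟙 S)) : AlgSt.Cat S)).toFunctor.Faithful :=
    ⟨fun h => Over.OverMorphism.ext h⟩
  have he := isEquivOver_of_exists_iso (FibCat.toSelf (FibCat.overCat (Over.mk (𝟙 S)) : AlgSt.Cat S)) hfull hfaith
    fun η => ⟨Over.mk (hT.from η), Iso.refl _, IsHomLift.id rfl⟩
  have := repByAlgSpWith_postcomp he (repByAlgSpWith_overMap hPb h)
  rwa [eq_toSelf (BasedFunctor.comp (AlgSt.overMap _) _)] at this

/-- A property of `W ×_𝒳 W ⟶ W` descends to the diagonal of `𝒳`, with a relative cancellation condition. -/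
theorem repByAlgSpWith_diag_toSelf_of_cover' (hPb : StableBC P) (hloc : IsLocalOnBase IsFppfCover P)
    (hc : Cancels P Q) {𝒲 : AlgSt.Cat S} (hW : AlgSt.RepByAlgSpWith Q (FibCat.toSelf 𝒲))
    (hΔ : AlgSt.RepByAlgSp1 (FibCat.diag (FibCat.toSelf 𝒳))) {p : 𝒲 ⥤ᵇ 𝒳}
    (hp : AlgSt.RepByAlgSpWith P p) (hes : LocEssSurj p) :
    AlgSt.RepByAlgSpWith P (FibCat.diag (FibCat.toSelf 𝒳)) := by
  let t := FibCat.toSelf 𝒳
  rw [← comp_toSelf p] at hW
  have hweak : AlgSt.RepByAlgSpWith P (weaken p p t) :=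
    repByAlgSpWith_of_comp hPb hc (repByAlgSpWith_fpFst (BasedFunctor.comp p t) hW)
      (repByAlgSpWith_fpFst p hp)
  exact repByAlgSpWith_of_locEssSurj hPb hloc hΔ (locEssSurj_pairMap t hes hes)
    ((repByAlgSpWith_iff_of_square (f' := weaken p p t) (f := FibCat.fpFst (pairMap p p t) (FibCat.diag t))
      (a := diagComparison p p t) (b := BasedFunctor.id _) (diagComparison_isEquivOver p p t) isEquivOver_id
      (Iso.refl _)).2 hweak)

end Groth.Agent.AlgStLib
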