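import Groth.Agent.AlgStLib.MonoQC
import Groth.Agent.AlgStLib.ProdMap
import Groth.Agent.AlgStLib.SpaceCalc
import Groth.Agent.AlgStLib.Noetherian
import Groth.Agent.GerbFlat.Section

/-!
# Quasi-compactness of the diagonal by Noetherian induction
-/

set_option autoImplicit false
set_option linter.style.haveILetI false
set_option backward.isDefEq.respectTransparency false
set_option backward.isDefEq.respectTransparency.types false

universe u

open CategoryTheory CategoryTheory.Functor CategoryTheory.Limits AlgebraicGeometry Opposite AlgSp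

noncomputable section

namespace Groth.Agent.AlgStLib.DiagQC

open Groth.Agent.FibBase Groth.Agent.AlgSpLib Groth.Agent.AlgStLib.MonoQC

variable {S : Scheme.{u}} {𝒳 𝒴 : AlgSt.Cat S}

local notation "K₀" => Scheme.fppfPrecoverage

/-- Functors into a fibre product over the base category are determined by their components. -/
def fpSelfIso {𝒜 : AlgSt.Cat S} {p : 𝒳 ⥤ᵇ FibCat.selfOver (Over S)} {q : 𝒴 ⥤ᵇ FibCat.selfOver (Over S)}
    {c c' : 𝒜 ⥤ᵇ FibCat.fp p q}
    (a : BasedFunctor.comp c (FibCat.fpFst p q) ≅ BasedFunctor.comp c' (FibCat.fpFst p q))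
    (b : BasedFunctor.comp c (FibCat.fpSnd p q) ≅ BasedFunctor.comp c' (FibCat.fpSnd p q)) : c ≅ c' :=
  BasedNatIso.mkNatIso
    (NatIso.ofComponents (fun w => fpIsoMk (isoApp a w) (isoApp b w) (by
        haveI := isoApp_lift a (a := w) rfl
        haveI := isoApp_lift b (a := w) rfl
        haveI : (𝟭 (Over S)).IsHomLift (𝟙 (𝒜.p.obj w)) (p.map (isoApp a w).hom) :=
          p.preserves_isHomLift (𝟙 (𝒜.p.obj w)) _
        haveI : (𝟭 (Over S)).IsHomLift (𝟙 (𝒜.p.obj w)) (q.map (isoApp b w).hom) :=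
          q.preserves_isHomLift (𝟙 (𝒜.p.obj w)) _
        haveI : (𝟭 (Over S)).IsHomLift (𝟙 (𝒜.p.obj w)) (c.obj w).obj.iso.hom :=
          isHomLift_id_congr (c.w_obj w) (c.obj w).property
        haveI : (𝟭 (Over S)).IsHomLift (𝟙 (𝒜.p.obj w)) (c'.obj w).obj.iso.hom :=
          isHomLift_id_congr (c'.w_obj w) (c'.obj w).property
        exact (self_hom_eq (S := 𝒜.p.obj w) inferInstance).trans
          (self_hom_eq (S := 𝒜.p.obj w) inferInstance).symm))
      (fun {w w'} φ => ObjectProperty.hom_ext _ (CategoricalPullback.hom_ext (natural a φ) (natural b φ))))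
    (fun w => fp_isHomLift (F := p) (G := q) (𝟙 _) _ (h := isoApp_lift a rfl))

variable {f : 𝒴 ⥤ᵇ 𝒳}

theorem exists_finite_affine_cover (X : Scheme.{u}) (hX : CompactSpace X) :
    ∃ N : Finset X.affineOpens, ∀ r, ∃ B ∈ N, r ∈ (B : X.affineOpens).1 := by
  obtain ⟨N, hN⟩ := hX.isCompact_univ.elim_finite_subcover
    (fun B : X.affineOpens => (B.1 : Set X)) (fun B => B.1.2) (fun t _ => by
      obtain ⟨B, hB, htB, -⟩ := exists_isAffineOpen_mem_and_subset (X := X) (x := t) (U := ⊤) trivial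
      exact Set.mem_iUnion.2 ⟨⟨B, hB⟩, htB⟩)
  exact ⟨N, fun r => by simpa using hN (Set.mem_univ r)⟩

set_option maxHeartbeats 200000 in
/-- The fibre product over an affine is compact when it is covered by compact lifting pieces with compact fibres. -/
theorem isQuasiCompact_fp (h𝒳 : AlgSt.IsAlgStack K₀ 𝒳) (h𝒴 : AlgSt.IsAlgStack K₀ 𝒴)
    (hfib : ∀ (W : Over S), IsAffine W.left → ∀ y : FibCat.overCat W ⥤ᵇ 𝒴,
      AlgSt.IsQuasiCompact (FibCat.fp (BasedFunctor.comp y f) f))
    {U : Over S} (u : FibCat.overCat U ⥤ᵇ 𝒳) {I : Type u} [Finite I] (Z : I → Over S) (z : ∀ i, Z i ⟶ U)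
    (hZ : ∀ i, CompactSpace (Z i).left) (hl : ∀ i, Lift f (BasedFunctor.comp (AlgSt.overMap (z i)) u))
    (hcov : ∀ t, AlgSt.Points.ofChart u t ∈ Set.range (AlgSt.Points.map f) → t ∈ ⋃ i, Set.range (z i).left) :
    AlgSt.IsQuasiCompact (FibCat.fp u f) := by
  have hW := isAlgStack_fp (isAlgStack_overCat U) h𝒴 h𝒳.isStack h𝒳.diag u f
  rw [isQuasiCompact_iff_compactSpace_points hW.isStack.1 hW.atlas]
  -- affine pieces
  choose N hN using fun i => exists_finite_affine_cover (Z i).left (hZ i)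
  let J := Σ i, {B : (Z i).left.affineOpens // B ∈ N i}
  haveI : Finite J := inferInstance
  let W : J → Over S := fun j => Over.mk (j.2.1.2.fromSpec ≫ (Z j.1).hom)
  let o : ∀ j, W j ⟶ Z j.1 := fun j => Over.homMk j.2.1.2.fromSpec rfl
  let g : ∀ j, W j ⟶ U := fun j => o j ≫ z j.1
  have hlift : ∀ j, Lift f (BasedFunctor.comp (AlgSt.overMap (g j)) u) := fun j =>
    Lift.of_iso (Lift.precomp (hl j.1) (o j)) (whiskerRightIso (overMapCompIso (o j) (z j.1)) u)
  let M : J → AlgSt.Cat S := fun j => FibCat.fp (AlgSt.overMap (g j)) (FibCat.fpFst u f)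
  let m : ∀ j, M j ⥤ᵇ FibCat.fp u f := fun j => FibCat.fpSnd _ _
  have hM : ∀ j, IsCompact (Set.range (AlgSt.Points.map (m j))) := fun j => by
    obtain ⟨y, ⟨iy⟩⟩ := hlift j
    haveI : IsAffine (W j).left := inferInstanceAs (IsAffine (Spec _))
    have hMalg : AlgSt.IsAlgStack K₀ (M j) :=
      isAlgStack_fp (isAlgStack_overCat (W j)) hW (isAlgStack_overCat U).isStack (isAlgStack_overCat U).diag _ _
    have hq : AlgSt.IsQuasiCompact (M j) :=
      isQuasiCompact_of_equiv' (pasteVert_isEquivOver (AlgSt.overMap (g j)) u f) (isQuasiCompact_of_equiv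
        (fpMap_isEquivOver (F := BasedFunctor.comp (AlgSt.overMap (g j)) u) (G := f) (F' := BasedFunctor.comp y f)
          (G' := f) (a := BasedFunctor.id _) (b := BasedFunctor.id _) (c := BasedFunctor.id _) iy.symm (Iso.refl _)
          isEquivOver_id isEquivOver_id) (hfib (W j) inferInstance y))
    haveI := (isQuasiCompact_iff_compactSpace_points hMalg.isStack.1 hMalg.atlas).1 hq
    exact isCompact_range (continuous_pts_map hW.isStack.1 hW.atlas (m j))
  refine ⟨?_⟩
  have : (Set.univ : Set (AlgSt.Points (FibCat.fp u f))) = ⋃ j, Set.range (AlgSt.Points.map (m j)) := by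
    refine (Set.eq_univ_of_forall fun w => ?_).symm
    let t₀ := toSch U (AlgSt.Points.map (FibCat.fpFst u f) w)
    have ht₀ : AlgSt.Points.map (FibCat.fpFst u f) w = ptAt U t₀ :=
      (toSch_bijective U).1 (toSch_ptAt U t₀).symm
    obtain ⟨i, r, hr⟩ := Set.mem_iUnion.1 (hcov t₀ ⟨AlgSt.Points.map (FibCat.fpSnd u f) w, by
      rw [ofChart_eq_map, ← ht₀, ← pts_map_comp, ← pts_map_comp]
      exact (pts_map_congr (FibCat.fpIso u f) w).symm⟩)
    obtain ⟨B, hB, hrB⟩ := hN i r
    let j : J := ⟨i, B, hB⟩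
    obtain ⟨r', hr'⟩ := B.2.range_fromSpec.ge hrB
    have he : AlgSt.Points.map (AlgSt.overMap (g j)) (ptAt (W j) r') = AlgSt.Points.map (FibCat.fpFst u f) w := by
      rw [ht₀]
      refine (toSch_bijective U).1 ?_
      rw [toSch_map_overMap, toSch_ptAt, toSch_ptAt, ← hr, ← hr']
      rfl
    obtain ⟨x, -, hx⟩ := exists_pts_fp hW.isStack.1 (isFibGrpd_overCat U) (isFibGrpd_overCat (W j))
      (FibCat.fpFst u f) (AlgSt.overMap (g j)) _ w he
    exact Set.mem_iUnion.2 ⟨j, x, hx⟩
  rw [this]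
  exact isCompact_iUnion hM

end Groth.Agent.AlgStLib.DiagQC
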