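import Groth.Agent.AlgStLib.PolyClosedSt
import Groth.Agent.AlgStLib.LocQInst
import Groth.Agent.AlgStLib.LocQCalc
import Groth.Agent.AlgStLib.SmoothBootstrap
import Groth.Agent.AlgSpVal.DvrThrough

/-!
# Universal closedness of finite type morphisms of stacks through discrete valuation rings
-/

set_option autoImplicit false
set_option linter.style.haveILetI false
set_option backward.isDefEq.respectTransparency false
set_option backward.isDefEq.respectTransparency.types false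

universe u

open CategoryTheory CategoryTheory.Functor CategoryTheory.Limits AlgebraicGeometry Opposite AlgSp IsLocalRing

noncomputable section

namespace Groth.Agent.AlgStLib.DvrUC

open Groth.Agent.FibBase Groth.Agent.AlgSpLib Groth.Agent.AlgSpVal SliceBC PolyClosedSt

variable {S : Scheme.{u}} {𝒳 𝒴 𝒵 : AlgSt.Cat S}

local notation "Kₑ" => Scheme.etalePrecoverage

/-- The valuative criterion with extensions of discrete valuation rings. -/
def DvrExtLift (f : 𝒳 ⥤ᵇ 𝒴) : Prop :=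
  ∀ (R : Type u) [CommRing R] [IsDomain R] [IsDiscreteValuationRing R]
    (sR : Spec (CommRingCat.of R) ⟶ S)
    (a : FibCat.overCat (Over.mk (Spec.map (CommRingCat.ofHom (algebraMap R (FractionRing R))) ≫ sR)) ⥤ᵇ 𝒳)
    (b : FibCat.overCat (Over.mk sR) ⥤ᵇ 𝒴)
    (α : BasedFunctor.comp a f ≅
      BasedFunctor.comp (AlgSt.overMap (Over.homMk (Spec.map (CommRingCat.ofHom (algebraMap R (FractionRing R)))) rfl :
        Over.mk (Spec.map (CommRingCat.ofHom (algebraMap R (FractionRing R))) ≫ sR) ⟶ Over.mk sR)) b),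
    ∃ (R' : Type u) (_ : CommRing R') (_ : IsDomain R') (_ : IsDiscreteValuationRing R') (φ : R →+* R')
      (_ : Function.Injective φ) (_ : IsLocalHom φ)
      (gψ : (Over.mk (Spec.map (CommRingCat.ofHom (algebraMap R' (FractionRing R'))) ≫
              Spec.map (CommRingCat.ofHom φ) ≫ sR) : Over S) ⟶
            Over.mk (Spec.map (CommRingCat.ofHom (algebraMap R (FractionRing R))) ≫ sR))
      (c : FibCat.overCat (Over.mk (Spec.map (CommRingCat.ofHom φ) ≫ sR)) ⥤ᵇ FibCat.fp f b),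
      gψ ≫ (Over.homMk (Spec.map (CommRingCat.ofHom (algebraMap R (FractionRing R)))) rfl :
          Over.mk (Spec.map (CommRingCat.ofHom (algebraMap R (FractionRing R))) ≫ sR) ⟶ Over.mk sR) =
        (Over.homMk (Spec.map (CommRingCat.ofHom (algebraMap R' (FractionRing R')))) rfl :
            Over.mk (Spec.map (CommRingCat.ofHom (algebraMap R' (FractionRing R'))) ≫
              Spec.map (CommRingCat.ofHom φ) ≫ sR) ⟶ Over.mk (Spec.map (CommRingCat.ofHom φ) ≫ sR)) ≫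
          (Over.homMk (Spec.map (CommRingCat.ofHom φ)) rfl :
            Over.mk (Spec.map (CommRingCat.ofHom φ) ≫ sR) ⟶ Over.mk sR) ∧
      Nonempty (BasedFunctor.comp c (FibCat.fpSnd f b) ≅
        AlgSt.overMap (Over.homMk (Spec.map (CommRingCat.ofHom φ)) rfl :
          Over.mk (Spec.map (CommRingCat.ofHom φ) ≫ sR) ⟶ Over.mk sR)) ∧
      Nonempty (BasedFunctor.comp
          (AlgSt.overMap (Over.homMk (Spec.map (CommRingCat.ofHom (algebraMap R' (FractionRing R')))) rfl :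
            Over.mk (Spec.map (CommRingCat.ofHom (algebraMap R' (FractionRing R'))) ≫
              Spec.map (CommRingCat.ofHom φ) ≫ sR) ⟶ Over.mk (Spec.map (CommRingCat.ofHom φ) ≫ sR))) c ≅
        BasedFunctor.comp (AlgSt.overMap gψ)
          (FibCat.fpLift a
            (AlgSt.overMap (Over.homMk (Spec.map (CommRingCat.ofHom (algebraMap R (FractionRing R)))) rfl :
              Over.mk (Spec.map (CommRingCat.ofHom (algebraMap R (FractionRing R))) ≫ sR) ⟶ Over.mk sR)) α))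

theorem spLift (h𝒳 : FibCat.IsFibGrpd 𝒳.p) (h𝒴 : FibCat.IsFibGrpd 𝒴.p) {f : 𝒳 ⥤ᵇ 𝒴} (hval : DvrExtLift f)
    {V : Over S} (y : FibCat.overCat V ⥤ᵇ 𝒴) (hA : AlgSt.HasAtlas (LocP @Smooth) (FibCat.fp y f)) :
    SpLift (FibCat.fpFst y f) := by
  intro T₀ W₀ h₀ c₀ r hN hlft hir z t' hsp
  obtain ⟨ir⟩ := hir
  haveI := hN
  haveI := hlft
  obtain ⟨A, _, _, hA', a₀, k, ha₀, hk₀, hk⟩ := exists_dvr_path_field r.left z t' hsp
  haveI := hA'
  let π := FibCat.fpFst y f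
  have hW : FibCat.IsFibGrpd (FibCat.fp y f).p := fp_isFibGrpd (isFibGrpd_overCat V) h𝒳 h𝒴
  let sR : Spec (CommRingCat.of A) ⟶ S := a₀ ≫ T₀.hom
  let TR : Over S := Over.mk sR
  let iT : TR ⟶ T₀ := Over.homMk a₀ rfl
  let jV : TR ⟶ V := iT ≫ h₀
  let b := BasedFunctor.comp (AlgSt.overMap jV) y
  let TK : Over S := Over.mk (Spec.map (CommRingCat.ofHom (algebraMap A (FractionRing A))) ≫ sR)
  let genO : TK ⟶ TR := Over.homMk (Spec.map (CommRingCat.ofHom (algebraMap A (FractionRing A)))) rfl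
  let kW : TK ⟶ W₀ := Over.homMk k (by
    show k ≫ W₀.hom = Spec.map (CommRingCat.ofHom (algebraMap A (FractionRing A))) ≫ a₀ ≫ T₀.hom
    rw [← Over.w r, reassoc_of% hk])
  have hkW : kW ≫ r = genO ≫ iT := Over.OverMorphism.ext hk
  let a₁ : FibCat.overCat TK ⥤ᵇ FibCat.fp (AlgSt.overMap jV) π :=
    FibCat.fpLift (AlgSt.overMap genO)
      (BasedFunctor.comp (AlgSt.overMap kW) (BasedFunctor.comp c₀ (FibCat.fpSnd (AlgSt.overMap h₀) π)))
      (overMapCompIso genO jV ≪≫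
        eqToIso (congrArg AlgSt.overMap (show genO ≫ jV = kW ≫ r ≫ h₀ by rw [reassoc_of% hkW])) ≪≫
        (overMapCompIso kW (r ≫ h₀)).symm ≪≫
        whiskerLeftIso (AlgSt.overMap kW) ((overMapCompIso r h₀).symm ≪≫
          whiskerRightIso ir.symm (AlgSt.overMap h₀) ≪≫ whiskerLeftIso c₀ (FibCat.fpIso (AlgSt.overMap h₀) π)))
  let K := BasedFunctor.comp (pasteVert (AlgSt.overMap jV) y f) (fpSwap b f)
  have hK : FibCat.IsEquivOver K := isEquivOver_comp (pasteVert_isEquivOver _ _ _) (fpSwap_isEquivOver b f)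
  let d := BasedFunctor.comp a₁ K
  let jd : BasedFunctor.comp d (FibCat.fpSnd f b) ≅ AlgSt.overMap genO := Iso.refl _
  obtain ⟨R', _, _, hR', φ, -, hloc, gψ, c, hgψ, ⟨ic⟩, ⟨iK⟩⟩ := hval A sR (BasedFunctor.comp d (FibCat.fpFst f b)) b
    (whiskerLeftIso d (FibCat.fpIso f b) ≪≫ whiskerRightIso jd b)
  obtain ⟨J, -, ⟨iKJ⟩, ⟨iJK⟩⟩ := isEquivOver_inv hK
  let TR' : Over S := Over.mk (Spec.map (CommRingCat.ofHom φ) ≫ sR)
  let φO : TR' ⟶ TR := Over.homMk (Spec.map (CommRingCat.ofHom φ)) rfl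
  let TK' : Over S := Over.mk (Spec.map (CommRingCat.ofHom (algebraMap R' (FractionRing R'))) ≫
    Spec.map (CommRingCat.ofHom φ) ≫ sR)
  let genO' : TK' ⟶ TR' := Over.homMk (Spec.map (CommRingCat.ofHom (algebraMap R' (FractionRing R')))) rfl
  let c' := BasedFunctor.comp c J
  let ic' : BasedFunctor.comp c' (FibCat.fpFst (AlgSt.overMap jV) π) ≅ AlgSt.overMap φO :=
    whiskerRightIso (whiskerLeftIso c iJK) (FibCat.fpSnd f b) ≪≫ ic
  let iK' : BasedFunctor.comp (AlgSt.overMap genO') c' ≅ BasedFunctor.comp (AlgSt.overMap gψ) a₁ :=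
    whiskerRightIso (iK ≪≫ (whiskerLeftIso (AlgSt.overMap gψ) (fpLiftIso d jd)).symm) J ≪≫
      whiskerLeftIso (BasedFunctor.comp (AlgSt.overMap gψ) a₁) iKJ
  let ρ : FibCat.overCat TR' ⥤ᵇ FibCat.fp (AlgSt.overMap h₀) π :=
    FibCat.fpLift (AlgSt.overMap (φO ≫ iT)) (BasedFunctor.comp c' (FibCat.fpSnd (AlgSt.overMap jV) π))
      (overMapCompIso (φO ≫ iT) h₀ ≪≫ eqToIso (congrArg AlgSt.overMap (Category.assoc φO iT h₀)) ≪≫
        (overMapCompIso φO jV).symm ≪≫ whiskerRightIso ic'.symm (AlgSt.overMap jV) ≪≫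
        whiskerLeftIso c' (FibCat.fpIso (AlgSt.overMap jV) π))
  have hfst : genO' ≫ φO ≫ iT = (gψ ≫ kW) ≫ r := by
    rw [Category.assoc, hkW, ← reassoc_of% hgψ]
  let I : BasedFunctor.comp (AlgSt.overMap genO') ρ ≅ BasedFunctor.comp (AlgSt.overMap (gψ ≫ kW)) c₀ :=
    fpSliceIso _ _
      (overMapCompIso genO' (φO ≫ iT) ≪≫ eqToIso (congrArg AlgSt.overMap hfst) ≪≫
        (overMapCompIso (gψ ≫ kW) r).symm ≪≫ whiskerLeftIso (AlgSt.overMap (gψ ≫ kW)) ir.symm)
      (whiskerRightIso iK' (FibCat.fpSnd (AlgSt.overMap jV) π) ≪≫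
        whiskerRightIso (overMapCompIso gψ kW) (BasedFunctor.comp c₀ (FibCat.fpSnd (AlgSt.overMap h₀) π)))
  let η : ↥TK'.left := closedPoint (FractionRing R')
  let κ : ↥TR'.left := closedPoint R'
  have hgen : AlgSt.Points.ofChart ρ (genO'.left η) = AlgSt.Points.ofChart c₀ z := by
    rw [← ofChart_overMap, ofChart_eq_map, pts_map_congr I, ← ofChart_eq_map, ofChart_overMap]
    congr 1
    rw [Over.comp_left, Scheme.Hom.comp_apply]
    refine Eq.trans ?_ hk₀
    exact congrArg k (Subsingleton.elim (α := PrimeSpectrum (FractionRing A)) _ _)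
  refine ⟨AlgSt.Points.ofChart ρ κ, hgen ▸
    (IsLocalRing.specializes_closedPoint (show PrimeSpectrum R' from _)).map
      (continuous_ofChart (fp_isFibGrpd (isFibGrpd_overCat T₀) hW (isFibGrpd_overCat V))
        (hasAtlas_bc hW hA h₀) ρ), ?_⟩
  rw [ofChart_eq_map, ← pts_map_comp,
    show BasedFunctor.comp ρ (FibCat.fpFst (AlgSt.overMap h₀) π) = AlgSt.overMap (φO ≫ iT) from rfl,
    map_overMap_ptAt]
  congr 1
  show a₀ (Spec.map (CommRingCat.ofHom φ) (closedPoint R')) = t'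
  rw [← ha₀]
  exact congrArg a₀ (IsLocalRing.comap_closedPoint φ)

/-- Closed sets of a base change have closed images. -/
def ClosedImg (f : 𝒳 ⥤ᵇ 𝒴) {T : Over S} (u : FibCat.overCat T ⥤ᵇ 𝒴) : Prop :=
  ∀ C : Set (AlgSt.Points (FibCat.fp u f)), IsClosed C →
    IsClosed {t | ∃ c ∈ C, AlgSt.Points.map (FibCat.fpFst u f) c = ptAt T t}

variable {K : Precoverage Scheme.{u}} {f : 𝒳 ⥤ᵇ 𝒴}

/-- The closed sets of a base change pull back to closed sets along charts. -/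
theorem isClosed_preimage_image (h𝒳 : AlgSt.IsAlgStack K 𝒳) (h𝒴 : AlgSt.IsAlgStack K 𝒴)
    (h𝒵 : FibCat.IsFibGrpd 𝒵.p) (hΔ : AlgSt.RepByAlgSp1 (FibCat.diag (FibCat.toSelf 𝒵)))
    (hA : AlgSt.HasAtlas (LocP @Smooth) 𝒵) (g : 𝒵 ⥤ᵇ 𝒴) {T : Over S} (x : FibCat.overCat T ⥤ᵇ 𝒵)
    {u : FibCat.overCat T ⥤ᵇ 𝒴} (i : BasedFunctor.comp x g ≅ u) (hu : ClosedImg f u)
    {C : Set (AlgSt.Points (FibCat.fp g f))} (hC : IsClosed C) :
    IsClosed (AlgSt.Points.ofChart x ⁻¹' (AlgSt.Points.map (FibCat.fpFst g f) '' C)) := by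
  let π := FibCat.fpFst g f
  have hP := fp_isFibGrpd (F := g) (G := f) h𝒵 h𝒳.isStack.1 h𝒴.isStack.1
  have hPA := hasAtlas_fp etale_le_smooth h𝒵 h𝒳.isStack.1 h𝒴.isStack.1 h𝒴.diag hA h𝒳.atlas g f
  have hX := fp_isFibGrpd (F := x) (G := π) (isFibGrpd_overCat T) hP h𝒵
  have hXA := hasAtlas_fp etale_le_smooth (isFibGrpd_overCat T) hP h𝒵 hΔ (isAlgStack_overCat T).atlas hPA x π
  have : (BasedFunctor.id 𝒴).toFunctor.Full := inferInstanceAs (𝟭 _).Full
  have : (BasedFunctor.id 𝒴).toFunctor.Faithful := inferInstanceAs (𝟭 _).Faithful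
  let m := fpMap (F := u) (G := f) (F' := BasedFunctor.comp x g) (G' := f) (a := BasedFunctor.id _)
    (b := BasedFunctor.id _) (c := BasedFunctor.id _) i.symm (Iso.refl _)
  let N := BasedFunctor.comp (pasteVert x g f) m
  have hN : FibCat.IsEquivOver N := isEquivOver_comp (pasteVert_isEquivOver _ _ _)
    (fpMap_isEquivOver _ _ isEquivOver_id isEquivOver_id)
  have hNf : ∀ w, AlgSt.Points.map (FibCat.fpFst u f) (AlgSt.Points.map N w) = AlgSt.Points.map (FibCat.fpFst x π) w :=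
    fun w => (pts_map_comp N (FibCat.fpFst u f) w).symm
  obtain ⟨N', -, ⟨iN⟩, ⟨iN'⟩⟩ := isEquivOver_inv hN
  have hcl := hu _ ((hC.preimage (continuous_pts_map hP hPA (FibCat.fpSnd x π))).preimage
    (continuous_pts_map hX hXA N'))
  convert hcl using 1
  ext t
  constructor
  · rintro ⟨c, hc, hct⟩
    rw [ofChart_eq_map] at hct
    obtain ⟨w, hw₁, hw₂⟩ := exists_pts_fp hP h𝒵 (isFibGrpd_overCat T) π x (ptAt T t) c hct.symm
    refine ⟨AlgSt.Points.map N w, ?_, by rw [hNf, hw₁]⟩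
    show AlgSt.Points.map (FibCat.fpSnd x π) (AlgSt.Points.map N' (AlgSt.Points.map N w)) ∈ C
    rw [← pts_map_comp N N', pts_map_congr iN, pts_map_id, hw₂]
    exact hc
  · rintro ⟨c, hc, hct⟩
    refine ⟨_, hc, ?_⟩
    have h1 : AlgSt.Points.map (FibCat.fpFst x π) (AlgSt.Points.map N' c) = ptAt T t := by
      rw [← hNf, ← pts_map_comp N' N, pts_map_congr iN', pts_map_id, hct]
    rw [ofChart_eq_map, ← h1, ← pts_map_comp (FibCat.fpFst x π) x]
    exact (pts_map_comp (FibCat.fpSnd x π) π _).symm.trans (pts_map_congr (FibCat.fpIso x π) _).symm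

theorem isClosed_image_overMap {T U : Over S} (k : T ⟶ U) {u : FibCat.overCat U ⥤ᵇ 𝒴}
    (h𝒳 : AlgSt.IsAlgStack K 𝒳) (h𝒴 : AlgSt.IsAlgStack K 𝒴) {u' : FibCat.overCat T ⥤ᵇ 𝒴}
    (i : BasedFunctor.comp (AlgSt.overMap k) u ≅ u') (hu : ClosedImg f u')
    {C : Set (AlgSt.Points (FibCat.fp u f))} (hC : IsClosed C) :
    IsClosed (k.left ⁻¹' {t | ∃ c ∈ C, AlgSt.Points.map (FibCat.fpFst u f) c = ptAt U t}) := by
  convert isClosed_preimage_image h𝒳 h𝒴 (isFibGrpd_overCat U) (isAlgStack_overCat U).diag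
    (isAlgStack_overCat U).atlas u (AlgSt.overMap k) i hu hC using 1
  ext s
  simp only [Set.mem_preimage, Set.mem_image, Set.mem_ofPred_eq, ofChart_eq_map, map_overMap_ptAt]

theorem isAlgStack_overCat_etale (U : Over S) :
    AlgSt.IsAlgStack Kₑ (FibCat.overCat U : AlgSt.Cat S) :=
  ⟨isStack_etale_of_fppf (isAlgStack_overCat U).isStack, (isAlgStack_overCat U).diag, (isAlgStack_overCat U).atlas⟩

/-- Closedness over an affine open of a chart of the target. -/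
theorem closedImg_affine (h𝒳 : AlgSt.IsAlgStack Kₑ 𝒳) (h𝒴 : AlgSt.IsAlgStack Kₑ 𝒴)
    (hqc : AlgSt.IsQuasiCompactMor Kₑ f) (hft : AlgSt.LocQ (LocP @LocallyOfFiniteType) f) (hval : DvrExtLift f)
    {A : CommRingCat.{u}} [IsNoetherianRing A] {str : Spec A ⟶ S}
    {y : FibCat.overCat (Over.mk str : Over S) ⥤ᵇ 𝒴} (hy : AlgSt.RepByAlgSpWith (LocP @Smooth) y)
    {B : CommRingCat.{u}} (β : A ⟶ B) :
    ClosedImg f (BasedFunctor.comp (AlgSt.overMap (specToBase (str := str) β)) y) := by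
  let V : Over S := Over.mk str
  haveI : IsAffine V.left := inferInstanceAs (IsAffine (Spec A))
  obtain ⟨U, x, hU, hx, hx'⟩ := hqc _ (isAlgStack_overCat_etale V)
    ⟨V, BasedFunctor.id _, inferInstance, repByAlgSpWith_smooth_of_isEquivOver isEquivOver_id,
      repByAlgSpWith_surj_of_isEquivOver isEquivOver_id⟩ y
  haveI := hU
  have hW : FibCat.IsFibGrpd (FibCat.fp y f).p := fp_isFibGrpd (isFibGrpd_overCat V) h𝒳.isStack.1 h𝒴.isStack.1
  have hA : AlgSt.HasAtlas (LocP @Smooth) (FibCat.fp y f) := ⟨U, x, hx, hx'⟩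
  obtain ⟨q, ⟨iq⟩⟩ := exists_mapB (BasedFunctor.comp x (FibCat.fpFst y f))
  let c := BasedFunctor.comp x (fpSwap y f)
  have hq : LocP @LocallyOfFiniteType ((yon S).map q) :=
    (locQS_of_locQ isSmoothLocalST_lft h𝒳.isStack.1 h𝒴.isStack.1 hft).scheme c hy
      (repByAlgSpWith_postcomp (fpSwap_isEquivOver y f) hx) iq.symm
  haveI : LocallyOfFiniteType q.left := locP_yon_map hq
  obtain ⟨γ, hγ⟩ : ∃ γ : A ⟶ Γ(U.left, ⊤), Spec.map γ = U.left.isoSpec.inv ≫ q.left := ⟨_, Spec.map_preimage _⟩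
  have hγft : γ.hom.FiniteType :=
    (HasRingHomProperty.Spec_iff (P := @LocallyOfFiniteType)).1 (by rw [hγ]; infer_instance)
  let e : Over.mk (Spec.map γ ≫ str) ⟶ U := Over.homMk U.left.isoSpec.inv (by
    show U.left.isoSpec.inv ≫ U.hom = Spec.map γ ≫ str
    rw [hγ, Category.assoc, ← Over.w q]
    rfl)
  have he : e ≫ q = specToBase γ := Over.OverMorphism.ext hγ.symm
  let p := BasedFunctor.comp (AlgSt.overMap e) x
  let ip : BasedFunctor.comp p (FibCat.fpFst y f) ≅ AlgSt.overMap (specToBase γ) :=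
    whiskerLeftIso (AlgSt.overMap e) iq.symm ≪≫ overMapCompIso e q ≪≫ eqToIso (congrArg AlgSt.overMap he)
  haveI : IsIso e.left := inferInstanceAs (IsIso U.left.isoSpec.inv)
  have hes : AlgSt.RepByAlgSpWith (LocP @Smooth) (AlgSt.overMap e) := repByAlgSpWith_overMap stableBC_locP
    (locP_of_repWith ((repWith_yon_map_iff _ _).2 (inferInstance : Smooth e.left)))
  have hes' : AlgSt.RepByAlgSpWith IsSurjectiveMor (AlgSt.overMap e) := repByAlgSpWith_overMap stableBC_isSurjectiveMor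
    (surjective_map_of_repWith ((repWith_yon_map_iff _ _).2 (inferInstance : Surjective e.left)))
  have hp := repByAlgSpWith_locP_comp (isFibGrpd_overCat _) (isFibGrpd_overCat _) hes hx
  have hp' := repByAlgSpWith_isSurjectiveMor_comp (isFibGrpd_overCat _) (isFibGrpd_overCat _) hes' hx'
  intro C hC
  let P := pasteVert (AlgSt.overMap (specToBase (str := str) β)) y f
  let T : Over S := Over.mk (Spec.map β ≫ str)
  have hT := hasAtlas_fp etale_le_smooth (isFibGrpd_overCat T) h𝒳.isStack.1 h𝒴.isStack.1 h𝒴.diag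
    (isAlgStack_overCat T).atlas h𝒳.atlas (BasedFunctor.comp (AlgSt.overMap (specToBase (str := str) β)) y) f
  have hTg := fp_isFibGrpd (F := BasedFunctor.comp (AlgSt.overMap (specToBase (str := str) β)) y) (G := f)
    (isFibGrpd_overCat T) h𝒳.isStack.1 h𝒴.isStack.1
  convert isClosed_image hW hA γ hγft ip (repByAlgSpWith_flat_of_smooth hp) (repByAlgSpWith_lfp_of_smooth hp) hp'
    (spLift h𝒳.isStack.1 h𝒴.isStack.1 hval y hA) β _ (hC.preimage (continuous_pts_map hTg hT P)) using 1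
  ext t
  constructor
  · rintro ⟨c, hc, hct⟩
    obtain ⟨w, rfl⟩ := (pts_bijective_of_isEquivOver (pasteVert_isEquivOver _ y f)).2 c
    exact ⟨w, hc, by rw [← hct, ← pts_map_comp]; rfl⟩
  · rintro ⟨w, hw, hwt⟩
    exact ⟨_, hw, by rw [← hwt, ← pts_map_comp]; rfl⟩

theorem closedImg (h𝒳 : AlgSt.IsAlgStack Kₑ 𝒳) (h𝒴 : AlgSt.IsAlgStack Kₑ 𝒴)
    (hn𝒴 : AlgSt.SmoothLocally (fun T => IsLocallyNoetherian T) 𝒴)
    (hqc : AlgSt.IsQuasiCompactMor Kₑ f) (hft : AlgSt.LocQ (LocP @LocallyOfFiniteType) f) (hval : DvrExtLift f)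
    {U : Over S} (u : FibCat.overCat U ⥤ᵇ 𝒴) : ClosedImg f u := by
  obtain ⟨V, y, hy, hy'⟩ := id h𝒴.atlas
  haveI : IsLocallyNoetherian V.left := hn𝒴 V y hy
  obtain ⟨T, k, l, ⟨i⟩, -, hR, hs⟩ := exists_chart_fp h𝒴.isStack.1 u (repByAlgSp1_of_repByAlgSpWith hy)
  have hk : IsOpenMap k.left := isOpenMap_of_flat_lfp _ (hR _ etale_le_flat (repByAlgSpWith_flat_of_smooth hy))
    (hR _ etale_le_lfp (repByAlgSpWith_lfp_of_smooth hy))
  -- closedness on the chart
  have key : ClosedImg f (BasedFunctor.comp (AlgSt.overMap l) y) := fun C hC => by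
    rw [← isOpen_compl_iff, isOpen_iff_forall_mem_open]
    intro s hs'
    obtain ⟨VA, hVA, hsA, -⟩ := exists_isAffineOpen_mem_and_subset (X := V.left) (x := l.left s) (U := ⊤) trivial
    obtain ⟨O, hO, hsO, hle⟩ := exists_isAffineOpen_mem_and_subset (X := T.left) (x := s) (U := l.left ⁻¹ᵁ VA) hsA
    haveI : IsNoetherianRing Γ(V.left, VA) := IsLocallyNoetherian.component_noetherian ⟨VA, hVA⟩
    let str : Spec Γ(V.left, VA) ⟶ S := hVA.fromSpec ≫ V.hom
    let jA : Over.mk str ⟶ V := Over.homMk hVA.fromSpec rfl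
    haveI : IsOpenImmersion hVA.fromSpec := hVA.isOpenImmersion_fromSpec
    haveI : IsOpenImmersion hO.fromSpec := hO.isOpenImmersion_fromSpec
    let m := IsOpenImmersion.lift hVA.fromSpec (hO.fromSpec ≫ l.left) (by
      rintro _ ⟨w, rfl⟩
      rw [hVA.range_fromSpec]
      exact hle (hO.range_fromSpec.le ⟨w, rfl⟩))
    let β := Spec.preimage m
    have hβ : Spec.map β ≫ hVA.fromSpec = hO.fromSpec ≫ l.left := by
      rw [Spec.map_preimage]
      exact IsOpenImmersion.lift_fac _ _ _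
    let j : Over.mk (Spec.map β ≫ str) ⟶ T := Over.homMk hO.fromSpec (by
      show hO.fromSpec ≫ T.hom = Spec.map β ≫ hVA.fromSpec ≫ V.hom
      rw [reassoc_of% hβ, Over.w l])
    have hjl : j ≫ l = specToBase β ≫ jA := Over.OverMorphism.ext hβ.symm
    let y₁ := BasedFunctor.comp (AlgSt.overMap jA) y
    have hy₁ : AlgSt.RepByAlgSpWith (LocP @Smooth) y₁ :=
      repByAlgSpWith_locP_comp (isFibGrpd_overCat _) (isFibGrpd_overCat _) (repByAlgSpWith_overMap stableBC_locP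
        (locP_of_repWith ((repWith_yon_map_iff _ _).2 (inferInstanceAs (Smooth hVA.fromSpec))))) hy
    have hcl := isClosed_image_overMap (f := f) j (u := BasedFunctor.comp (AlgSt.overMap l) y) h𝒳 h𝒴
      (u' := BasedFunctor.comp (AlgSt.overMap (specToBase (str := str) β)) y₁)
      (whiskerRightIso (overMapCompIso j l ≪≫ eqToIso (congrArg AlgSt.overMap hjl) ≪≫
        (overMapCompIso (specToBase β) jA).symm) y)
      (closedImg_affine h𝒳 h𝒴 hqc hft hval hy₁ β) hC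
    obtain ⟨w, hw⟩ := hO.range_fromSpec.ge hsO
    refine ⟨hO.fromSpec '' (j.left ⁻¹' {t | ∃ c ∈ C,
        AlgSt.Points.map (FibCat.fpFst (BasedFunctor.comp (AlgSt.overMap l) y) f) c = ptAt T t})ᶜ, ?_,
      hO.fromSpec.isOpenEmbedding.isOpenMap _ hcl.isOpen_compl, w, ?_, hw⟩
    · rintro _ ⟨w', hw', rfl⟩
      exact hw'
    · intro h
      exact hs' (hw ▸ h : s ∈ _)
  intro C hC
  have hcl := isClosed_image_overMap (f := f) k h𝒳 h𝒴 i key hC
  rw [← isOpen_compl_iff, ← Set.image_preimage_eq (s := _ᶜ) (hs hy')]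
  exact hk _ hcl.isOpen_compl

theorem isUnivClosed (h𝒳 : AlgSt.IsAlgStack Kₑ 𝒳) (h𝒴 : AlgSt.IsAlgStack Kₑ 𝒴)
    (hn𝒴 : AlgSt.SmoothLocally (fun T => IsLocallyNoetherian T) 𝒴)
    (hqc : AlgSt.IsQuasiCompactMor Kₑ f) (hft : AlgSt.LocQ (LocP @LocallyOfFiniteType) f) (hval : DvrExtLift f) :
    AlgSt.IsUnivClosed Kₑ f := fun 𝒵 h𝒵 g C hC => by
  obtain ⟨U, x, hx, hx'⟩ := id h𝒵.atlas
  rw [← isOpen_compl_iff]
  refine isOpen_of_chart h𝒵.isStack.1 (repByAlgSpWith_flat_of_smooth hx) (repByAlgSpWith_lfp_of_smooth hx) hx' ?_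
  exact (isClosed_preimage_image h𝒳 h𝒴 h𝒵.isStack.1 h𝒵.diag h𝒵.atlas g x (Iso.refl _)
    (closedImg h𝒳 h𝒴 hn𝒴 hqc hft hval (BasedFunctor.comp x g)) hC).isOpen_compl

end Groth.Agent.AlgStLib.DvrUC
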