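import Groth.Agent.AlgStLib.Calculus

/-!
# The self product of a base change of a functor
-/

set_option backward.isDefEq.respectTransparency false
set_option backward.isDefEq.respectTransparency.types false

universe u

open CategoryTheory CategoryTheory.Functor CategoryTheory.Limits AlgebraicGeometry Opposite AlgSp

namespace Groth.Agent.AlgStLib

open Groth.Agent.FibBase

variable {S : Scheme.{u}} {𝒰 𝒳 𝒴 : AlgSt.Cat S} (y : 𝒰 ⥤ᵇ 𝒴) (f : 𝒳 ⥤ᵇ 𝒴)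

/-- `(U ×_Y X) ×_X (U ×_Y X) ⟶ U ×_Y U`. -/
def selfProdMap : FibCat.fp (FibCat.fpSnd y f) (FibCat.fpSnd y f) ⥤ᵇ FibCat.fp y y :=
  FibCat.fpLift (BasedFunctor.comp (FibCat.fpFst _ _) (FibCat.fpFst y f))
    (BasedFunctor.comp (FibCat.fpSnd _ _) (FibCat.fpFst y f))
    (whiskerLeftIso (FibCat.fpFst (FibCat.fpSnd y f) (FibCat.fpSnd y f)) (FibCat.fpIso y f) ≪≫
      whiskerRightIso (FibCat.fpIso (FibCat.fpSnd y f) (FibCat.fpSnd y f)) f ≪≫
      whiskerLeftIso (FibCat.fpSnd (FibCat.fpSnd y f) (FibCat.fpSnd y f)) (FibCat.fpIso y f).symm)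

theorem selfProdMap_iso (x : (FibCat.fp (FibCat.fpSnd y f) (FibCat.fpSnd y f)).obj) :
    ((selfProdMap y f).obj x).obj.iso.hom =
      x.obj.fst.obj.iso.hom ≫ f.map x.obj.iso.hom ≫ x.obj.snd.obj.iso.inv := rfl

/-- `(U ×_Y X) ×_X (U ×_Y X) ⟶ (U ×_Y U) ×_U (U ×_Y X)`. -/
def selfProdLift : FibCat.fp (FibCat.fpSnd y f) (FibCat.fpSnd y f) ⥤ᵇ
    FibCat.fp (FibCat.fpFst y y) (FibCat.fpFst y f) :=
  FibCat.fpLift (selfProdMap y f) (FibCat.fpFst _ _)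
    (Iso.refl (BasedFunctor.comp (FibCat.fpFst (FibCat.fpSnd y f) (FibCat.fpSnd y f)) (FibCat.fpFst y f)))

theorem selfProdLift_isEquivOver : FibCat.IsEquivOver (selfProdLift y f) := by
  refine isEquivOver_of_exists_iso _ ⟨fun {a b} t => ?_⟩ ⟨fun {a b} t t' h => ?_⟩ fun η => ?_
  · let p₂ := t.hom.fst.hom.snd
    let s₁ := t.hom.snd
    have h₁ : t.hom.fst.hom.fst = s₁.hom.fst := by
      have h : t.hom.fst.hom.fst ≫ 𝟙 _ = 𝟙 _ ≫ s₁.hom.fst := t.hom.w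
      exact ((Category.comp_id _).symm.trans h).trans (Category.id_comp _)
    let q : a.obj.snd.obj.snd ⟶ b.obj.snd.obj.snd := a.obj.iso.inv ≫ s₁.hom.snd ≫ b.obj.iso.hom
    have w : y.map t.hom.fst.hom.fst ≫ b.obj.fst.obj.iso.hom ≫ f.map b.obj.iso.hom ≫ b.obj.snd.obj.iso.inv =
        (a.obj.fst.obj.iso.hom ≫ f.map a.obj.iso.hom ≫ a.obj.snd.obj.iso.inv) ≫ y.map p₂ := t.hom.fst.hom.w
    have w₁ : y.map s₁.hom.fst ≫ b.obj.fst.obj.iso.hom = a.obj.fst.obj.iso.hom ≫ f.map s₁.hom.snd := s₁.hom.w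
    rw [h₁, reassoc_of% w₁] at w
    simp only [Category.assoc] at w
    have w' : y.map p₂ ≫ b.obj.snd.obj.iso.hom = a.obj.snd.obj.iso.hom ≫ f.map q := by
      rw [cancel_epi a.obj.fst.obj.iso.hom] at w
      rw [← cancel_epi a.obj.snd.obj.iso.inv, Iso.inv_hom_id_assoc, ← cancel_epi (f.map a.obj.iso.hom),
        ← reassoc_of% w]
      simp only [q, Iso.inv_hom_id, Category.comp_id, ← f.toFunctor.map_comp, Iso.hom_inv_id_assoc]
    let s₂ : a.obj.snd ⟶ b.obj.snd := ObjectProperty.homMk ⟨p₂, q, w'⟩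
    refine ⟨ObjectProperty.homMk ⟨s₁, s₂, ?_⟩, ObjectProperty.hom_ext _ (CategoricalPullback.hom_ext
      (ObjectProperty.hom_ext _ (CategoricalPullback.hom_ext h₁.symm rfl)) rfl)⟩
    show s₁.hom.snd ≫ b.obj.iso.hom = a.obj.iso.hom ≫ q
    simp [q]
  · have h₁ : t.hom.fst = t'.hom.fst := congrArg (fun s => s.hom.snd) h
    have h₂ : t.hom.snd.hom.fst = t'.hom.snd.hom.fst := congrArg (fun s => s.hom.fst.hom.snd) h
    have w₁ : t.hom.fst.hom.snd ≫ b.obj.iso.hom = a.obj.iso.hom ≫ t.hom.snd.hom.snd := t.hom.w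
    have w₂ : t'.hom.fst.hom.snd ≫ b.obj.iso.hom = a.obj.iso.hom ≫ t'.hom.snd.hom.snd := t'.hom.w
    refine ObjectProperty.hom_ext _ (CategoricalPullback.hom_ext h₁
      (ObjectProperty.hom_ext _ (CategoricalPullback.hom_ext h₂ ?_)))
    rw [← cancel_epi a.obj.iso.hom, ← w₁, ← w₂, h₁]
  · have hη := fp_iso_lift η
    have hξ := fp_iso_lift η.obj.snd
    have hθ := fp_iso_lift η.obj.fst
    have hu : 𝒰.p.obj η.obj.fst.obj.snd = 𝒰.p.obj η.obj.fst.obj.fst := snd_proj η.obj.fst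
    have h₁ : 𝒰.p.obj η.obj.snd.obj.fst = 𝒰.p.obj η.obj.fst.obj.fst := snd_proj η
    have hη' : 𝒰.p.IsHomLift (𝟙 (𝒰.p.obj η.obj.fst.obj.fst)) η.obj.iso.hom := hη
    have hι : 𝒴.p.IsHomLift (𝟙 (𝒰.p.obj η.obj.fst.obj.fst)) (y.toFunctor.mapIso η.obj.iso).hom :=
      y.preserves_isHomLift _ η.obj.iso.hom
    have hθ' := IsHomLift.lift_id_inv 𝒴.p (𝒰.p.obj η.obj.fst.obj.fst) η.obj.fst.obj.iso
    have hξ' := isHomLift_id_congr h₁ hξ
    let α : y.obj η.obj.fst.obj.snd ≅ f.obj η.obj.snd.obj.snd :=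
      η.obj.fst.obj.iso.symm ≪≫ y.toFunctor.mapIso η.obj.iso ≪≫ η.obj.snd.obj.iso
    have hα : 𝒴.p.IsHomLift (𝟙 (𝒰.p.obj η.obj.fst.obj.fst)) α.hom := by
      show 𝒴.p.IsHomLift _ (η.obj.fst.obj.iso.inv ≫ (y.toFunctor.mapIso η.obj.iso).hom ≫ η.obj.snd.obj.iso.hom)
      infer_instance
    let z : (FibCat.fp y f).obj := ⟨⟨η.obj.fst.obj.snd, η.obj.snd.obj.snd, α⟩, isHomLift_id_congr hu.symm hα⟩
    let x : (FibCat.fp (FibCat.fpSnd y f) (FibCat.fpSnd y f)).obj :=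
      ⟨⟨η.obj.snd, z, Iso.refl _⟩, IsHomLift.id ((snd_proj η.obj.snd).trans rfl)⟩
    let i₁ : ((selfProdLift y f).obj x).obj.fst ≅ η.obj.fst :=
      fpIsoMk (x := (selfProdMap y f).obj x) (y := η.obj.fst) η.obj.iso.symm (Iso.refl _) (by
        show y.map η.obj.iso.inv ≫ η.obj.fst.obj.iso.hom =
          (η.obj.snd.obj.iso.hom ≫ f.map (𝟙 _) ≫ α.inv) ≫ y.map (𝟙 _)
        simp [α])
    refine ⟨x, fpIsoMk (x := (selfProdLift y f).obj x) (y := η) i₁ (Iso.refl _) ?_, ?_⟩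
    · show η.obj.iso.inv ≫ η.obj.iso.hom = 𝟙 _ ≫ 𝟙 _
      simp
    · exact fp_isHomLift (𝟙 _) _ (h := fp_isHomLift (𝟙 _) _ (h := IsHomLift.lift_id_inv 𝒰.p (𝒰.p.obj η.obj.fst.obj.fst) η.obj.iso))

/-- The symmetry of the self product map. -/
def selfProdMapSwap :
    BasedFunctor.comp (fpSwap (FibCat.fpSnd y f) (FibCat.fpSnd y f))
      (BasedFunctor.comp (selfProdMap y f) (fpSwap y y)) ≅ selfProdMap y f :=
  BasedNatIso.mkNatIso
    (NatIso.ofComponents (fun x => fpIsoMk (x := (BasedFunctor.comp (fpSwap (FibCat.fpSnd y f) (FibCat.fpSnd y f))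
        (BasedFunctor.comp (selfProdMap y f) (fpSwap y y))).obj x) (y := (selfProdMap y f).obj x)
        (Iso.refl _) (Iso.refl _) (by
          show y.map (𝟙 _) ≫ x.obj.fst.obj.iso.hom ≫ f.map x.obj.iso.hom ≫ x.obj.snd.obj.iso.inv =
            ((x.obj.fst.obj.iso.hom ≫ f.map x.obj.iso.hom) ≫ x.obj.snd.obj.iso.inv) ≫ y.map (𝟙 _)
          simp))
      (fun {x x'} φ => by
        refine ObjectProperty.hom_ext _ (CategoricalPullback.hom_ext ?_ ?_)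
        · show φ.hom.fst.hom.fst ≫ 𝟙 _ = 𝟙 _ ≫ φ.hom.fst.hom.fst
          simp
        · show φ.hom.snd.hom.fst ≫ 𝟙 _ = 𝟙 _ ≫ φ.hom.snd.hom.fst
          simp))
    (fun x => fp_isHomLift (F := y) (G := y) (𝟙 _) _ (h := IsHomLift.id (p := 𝒰.p) rfl))

end Groth.Agent.AlgStLib
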