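import Groth.Agent.AlgStLib.Bootstrap
import Groth.Agent.GerbFlat.Section
import Groth.Agent.StkLib.Pullback
import Groth.Agent.AlgStLib.SheafGlue
import Groth.Agent.AlgSpDec.SpQuot

/-!
# A fully faithful functor from a stack with an fppf cover to an algebraic stack is a monomorphism
-/

set_option autoImplicit false
set_option backward.isDefEq.respectTransparency false
set_option backward.isDefEq.respectTransparency.types false

universe u

open CategoryTheory CategoryTheory.Functor CategoryTheory.Limits AlgebraicGeometry Opposite AlgSp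
open Groth.Agent.AlgSpLib Groth.Agent.AlgSpDec Groth.Agent.FibBase Groth.Agent.GerbFlat

namespace Groth.Agent.AlgStLib

variable {S : Scheme.{u}} {𝒜 𝒳 𝒵 : AlgSt.Cat S}

/-- A fully faithful functor of a sheaf into a slice is injective on sections. -/
theorem mono_spMapOfOver {F : Sp S} {U : Over S} (Φ : AlgSt.ofSp F ⥤ᵇ FibCat.overCat U)
    [Φ.toFunctor.Full] [Φ.toFunctor.Faithful] : Mono (AlgSt.spMapOfOver Φ) := by
  refine ⟨fun {Z} g h e => SheafGlue.hom_ext_points fun W z => ?_⟩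
  let a : (AlgSt.ofSp F).obj := ⟨W, (J S).uliftYonedaEquiv (z ≫ g)⟩
  let b : (AlgSt.ofSp F).obj := ⟨W, (J S).uliftYonedaEquiv (z ≫ h)⟩
  have h' : AlgSt.secHom Φ a = AlgSt.secHom Φ b := by
    have h1 := congrArg (J S).uliftYonedaEquiv (congrArg (z ≫ ·) e)
    simp only [← Category.assoc] at h1
    have h2 : (AlgSt.spMapOfOver Φ).hom.app (op W) a.sec = (AlgSt.spMapOfOver Φ).hom.app (op W) b.sec :=
      ((J S).uliftYonedaEquiv_comp (z ≫ g) _).symm.trans (h1.trans ((J S).uliftYonedaEquiv_comp (z ≫ h) _))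
    rw [AlgSt.spMapOfOver_app, AlgSt.spMapOfOver_app] at h2
    exact congrArg ULift.down h2
  have ea : (Φ.obj a).left = (Φ.obj b).left := (Φ.w_obj a).trans (Φ.w_obj b).symm
  let t : Φ.obj a ⟶ Φ.obj b := Over.homMk (eqToHom ea) (by
    have h2 : eqToHom (Φ.w_obj a) ≫ AlgSt.secHom Φ b = (Φ.obj a).hom := by
      rw [← h', AlgSt.secHom, ← Category.assoc, eqToHom_trans, eqToHom_refl, Category.id_comp]
    rw [AlgSt.secHom, ← Category.assoc, eqToHom_trans] at h2
    exact h2)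
  obtain ⟨l, hl⟩ := Φ.toFunctor.map_surjective t
  have hl' : l.hom = 𝟙 W := by
    have h3 := Functor.congr_hom Φ.w l
    change (Φ.map l).left = _ at h3
    rw [hl] at h3
    change eqToHom ea = _ at h3
    have h4 := congrArg (fun k => eqToHom (Φ.w_obj a).symm ≫ k ≫ eqToHom (Φ.w_obj b)) h3
    simp only [Category.assoc, eqToHom_trans, eqToHom_trans_assoc, eqToHom_refl, Category.id_comp,
      Category.comp_id] at h4
    exact h4.symm
  have h5 := l.map_sec
  rw [hl'] at h5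
  exact (J S).uliftYonedaEquiv.injective (h5.symm.trans (res_id F.obj _ rfl _))

theorem mono_spMapOfOver_comp {F : Sp S} {U : Over S} {𝒲 : AlgSt.Cat S} (E : AlgSt.ofSp F ⥤ᵇ 𝒲)
    (hE : FibCat.IsEquivOver E) (Ψ : 𝒲 ⥤ᵇ FibCat.overCat U) [hf : Ψ.toFunctor.Full] [hg : Ψ.toFunctor.Faithful] :
    Mono (AlgSt.spMapOfOver (BasedFunctor.comp E Ψ)) := by
  haveI := full_of_isEquivOver hE
  haveI := faithful_of_isEquivOver hE
  exact @mono_spMapOfOver S F U (BasedFunctor.comp E Ψ) (@Functor.Full.comp _ _ _ _ _ _ E.toFunctor Ψ.toFunctor _ hf)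
    (@Functor.Faithful.comp _ _ _ _ _ _ E.toFunctor Ψ.toFunctor _ hg)

theorem repOver_mono {U : Over S} {𝒲 : AlgSt.Cat S} (F : AlgSp.Space S) (E : AlgSt.ofSp F.obj ⥤ᵇ 𝒲)
    (hE : FibCat.IsEquivOver E) (Ψ : 𝒲 ⥤ᵇ FibCat.overCat U) [Ψ.toFunctor.Full] [Ψ.toFunctor.Faithful] :
    RepOver (MorphismProperty.monomorphisms (Sp S)) Ψ :=
  ⟨F, E, hE, (MorphismProperty.monomorphisms.iff _).2 (mono_spMapOfOver_comp E hE Ψ)⟩

set_option maxHeartbeats 300000 in
/-- A fully faithful functor to an algebraic stack from a stack with an fppf cover by a category whose map to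
the algebraic stack is representable is a monomorphism. -/
theorem isMono_of_full_faithful_of_fppf_cover (h𝒳 : AlgSt.IsAlgStack Scheme.fppfPrecoverage 𝒳)
    (h𝒜 : Stk.IsStack (J S) 𝒜) (h𝒵 : FibCat.IsFibGrpd 𝒵.p) (ι : 𝒜 ⥤ᵇ 𝒳) [ι.toFunctor.Full] [ι.toFunctor.Faithful]
    (q : 𝒵 ⥤ᵇ 𝒜) (hq : AlgSt.RepByAlgSpWith P3 q) (hqι : AlgSt.RepByAlgSp1 (BasedFunctor.comp q ι)) :
    AlgSt.IsMono ι := by
  intro U y
  have hX := h𝒳.isStack.1
  have hZst : Stk.IsStack (J S) (FibCat.fp y ι) := Groth.Agent.StkLib.isStack_fp y ι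
    (isAlgStack_overCat U).isStack h𝒜 (Groth.Agent.StkLib.isPrestack_of_isStack h𝒳.isStack)
  have hff : (FibCat.fpFst y ι).toFunctor.Full ∧ (FibCat.fpFst y ι).toFunctor.Faithful := by
    refine ⟨⟨fun {η η'} a => ?_⟩, ⟨fun {η η'} m m' h => ?_⟩⟩
    · obtain ⟨b, hb⟩ := ι.toFunctor.map_surjective (η.obj.iso.inv ≫ y.map a ≫ η'.obj.iso.hom)
      refine ⟨ObjectProperty.homMk ⟨a, b, ?_⟩, rfl⟩
      rw [show ι.map b = _ from hb]
      simp
    · have h' : m.hom.fst = m'.hom.fst := h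
      refine ObjectProperty.hom_ext _ (CategoricalPullback.hom_ext h' (ι.toFunctor.map_injective ?_))
      rw [← cancel_epi η.obj.iso.hom]
      have w₁ : y.map m.hom.fst ≫ η'.obj.iso.hom = η.obj.iso.hom ≫ ι.map m.hom.snd := m.hom.w
      have w₂ : y.map m'.hom.fst ≫ η'.obj.iso.hom = η.obj.iso.hom ≫ ι.map m'.hom.snd := m'.hom.w
      rw [← w₁, ← w₂, h']
  obtain ⟨_, _⟩ := hff
  have hs : FibCat.IsFibSetoid (FibCat.fp y ι).p := isFibSetoid_iff.2 ⟨hZst.1, ⟨fun {η η'} m m' h =>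
    (FibCat.fpFst y ι).toFunctor.map_injective (Over.OverMorphism.ext h)⟩⟩
  let P := clsPsh (FibCat.fp y ι) hs.1
  have he : FibCat.IsEquivOver (toCls (FibCat.fp y ι) hs.1) := toCls_isEquivOver _ hs.1 hs
  have hP : Presheaf.IsSheaf (J S) P := (isSheaf_iff_isSheaf_of_type _ _).2
    ((StkLib.isStack_ofPsh_iff P (J S)).1 ((StkLib.isStack_iff_of_isEquivOver (J := J S) he).1 hZst))
  let F : Sp S := ⟨P, hP⟩
  let k : FibCat.fp y ι ⥤ᵇ AlgSt.ofSp F := toCls (FibCat.fp y ι) hs.1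
  obtain ⟨I, c, hc⟩ : AlgSt.RepByAlgSp (FibCat.fp (FibCat.fpSnd y ι) q) :=
    (repByAlgSp_iff_of_equiv _ (pasteHor_isEquivOver y q ι)).2 (hqι U y)
  let π := FibCat.fpFst (FibCat.fpSnd y ι) q
  have hπ : AlgSt.RepByAlgSpWith P3 (BasedFunctor.comp π k) :=
    (repByAlgSpWith_iff_of_square (f := BasedFunctor.comp π k) (f' := π) (a := BasedFunctor.id _) (b := k)
      isEquivOver_id he (Iso.refl _)).2 (repByAlgSpWith_fpFst (FibCat.fpSnd y ι) hq)
  let p : I.obj ⟶ F := spHom (BasedFunctor.comp c (BasedFunctor.comp π k))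
  have hF : IsAlgSpace F := isAlgSpace_of_fppf_space_cover I.property
    (repBySpWith_of_repByAlgSpWith (BasedFunctor.comp π k) c stableBC_P3 hc hπ
      (isoOfSpMap (BasedFunctor.comp c (BasedFunctor.comp π k))) : RepBySpWith P3 p.hom)
  obtain ⟨E, hE, -⟩ := isEquivOver_inv he
  exact @repOver_mono S U (FibCat.fp y ι) ⟨F, hF⟩ E hE (FibCat.fpFst y ι) _ _

end Groth.Agent.AlgStLib
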