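import Groth.Agent.AlgStLib.FpSelf
import Groth.Agent.AlgStLib.OpenSub
import Groth.Agent.AlgStLib.UnivPts
import Groth.Agent.AlgStLib.LocQCalc
import Groth.Agent.AlgStLib.DiagLFT
import Groth.Agent.AlgSpLib.LargestOpen
import Groth.Agent.AlgSpDec.LimOpen

/-!
# The largest open substack on which a representable functor has a property
-/

set_option backward.isDefEq.respectTransparency false
set_option backward.isDefEq.respectTransparency.types false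

universe u

open CategoryTheory CategoryTheory.Functor CategoryTheory.Limits AlgebraicGeometry Opposite AlgSp

namespace Groth.Agent.AlgStLib

open Groth.Agent.FibBase Groth.Agent.AlgSpLib

variable {S : Scheme.{u}} {𝒳 𝒴 𝒵 : AlgSt.Cat S} {P Q R : MorphismProperty (Sp S)}

local notation "K₀" => Scheme.fppfPrecoverage

/-- `O` is the largest open set on which `f` has `P`. -/
def Lgst (P : MorphismProperty (Sp S)) {X Y : AlgSp.Space S} (f : X ⟶ Y) (O : Set (Points X.obj)) : Prop :=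
  ∃ (W : AlgSp.Space S) (w : W ⟶ X), (AlgSp.RepWith @IsOpenImmersion w.hom ∧ P (w ≫ f).hom ∧
    ∀ (W₁ : AlgSp.Space S) (w₁ : W₁ ⟶ X), AlgSp.RepWith @IsOpenImmersion w₁.hom → P (w₁ ≫ f).hom →
      ∃ k : W₁ ⟶ W, k ≫ w = w₁) ∧ Set.range (Points.map w.hom) = O

/-- The hypotheses for largest open substacks. -/
structure LgstHyp (P Q R : MorphismProperty (Sp S)) : Prop where
  bcP : StableBC P
  bcQ : StableBC Q
  bcR : StableBC R
  locP : IsLocalOnBase IsFppfCover P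
  locQ : IsLocalOnBase IsFppfCover Q
  locR : IsLocalOnBase IsFppfCover R
  smooth : ∀ (X Y : AlgSp.Space S) (g : X ⟶ Y), AlgSp.LocP @Smooth g.hom → R g.hom
  exist : ∀ (X Y : AlgSp.Space S) (f : X ⟶ Y), Q f.hom →
      ∃ (W : AlgSp.Space S) (w : W ⟶ X), (AlgSp.RepWith @IsOpenImmersion w.hom ∧ P (w ≫ f).hom ∧
          ∀ (W₁ : AlgSp.Space S) (w₁ : W₁ ⟶ X), AlgSp.RepWith @IsOpenImmersion w₁.hom → P (w₁ ≫ f).hom →
            ∃ k : W₁ ⟶ W, k ≫ w = w₁)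
  baseChange : ∀ (X Y X' Y' : AlgSp.Space S) (f : X ⟶ Y) (g : Y' ⟶ Y) (f' : X' ⟶ Y') (g' : X' ⟶ X),
      IsPullback g'.hom f'.hom f.hom g.hom → Q f.hom → R g.hom →
      ∀ (W : AlgSp.Space S) (w : W ⟶ X), (AlgSp.RepWith @IsOpenImmersion w.hom ∧ P (w ≫ f).hom ∧
          ∀ (W₁ : AlgSp.Space S) (w₁ : W₁ ⟶ X), AlgSp.RepWith @IsOpenImmersion w₁.hom → P (w₁ ≫ f).hom →
            ∃ k : W₁ ⟶ W, k ≫ w = w₁) →
        ∀ (W' : AlgSp.Space S) (w' : W' ⟶ X') (k : W' ⟶ W), IsPullback k.hom w'.hom w.hom g'.hom →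
          (AlgSp.RepWith @IsOpenImmersion w'.hom ∧ P (w' ≫ f').hom ∧
          ∀ (W₁ : AlgSp.Space S) (w₁ : W₁ ⟶ X'), AlgSp.RepWith @IsOpenImmersion w₁.hom → P (w₁ ≫ f').hom →
            ∃ k : W₁ ⟶ W', k ≫ w' = w₁)

theorem range_map_comp_subset {F G H : Sp S} (a : F ⟶ G) (b : G ⟶ H) :
    Set.range (Points.map (a ≫ b)) ⊆ Set.range (Points.map b) := by
  rintro _ ⟨x, rfl⟩
  exact ⟨_, (Points.map_comp _ _ x).symm⟩

theorem Lgst.unique {X Y : AlgSp.Space S} {f : X ⟶ Y} {O O' : Set (Points X.obj)} (h : Lgst P f O)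
    (h' : Lgst P f O') : O = O' := by
  obtain ⟨W, w, ⟨hw, hP, hmax⟩, rfl⟩ := h
  obtain ⟨W', w', ⟨hw', hP', hmax'⟩, rfl⟩ := h'
  obtain ⟨k, rfl⟩ := hmax W' w' hw' hP'
  obtain ⟨k', hk'⟩ := hmax' W w hw hP
  exact Set.Subset.antisymm ((congrArg (fun m : W ⟶ X => Set.range (Points.map m.hom)) hk').symm.trans_subset
    (range_map_comp_subset k'.hom _)) (range_map_comp_subset k.hom w.hom)

theorem Lgst.isOpen {X Y : AlgSp.Space S} {f : X ⟶ Y} {O : Set (Points X.obj)} (h : Lgst P f O) : IsOpen O := by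
  obtain ⟨W, w, ⟨hw, -, -⟩, rfl⟩ := h
  exact AlgSpDec.isOpen_range_openImm X.property hw

theorem Lgst.preimage (H : LgstHyp P Q R) {X Y X' Y' : AlgSp.Space S} {f : X ⟶ Y} {g : Y' ⟶ Y} {f' : X' ⟶ Y'}
    {g' : X' ⟶ X} (sq : IsPullback g'.hom f'.hom f.hom g.hom) (hf : Q f.hom) (hg : R g.hom)
    {O : Set (Points X.obj)} (h : Lgst P f O) : Lgst P f' (Points.map g'.hom ⁻¹' O) := by
  obtain ⟨W, w, hw, rfl⟩ := h
  let W' : AlgSp.Space S := ⟨pullback w.hom g'.hom, isAlgSpace_pullback W.property X'.property X.property _ _⟩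
  let w' : W' ⟶ X' := ObjectProperty.homMk (pullback.snd w.hom g'.hom)
  let k : W' ⟶ W := ObjectProperty.homMk (pullback.fst w.hom g'.hom)
  refine ⟨W', w', H.baseChange X Y X' Y' f g f' g' sq hf hg W w hw W' w' k (IsPullback.of_hasPullback _ _),
    Set.ext fun x => ⟨?_, fun hx => ?_⟩⟩
  · rintro ⟨z, rfl⟩
    refine ⟨Points.map k.hom z, ?_⟩
    have hc : k.hom ≫ w.hom = w'.hom ≫ g'.hom := pullback.condition
    rw [← Points.map_comp, ← Points.map_comp, hc]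
  · obtain ⟨v, hv⟩ := hx
    obtain ⟨z, -, hz⟩ := exists_point_of_isPullback (IsPullback.of_hasPullback w.hom g'.hom) hv
    exact ⟨z, hz⟩

/-- A 2-fibre product of sheaves as a pullback square. -/
theorem isPullback_of_equiv {F G H N : Sp S} {a : F ⟶ G} {b : H ⟶ G} {fst : N ⟶ F} {snd : N ⟶ H}
    (k : AlgSt.ofSp N ⥤ᵇ FibCat.fp (AlgSt.ofSpMap a) (AlgSt.ofSpMap b)) (hk : FibCat.IsEquivOver k)
    (j₁ : BasedFunctor.comp k (FibCat.fpFst _ _) ≅ AlgSt.ofSpMap fst)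
    (j₂ : BasedFunctor.comp k (FibCat.fpSnd _ _) ≅ AlgSt.ofSpMap snd) : IsPullback fst snd a b := by
  obtain ⟨k₀, hk₀, ⟨i₁⟩, ⟨i₂⟩⟩ := exists_spCone (IsPullback.of_hasPullback a b)
  obtain ⟨g₀, hg₀, -, ⟨j₀⟩⟩ := isEquivOver_inv hk₀
  let θ := spHom (BasedFunctor.comp k g₀)
  have : IsIso θ := isIso_spHom (isEquivOver_comp hk hg₀)
  have h₁ : θ ≫ pullback.fst a b = fst := by
    rw [← spHom_ofSpMap (pullback.fst a b), ← spHom_congr i₁, ← spHom_comp, ← spHom_ofSpMap fst, ← spHom_congr j₁]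
    exact spHom_congr (whiskerRightIso (whiskerLeftIso k j₀) (FibCat.fpFst _ _))
  have h₂ : θ ≫ pullback.snd a b = snd := by
    rw [← spHom_ofSpMap (pullback.snd a b), ← spHom_congr i₂, ← spHom_comp, ← spHom_ofSpMap snd, ← spHom_congr j₂]
    exact spHom_congr (whiskerRightIso (whiskerLeftIso k j₀) (FibCat.fpSnd _ _))
  exact IsPullback.of_iso_pullback ⟨by rw [← h₁, ← h₂, Category.assoc, Category.assoc, pullback.condition]⟩
    (asIso θ) h₁ h₂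

theorem spPt_map_eq {F G : Sp S} (Φ : AlgSt.ofSp F ⥤ᵇ AlgSt.ofSp G) (x : AlgSt.Points (AlgSt.ofSp F)) :
    spPt (AlgSt.Points.map Φ x) = Points.map (spHom Φ) (spPt x) := by
  rw [pts_map_congr (isoOfSpMap Φ), spPt_map_ofSpMap]

/-- The largest open of a chart descends to an open set of points. -/
theorem exists_open_of_lgst (H : LgstHyp P Q R) (h𝒳 : FibCat.IsFibGrpd 𝒳.p) (h𝒴 : FibCat.IsFibGrpd 𝒴.p)
    {f : 𝒳 ⥤ᵇ 𝒴} {U : AlgSp.Space S} {y : AlgSt.ofSp U.obj ⥤ᵇ 𝒴} (hy : AlgSt.RepByAlgSpWith (LocP @Smooth) y)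
    {F : AlgSp.Space S} {e : AlgSt.ofSp F.obj ⥤ᵇ FibCat.fp y f} (he : FibCat.IsEquivOver e)
    (hQ : Q (spHom (BasedFunctor.comp e (FibCat.fpFst y f)))) {O : Set (Points F.obj)}
    (hO : Lgst P (ObjectProperty.homMk (spHom (BasedFunctor.comp e (FibCat.fpFst y f))) : F ⟶ U) O) :
    ∃ T : Set (AlgSt.Points 𝒳), IsOpen T ∧
      AlgSt.Points.map (BasedFunctor.comp e (FibCat.fpSnd y f)) ⁻¹' T = spPt ⁻¹' O := by
  let a := spHom (BasedFunctor.comp e (FibCat.fpFst y f))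
  let b := BasedFunctor.comp e (FibCat.fpSnd y f)
  have hb : AlgSt.RepByAlgSpWith (LocP @Smooth) b := repByAlgSpWith_precomp he (repByAlgSpWith_fpSnd f hy)
  obtain ⟨V, E₀, hE₀⟩ := exists_space_fp_equiv (isFibGrpd_ofSp U.obj) h𝒴 (repByAlgSp1_of_repByAlgSpWith hy) U y
  obtain ⟨g₀, hg₀, -, ⟨j₀⟩⟩ := isEquivOver_inv hE₀
  obtain ⟨N, eN, heN⟩ := exists_space_fp_equiv (isFibGrpd_ofSp F.obj) h𝒳 (repByAlgSp1_of_repByAlgSpWith hb) F b
  obtain ⟨g, hg, ⟨jg⟩, ⟨jg'⟩⟩ := isEquivOver_inv he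
  let p₁ := spHom (BasedFunctor.comp E₀ (FibCat.fpFst y y))
  let p₂ := spHom (BasedFunctor.comp E₀ (FibCat.fpSnd y y))
  let π₁ := spHom (BasedFunctor.comp eN (FibCat.fpFst b b))
  let π₂ := spHom (BasedFunctor.comp eN (FibCat.fpSnd b b))
  let m := fpMap (F := FibCat.fpSnd y f) (G := FibCat.fpSnd y f) (F' := b) (G' := b) (a := e) (b := e)
    (c := BasedFunctor.id 𝒳) (Iso.refl _) (Iso.refl _)
  let eM := BasedFunctor.comp eN m
  have heM : FibCat.IsEquivOver eM := isEquivOver_comp heN (fpMap_isEquivOver _ _ he he)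
  let c : N.obj ⟶ V.obj := spHom (BasedFunctor.comp (BasedFunctor.comp eM (selfProdMap y f)) g₀)
  let β : BasedFunctor.comp g (AlgSt.ofSpMap a) ≅ FibCat.fpFst y f :=
    whiskerLeftIso g (isoOfSpMap (BasedFunctor.comp e (FibCat.fpFst y f))).symm ≪≫
      whiskerRightIso jg' (FibCat.fpFst y f)
  let α₁ : BasedFunctor.comp g₀ (AlgSt.ofSpMap p₁) ≅ FibCat.fpFst y y :=
    whiskerLeftIso g₀ (isoOfSpMap (BasedFunctor.comp E₀ (FibCat.fpFst y y))).symm ≪≫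
      whiskerRightIso j₀ (FibCat.fpFst y y)
  let α₂ : BasedFunctor.comp g₀ (AlgSt.ofSpMap p₂) ≅ FibCat.fpSnd y y :=
    whiskerLeftIso g₀ (isoOfSpMap (BasedFunctor.comp E₀ (FibCat.fpSnd y y))).symm ≪≫
      whiskerRightIso j₀ (FibCat.fpSnd y y)
  have : (BasedFunctor.id (AlgSt.ofSp U.obj)).toFunctor.Full := inferInstanceAs (𝟭 _).Full
  have : (BasedFunctor.id (AlgSt.ofSp U.obj)).toFunctor.Faithful := inferInstanceAs (𝟭 _).Faithful
  let M₁ := fpMap (F := AlgSt.ofSpMap p₁) (G := AlgSt.ofSpMap a) (F' := FibCat.fpFst y y) (G' := FibCat.fpFst y f)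
    (a := g₀) (b := g) (c := BasedFunctor.id _) α₁ β.symm
  let M₂ := fpMap (F := AlgSt.ofSpMap p₂) (G := AlgSt.ofSpMap a) (F' := FibCat.fpFst y y) (G' := FibCat.fpFst y f)
    (a := BasedFunctor.comp (fpSwap y y) g₀) (b := g) (c := BasedFunctor.id _)
    (whiskerLeftIso (fpSwap y y) α₂) β.symm
  let sw := fpSwap (FibCat.fpSnd y f) (FibCat.fpSnd y f)
  have sq₁ : IsPullback π₁ c a p₁ :=
    (isPullback_of_equiv (fst := c) (snd := π₁) (BasedFunctor.comp (BasedFunctor.comp eM (selfProdLift y f)) M₁)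
      (isEquivOver_comp (isEquivOver_comp heM (selfProdLift_isEquivOver y f)) (fpMap_isEquivOver _ _ hg₀ hg))
      (isoOfSpMap (BasedFunctor.comp (BasedFunctor.comp eM (selfProdMap y f)) g₀))
      (whiskerLeftIso (BasedFunctor.comp eN (FibCat.fpFst b b)) jg ≪≫
        isoOfSpMap (BasedFunctor.comp eN (FibCat.fpFst b b)))).flip
  have sq₂ : IsPullback π₂ c a p₂ :=
    (isPullback_of_equiv (fst := c) (snd := π₂)
      (BasedFunctor.comp (BasedFunctor.comp (BasedFunctor.comp eM sw) (selfProdLift y f)) M₂)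
      (isEquivOver_comp (isEquivOver_comp (isEquivOver_comp heM (fpSwap_isEquivOver _ _))
        (selfProdLift_isEquivOver y f)) (fpMap_isEquivOver _ _ (isEquivOver_comp (fpSwap_isEquivOver y y) hg₀) hg))
      (whiskerRightIso (whiskerLeftIso eM (selfProdMapSwap y f)) g₀ ≪≫
        isoOfSpMap (BasedFunctor.comp (BasedFunctor.comp eM (selfProdMap y f)) g₀))
      (whiskerLeftIso (BasedFunctor.comp eN (FibCat.fpSnd b b)) jg ≪≫
        isoOfSpMap (BasedFunctor.comp eN (FibCat.fpSnd b b)))).flip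
  have hp₁ : R p₁ := H.smooth V U (ObjectProperty.homMk p₁) (locP_spHom_fpFst U.property V.property hy E₀ hE₀)
  have hp₂ : R p₂ := H.smooth V U (ObjectProperty.homMk p₂) (locP_spHom_fpSnd U.property V.property hy E₀ hE₀)
  have h₁ := Lgst.preimage H (g := (ObjectProperty.homMk p₁ : V ⟶ U)) (f' := (ObjectProperty.homMk c : N ⟶ V))
    (g' := (ObjectProperty.homMk π₁ : N ⟶ F)) sq₁ hQ hp₁ hO
  have h₂ := Lgst.preimage H (g := (ObjectProperty.homMk p₂ : V ⟶ U)) (f' := (ObjectProperty.homMk c : N ⟶ V))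
    (g' := (ObjectProperty.homMk π₂ : N ⟶ F)) sq₂ hQ hp₂ hO
  have hN : Points.map π₁ ⁻¹' O = Points.map π₂ ⁻¹' O := h₁.unique h₂
  have hinv : ∀ ξ η, AlgSt.Points.map b ξ = AlgSt.Points.map b η → spPt ξ ∈ O → spPt η ∈ O := fun ξ η h hξ => by
    obtain ⟨w, hw₁, hw₂⟩ := exists_pts_fp (isFibGrpd_ofSp F.obj) h𝒳 (isFibGrpd_ofSp F.obj) b b ξ η h
    obtain ⟨n, rfl⟩ := (pts_bijective_of_isEquivOver heN).2 w
    rw [← pts_map_comp] at hw₁ hw₂
    rw [← hw₁, spPt_map_eq] at hξ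
    rw [← hw₂, spPt_map_eq]
    exact (Set.ext_iff.1 hN _).1 hξ
  refine ⟨AlgSt.Points.map b '' (spPt ⁻¹' O), isOpenMap_pts_map_ofSp h𝒳 F (repByAlgSpWith_flat_of_smooth hb)
    (repByAlgSpWith_lfp_of_smooth hb) _ (hO.isOpen.preimage (isHomeomorph_spPt F.property).continuous),
    Set.Subset.antisymm ?_ (Set.subset_preimage_image _ _)⟩
  rintro η ⟨ξ, hξ, h⟩
  exact hinv ξ η h hξ

/-- The inverse image of an open substack in a chart. -/
theorem exists_preimage_sub (hPb : StableBC P) (hPl : IsLocalOnBase IsFppfCover P) (h𝒳 : AlgSt.IsAlgStack K₀ 𝒳)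
    (h𝒴 : AlgSt.IsAlgStack K₀ 𝒴) {f : 𝒳 ⥤ᵇ 𝒴} (hf : AlgSt.RepByAlgSp1 f) {U : AlgSp.Space S}
    {y : AlgSt.ofSp U.obj ⥤ᵇ 𝒴} (hy : AlgSt.RepByAlgSpWith (LocP @Smooth) y)
    (hy' : AlgSt.RepByAlgSpWith IsSurjectiveMor y) {F : AlgSp.Space S} {e : AlgSt.ofSp F.obj ⥤ᵇ FibCat.fp y f}
    (he : FibCat.IsEquivOver e) {Q₁ : 𝒳.obj → Prop} (hQ₁ : AlgSt.IsOpenSubstack 𝒳 Q₁ K₀) :
    ∃ (W : AlgSp.Space S) (w : W ⟶ F), RepWith @IsOpenImmersion w.hom ∧
      spPt ⁻¹' Set.range (Points.map w.hom) =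
        AlgSt.Points.map (BasedFunctor.comp e (FibCat.fpSnd y f)) ⁻¹'
          Set.range (AlgSt.Points.map (AlgSt.subIncl 𝒳 Q₁)) ∧
      (AlgSt.RepByAlgSpWith P (BasedFunctor.comp (AlgSt.subIncl 𝒳 Q₁) f) ↔
        P (w.hom ≫ spHom (BasedFunctor.comp e (FibCat.fpFst y f)))) := by
  let b := BasedFunctor.comp e (FibCat.fpSnd y f)
  let incl := AlgSt.subIncl 𝒳 Q₁
  have hi := repByAlgSp1_of_repByAlgSpWith hQ₁.2.2
  obtain ⟨W, e₁, he₁⟩ := exists_space_fp_equiv hQ₁.2.1.isStack.1 h𝒳.isStack.1 hi F b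
  let w : W ⟶ F := ObjectProperty.homMk (spHom (BasedFunctor.comp e₁ (FibCat.fpFst b incl)))
  have hw : RepWith @IsOpenImmersion w.hom :=
    property_spHom_fpFst stableBC_of (fun _ _ a ha => repWith_of_repBySpWith a ha) F.property W.property
      hQ₁.2.2 e₁ he₁
  let k := BasedFunctor.comp (BasedFunctor.comp e₁ (fpMap (F := FibCat.fpSnd y f) (G := incl) (F' := b)
    (G' := incl) (a := e) (b := BasedFunctor.id _) (c := BasedFunctor.id 𝒳) (Iso.refl _) (Iso.refl _)))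
    (pasteHor y incl f)
  have hk : FibCat.IsEquivOver k := isEquivOver_comp (isEquivOver_comp he₁
    (fpMap_isEquivOver _ _ he isEquivOver_id)) (pasteHor_isEquivOver y incl f)
  let a := spHom (BasedFunctor.comp e (FibCat.fpFst y f))
  let kj : BasedFunctor.comp k (FibCat.fpFst y (BasedFunctor.comp incl f)) ≅
      BasedFunctor.comp (BasedFunctor.comp e₁ (FibCat.fpFst b incl)) (BasedFunctor.comp e (FibCat.fpFst y f)) :=
    Iso.refl _
  have hka : spHom (BasedFunctor.comp k (FibCat.fpFst y (BasedFunctor.comp incl f))) = w.hom ≫ a := by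
    rw [spHom_congr kj, spHom_comp]
    rfl
  refine ⟨W, w, hw, Set.ext fun ξ => ⟨?_, fun hξ => ?_⟩, fun h => ?_, fun h => ?_⟩
  · rintro ⟨n, hn⟩
    obtain ⟨n, rfl⟩ := spPt_bijective.2 n
    obtain rfl : AlgSt.Points.map (BasedFunctor.comp e₁ (FibCat.fpFst b incl)) n = ξ :=
      spPt_bijective.1 ((spPt_map_eq _ _).trans hn)
    refine ⟨AlgSt.Points.map (BasedFunctor.comp e₁ (FibCat.fpSnd b incl)) n, ?_⟩
    rw [← pts_map_comp, ← pts_map_comp]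
    exact (pts_map_congr (whiskerLeftIso e₁ (FibCat.fpIso b incl)) n).symm
  · obtain ⟨q, hq⟩ := hξ
    obtain ⟨o, ho₁, -⟩ := exists_pts_fp hQ₁.2.1.isStack.1 h𝒳.isStack.1 (isFibGrpd_ofSp F.obj) incl b ξ q hq.symm
    obtain ⟨n, rfl⟩ := (pts_bijective_of_isEquivOver he₁).2 o
    refine ⟨spPt n, ?_⟩
    rw [← ho₁, ← pts_map_comp, spPt_map_eq]
    rfl
  · rw [← hka]
    exact property_spHom_fpFst hPb (fun hF hG _ ha => property_of_repBySpWith hPl hF hG ha) U.property W.property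
      h k hk
  · refine repByAlgSpWith_of_locEssSurj hPb hPl (repByAlgSp1_comp hQ₁.2.1.isStack.1 h𝒳.isStack.1 hi hf)
      (locEssSurj_of_atlas hy hy') ?_
    refine (repByAlgSpWith_iff_of_square (f := FibCat.fpFst y (BasedFunctor.comp incl f))
      (f' := AlgSt.ofSpMap (w.hom ≫ a)) (a := k) (b := BasedFunctor.id _) hk isEquivOver_id ?_).2
      (repByAlgSpWith_ofSpMap hPb W.property U.property _ h)
    exact eqToIso (congrArg (fun m => AlgSt.ofSpMap m) hka.symm) ≪≫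
      (isoOfSpMap (BasedFunctor.comp k (FibCat.fpFst y (BasedFunctor.comp incl f)))).symm

/-- A largest open of one chart gives a largest open substack. -/
theorem largest_of_chart (hPb : StableBC P) (hPl : IsLocalOnBase IsFppfCover P) (h𝒳 : AlgSt.IsAlgStack K₀ 𝒳)
    (h𝒴 : AlgSt.IsAlgStack K₀ 𝒴) {f : 𝒳 ⥤ᵇ 𝒴} (hf : AlgSt.RepByAlgSp1 f) {U : AlgSp.Space S}
    {y : AlgSt.ofSp U.obj ⥤ᵇ 𝒴} (hy : AlgSt.RepByAlgSpWith (LocP @Smooth) y)
    (hy' : AlgSt.RepByAlgSpWith IsSurjectiveMor y) {F : AlgSp.Space S} {e : AlgSt.ofSp F.obj ⥤ᵇ FibCat.fp y f}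
    (he : FibCat.IsEquivOver e) {O : Set (Points F.obj)}
    (hO : Lgst P (ObjectProperty.homMk (spHom (BasedFunctor.comp e (FibCat.fpFst y f))) : F ⟶ U) O)
    {T : Set (AlgSt.Points 𝒳)} (hT : IsOpen T)
    (hTO : AlgSt.Points.map (BasedFunctor.comp e (FibCat.fpSnd y f)) ⁻¹' T = spPt ⁻¹' O) :
    AlgSt.RepByAlgSpWith P (BasedFunctor.comp (AlgSt.subIncl 𝒳 (PtsIn T)) f) ∧
      ∀ Q₁ : 𝒳.obj → Prop, AlgSt.IsOpenSubstack 𝒳 Q₁ K₀ →
        AlgSt.RepByAlgSpWith P (BasedFunctor.comp (AlgSt.subIncl 𝒳 Q₁) f) → ∀ x, Q₁ x → PtsIn T x := by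
  obtain ⟨W₀, w₀, ⟨hw₀, hP₀, hmax⟩, hr⟩ := hO
  have hs : AlgSt.IsSurjective (BasedFunctor.comp e (FibCat.fpSnd y f)) :=
    isSurjective_of_repByAlgSpWith (isFibGrpd_ofSp F.obj) h𝒳.isStack.1 (isAlgStack_ofSp F).atlas
      (repByAlgSpWith_precomp he (repByAlgSpWith_fpSnd f hy'))
  refine ⟨?_, fun Q₁ hQ₁ hP₁ x hx => ?_⟩
  · obtain ⟨W, w, hw, hrw, hiff⟩ :=
      exists_preimage_sub hPb hPl h𝒳 h𝒴 hf hy hy' he (isOpenSubstack_ptsIn h𝒳 hT)
    rw [range_subIncl_ptsIn, hTO] at hrw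
    have hrw' : Set.range (Points.map w.hom) = O := spPt_bijective.2.preimage_injective hrw
    obtain ⟨k, hk⟩ := exists_lift_openImmersion W.property W₀.property F.property hw₀ w.hom (hrw'.trans hr.symm).le
    obtain ⟨k', hk'⟩ := exists_lift_openImmersion W₀.property W.property F.property hw w₀.hom (hr.trans hrw'.symm).le
    have : Mono w.hom := AlgSpDec.mono_of_openImmersion hw
    have : Mono w₀.hom := AlgSpDec.mono_of_openImmersion hw₀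
    have : IsIso k := ⟨k', (cancel_mono w.hom).1 (by rw [Category.assoc, hk', hk, Category.id_comp]),
      (cancel_mono w₀.hom).1 (by rw [Category.assoc, hk, hk', Category.id_comp])⟩
    refine hiff.2 ?_
    rw [← hk, Category.assoc]
    exact hPb.precomp W₀.property U.property k hP₀
  · obtain ⟨W, w, hw, hrw, hiff⟩ := exists_preimage_sub hPb hPl h𝒳 h𝒴 hf hy hy' he hQ₁
    obtain ⟨k, rfl⟩ := hmax W w hw (hiff.1 hP₁)
    refine ptsIn_mono' (fun p hp => ?_) ((iff_of_eq (congrFun (eq_ptsIn_range h𝒳 hQ₁) x)).1 hx)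
    obtain ⟨ξ, rfl⟩ := hs p
    have h1 : spPt ξ ∈ Set.range (Points.map (k ≫ w₀).hom) := (Set.ext_iff.1 hrw ξ).2 hp
    exact (Set.ext_iff.1 hTO ξ).2 (hr.le (range_map_comp_subset k.hom w₀.hom h1))
where
  ptsIn_mono' {T T' : Set (AlgSt.Points 𝒳)} (h : ∀ p ∈ T, p ∈ T') {x : 𝒳.obj} (hx : PtsIn T x) : PtsIn T' x :=
    fun p φ => h _ (hx p φ)

theorem property_chart (hQb : StableBC Q) (hQl : IsLocalOnBase IsFppfCover Q) {f : 𝒳 ⥤ᵇ 𝒴}
    (hf : AlgSt.RepByAlgSpWith Q f) {U F : AlgSp.Space S} {y : AlgSt.ofSp U.obj ⥤ᵇ 𝒴}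
    {e : AlgSt.ofSp F.obj ⥤ᵇ FibCat.fp y f} (he : FibCat.IsEquivOver e) :
    Q (spHom (BasedFunctor.comp e (FibCat.fpFst y f))) :=
  property_spHom_fpFst hQb (fun hF hG _ ha => property_of_repBySpWith hQl hF hG ha) U.property F.property hf e he

theorem exists_largest_substack_rep (H : LgstHyp P Q R) (h𝒳 : AlgSt.IsAlgStack K₀ 𝒳)
    (h𝒴 : AlgSt.IsAlgStack K₀ 𝒴) {f : 𝒳 ⥤ᵇ 𝒴} (hf : AlgSt.RepByAlgSpWith Q f) :
    ∃ (U : AlgSp.Space S) (y : AlgSt.ofSp U.obj ⥤ᵇ 𝒴) (F : AlgSp.Space S)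
      (e : AlgSt.ofSp F.obj ⥤ᵇ FibCat.fp y f) (O : Set (Points F.obj)) (T : Set (AlgSt.Points 𝒳)),
      AlgSt.RepByAlgSpWith (LocP @Smooth) y ∧ AlgSt.RepByAlgSpWith IsSurjectiveMor y ∧ FibCat.IsEquivOver e ∧
      Lgst P (ObjectProperty.homMk (spHom (BasedFunctor.comp e (FibCat.fpFst y f))) : F ⟶ U) O ∧ IsOpen T ∧
      AlgSt.Points.map (BasedFunctor.comp e (FibCat.fpSnd y f)) ⁻¹' T = spPt ⁻¹' O ∧
      AlgSt.RepByAlgSpWith P (BasedFunctor.comp (AlgSt.subIncl 𝒳 (PtsIn T)) f) ∧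
      ∀ Q₁ : 𝒳.obj → Prop, AlgSt.IsOpenSubstack 𝒳 Q₁ K₀ →
        AlgSt.RepByAlgSpWith P (BasedFunctor.comp (AlgSt.subIncl 𝒳 Q₁) f) → ∀ x, Q₁ x → PtsIn T x := by
  obtain ⟨U, y, hy, hy'⟩ := exists_space_atlas h𝒴
  obtain ⟨F, e, he⟩ := exists_space_fp_equiv h𝒳.isStack.1 h𝒴.isStack.1 (repByAlgSp1_of_repByAlgSpWith hf) U y
  have hQ := property_chart H.bcQ H.locQ hf he
  obtain ⟨W, w, hw⟩ := H.exist F U (ObjectProperty.homMk (spHom (BasedFunctor.comp e (FibCat.fpFst y f)))) hQ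
  obtain ⟨T, hT, hTO⟩ := exists_open_of_lgst H h𝒳.isStack.1 h𝒴.isStack.1 hy he hQ ⟨W, w, hw, rfl⟩
  exact ⟨U, y, F, e, _, T, hy, hy', he, ⟨W, w, hw, rfl⟩, hT, hTO,
    largest_of_chart H.bcP H.locP h𝒳 h𝒴 (repByAlgSp1_of_repByAlgSpWith hf) hy hy' he ⟨W, w, hw, rfl⟩ hT hTO⟩

theorem largest_substack_rep_fp (H : LgstHyp P Q R) (h𝒳 : AlgSt.IsAlgStack K₀ 𝒳) (h𝒴 : AlgSt.IsAlgStack K₀ 𝒴)
    (h𝒵 : AlgSt.IsAlgStack K₀ 𝒵) {f : 𝒳 ⥤ᵇ 𝒴} (hf : AlgSt.RepByAlgSpWith Q f) {Q₀ : 𝒳.obj → Prop}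
    (hQ₀ : AlgSt.IsOpenSubstack 𝒳 Q₀ K₀) (hQ₀P : AlgSt.RepByAlgSpWith P (BasedFunctor.comp (AlgSt.subIncl 𝒳 Q₀) f))
    (hQ₀max : ∀ Q₁ : 𝒳.obj → Prop, AlgSt.IsOpenSubstack 𝒳 Q₁ K₀ →
      AlgSt.RepByAlgSpWith P (BasedFunctor.comp (AlgSt.subIncl 𝒳 Q₁) f) → ∀ x, Q₁ x → Q₀ x)
    {z : 𝒵 ⥤ᵇ 𝒴} (hz : AlgSt.RepByAlgSpWith R z) :
    ∃ T : Set (AlgSt.Points 𝒳), Q₀ = PtsIn T ∧ IsOpen (AlgSt.Points.map (FibCat.fpSnd z f) ⁻¹' T) ∧
      AlgSt.RepByAlgSpWith P (BasedFunctor.comp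
        (AlgSt.subIncl (FibCat.fp z f) (PtsIn (AlgSt.Points.map (FibCat.fpSnd z f) ⁻¹' T))) (FibCat.fpFst z f)) ∧
      ∀ Q₁ : (FibCat.fp z f).obj → Prop, AlgSt.IsOpenSubstack (FibCat.fp z f) Q₁ K₀ →
        AlgSt.RepByAlgSpWith P (BasedFunctor.comp (AlgSt.subIncl (FibCat.fp z f) Q₁) (FibCat.fpFst z f)) →
        ∀ x, Q₁ x → PtsIn (AlgSt.Points.map (FibCat.fpSnd z f) ⁻¹' T) x := by
  obtain ⟨U, y, F, e, O, T, hy, hy', he, hO, hT, hTO, hP, hmax⟩ := exists_largest_substack_rep H h𝒳 h𝒴 hf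
  have hQeq : Q₀ = PtsIn T := funext fun x => propext
    ⟨hmax Q₀ hQ₀ hQ₀P x, hQ₀max _ (isOpenSubstack_ptsIn h𝒳 hT) hP x⟩
  have hQ := property_chart H.bcQ H.locQ hf he
  obtain ⟨Z, eZ, heZ⟩ := exists_space_fp_equiv h𝒵.isStack.1 h𝒴.isStack.1 (repByAlgSp1_of_repByAlgSpWith hz) U y
  let y' := BasedFunctor.comp eZ (FibCat.fpSnd y z)
  let a := spHom (BasedFunctor.comp e (FibCat.fpFst y f))
  let k := spHom (BasedFunctor.comp eZ (FibCat.fpFst y z))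
  have hk : R k := property_chart H.bcR H.locR hz heZ
  let F' : AlgSp.Space S := ⟨pullback a k, isAlgSpace_pullback F.property Z.property U.property _ _⟩
  obtain ⟨K, hK, ⟨j₁⟩, ⟨j₂⟩⟩ := exists_spCone (IsPullback.of_hasPullback a k)
  have : (BasedFunctor.id (AlgSt.ofSp U.obj)).toFunctor.Full := inferInstanceAs (𝟭 _).Full
  have : (BasedFunctor.id (AlgSt.ofSp U.obj)).toFunctor.Faithful := inferInstanceAs (𝟭 _).Faithful
  let M := fpMap (F := AlgSt.ofSpMap k) (G := FibCat.fpFst y f) (F' := AlgSt.ofSpMap k) (G' := AlgSt.ofSpMap a)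
    (a := BasedFunctor.id _) (b := e) (c := BasedFunctor.id _) (Iso.refl _)
    (isoOfSpMap (BasedFunctor.comp e (FibCat.fpFst y f))).symm
  let β : BasedFunctor.comp y' z ≅ BasedFunctor.comp (AlgSt.ofSpMap k) y :=
    whiskerLeftIso eZ (FibCat.fpIso y z).symm ≪≫
      whiskerRightIso (isoOfSpMap (BasedFunctor.comp eZ (FibCat.fpFst y z))) y
  let m₂ := fpMap (F := BasedFunctor.comp y' z) (G := f) (F' := BasedFunctor.comp (AlgSt.ofSpMap k) y) (G' := f)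
    (a := BasedFunctor.id _) (b := BasedFunctor.id _) (c := BasedFunctor.id _) β (Iso.refl _)
  obtain ⟨i₂, hi₂, -, ⟨ji₂⟩⟩ := isEquivOver_inv (pasteVert_isEquivOver y' z f)
  let head := BasedFunctor.comp (BasedFunctor.comp (BasedFunctor.comp (BasedFunctor.comp K
    (fpSwap (AlgSt.ofSpMap a) (AlgSt.ofSpMap k))) M) (pasteVert (AlgSt.ofSpMap k) y f)) m₂
  have hhead : FibCat.IsEquivOver head := isEquivOver_comp (isEquivOver_comp (isEquivOver_comp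
    (isEquivOver_comp hK (fpSwap_isEquivOver _ _)) (fpMap_isEquivOver _ _ isEquivOver_id he))
    (pasteVert_isEquivOver _ _ _)) (fpMap_isEquivOver _ _ isEquivOver_id isEquivOver_id)
  let e' : AlgSt.ofSp F'.obj ⥤ᵇ FibCat.fp y' (FibCat.fpFst z f) := BasedFunctor.comp head i₂
  have he' : FibCat.IsEquivOver e' := isEquivOver_comp hhead hi₂
  let iA : BasedFunctor.comp e' (FibCat.fpFst y' (FibCat.fpFst z f)) ≅ AlgSt.ofSpMap (pullback.snd a k) :=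
    whiskerRightIso (whiskerLeftIso head ji₂) (FibCat.fpFst (BasedFunctor.comp y' z) f) ≪≫ j₂
  let iB : BasedFunctor.comp (BasedFunctor.comp e' (FibCat.fpSnd y' (FibCat.fpFst z f))) (FibCat.fpSnd z f) ≅
      BasedFunctor.comp (AlgSt.ofSpMap (pullback.fst a k)) (BasedFunctor.comp e (FibCat.fpSnd y f)) :=
    whiskerRightIso (whiskerLeftIso head ji₂) (FibCat.fpSnd (BasedFunctor.comp y' z) f) ≪≫
      whiskerRightIso j₁ (BasedFunctor.comp e (FibCat.fpSnd y f))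
  have hO' : Lgst P (ObjectProperty.homMk (spHom (BasedFunctor.comp e' (FibCat.fpFst y' (FibCat.fpFst z f)))) :
      F' ⟶ Z) (Points.map (pullback.fst a k) ⁻¹' O) :=
    Lgst.preimage H (g := (ObjectProperty.homMk k : Z ⟶ U))
      (f' := (ObjectProperty.homMk (spHom (BasedFunctor.comp e' (FibCat.fpFst y' (FibCat.fpFst z f)))) : F' ⟶ Z))
      (g' := (ObjectProperty.homMk (pullback.fst a k) : F' ⟶ F)) (by
        show IsPullback (pullback.fst a k) (spHom _) a k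
        rw [spHom_congr iA, spHom_ofSpMap]
        exact IsPullback.of_hasPullback a k) hQ hk hO
  have hP' := isAlgStack_fp h𝒵 h𝒳 h𝒴.isStack h𝒴.diag z f
  have hT' : IsOpen (AlgSt.Points.map (FibCat.fpSnd z f) ⁻¹' T) :=
    hT.preimage (continuous_pts_map h𝒳.isStack.1 h𝒳.atlas _)
  refine ⟨T, hQeq, hT', largest_of_chart H.bcP H.locP hP' h𝒵
    (repByAlgSp1_fpFst z (repByAlgSp1_of_repByAlgSpWith hf))
    (repByAlgSpWith_precomp heZ (repByAlgSpWith_fpSnd z hy)) (repByAlgSpWith_precomp heZ (repByAlgSpWith_fpSnd z hy'))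
    he' hO' hT' (Set.ext fun ξ => ?_)⟩
  show AlgSt.Points.map (FibCat.fpSnd z f) (AlgSt.Points.map _ ξ) ∈ T ↔ Points.map (pullback.fst a k) (spPt ξ) ∈ O
  rw [← pts_map_comp, pts_map_congr iB, pts_map_comp, ← spPt_map_ofSpMap]
  exact Set.ext_iff.1 hTO _

end Groth.Agent.AlgStLib
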