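import Groth.Agent.S18334
import Groth.Agent.IsoNatLib.TriRep
import Groth.Agent.AlgStLib.Calculus
import Groth.Agent.AlgStLib.Diag
import Groth.Agent.AlgSpDec.AffineRep
import Groth.Agent.AlgSpPts.Descent
import Mathlib.AlgebraicGeometry.ZariskisMainTheorem

/-!
# Maps from stacks with finite diagonal and reduced atlas that are determined by points
-/

set_option autoImplicit false
set_option backward.isDefEq.respectTransparency false
set_option backward.isDefEq.respectTransparency.types false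

universe u

open CategoryTheory CategoryTheory.Functor CategoryTheory.Limits AlgebraicGeometry Opposite AlgSp
open Groth.Agent.FibBase Groth.Agent.AlgSpLib Groth.Agent.AlgSpDec

namespace Groth.Agent.AlgStLib.ModuliSection

variable {S : Scheme.{u}} {𝒳 : AlgSt.Cat S} {N : Sp S}

/-- Two maps to an algebraic space from a reduced scheme agreeing on a finite surjective cover are equal. -/
theorem eq_of_finite_surjective (hN : IsAlgSpace N) {V W : Over S} [IsReduced V.left] (i : W ⟶ V)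
    [IsFinite i.left] [Surjective i.left] (a b : (yon S).obj V ⟶ N)
    (h : (yon S).map i ≫ a = (yon S).map i ≫ b) : a = b := by
  obtain ⟨h1, -, h3, h4⟩ := AlgSpPts.diag_package hN
  let g : (yon S).obj V ⟶ N ⨯ N := prod.lift a b
  have sq := h1.rep.isPullback g
  let j := h1.rep.snd g
  have hjl : LocallyOfFiniteType j.left := h1.property_snd g
  have hjs : IsSeparated j.left := h3.property_snd g
  have hjm : Mono j.left := h4.property_snd g
  obtain ⟨l, hl⟩ := (yon S).map_surjective (sq.lift ((yon S).map i ≫ a) ((yon S).map i) (by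
    apply Limits.prod.hom_ext <;> simp [g, h]))
  have hlj : l ≫ j = i := (yon S).map_injective (by rw [Functor.map_comp, hl, IsPullback.lift_snd])
  have hlj' : l.left ≫ j.left = i.left := congrArg CommaMorphism.left hlj
  have hls : Surjective l.left := ⟨fun x => by
    obtain ⟨w, hw⟩ := i.left.surjective (j.left x)
    exact ⟨w, j.left.injective (by rw [← hw, ← hlj']; rfl)⟩⟩
  have : UniversallyClosed (l.left ≫ j.left) := by rw [hlj']; infer_instance
  have : UniversallyClosed j.left := UniversallyClosed.of_comp_surjective l.left j.left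
  have : QuasiCompact j.left := by
    refine (quasiCompact_iff _).2 fun U hU hU' => ?_
    have e : j.left ⁻¹' U = l.left '' (i.left ⁻¹' U) := by
      rw [← hlj', show ((l.left ≫ j.left) ⁻¹' U : Set W.left) = l.left ⁻¹' (j.left ⁻¹' U) from rfl,
        Set.image_preimage_eq _ hls.surj]
    rw [e]
    exact (QuasiCompact.isCompact_preimage _ hU hU').image l.left.continuous
  have : IsProper j.left := { }
  have : IsClosedImmersion j.left := (IsClosedImmersion.iff_isProper_and_mono _).2 ⟨inferInstance, hjm⟩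
  have : Surjective j.left := ⟨fun v => by
    obtain ⟨w, hw⟩ := i.left.surjective v
    exact ⟨l.left w, by rw [← hw, ← hlj']; rfl⟩⟩
  have : IsIso j.left := isIso_of_isClosedImmersion_of_surjective j.left
  have : IsIso ((Over.forget S).map j) := ‹IsIso j.left›
  have : IsIso j := isIso_of_reflects_iso j (Over.forget S)
  have : IsIso ((yon S).map j) := inferInstance
  have w1 := congrArg (· ≫ (prod.fst : N ⨯ N ⟶ N)) sq.w
  have w2 := congrArg (· ≫ (prod.snd : N ⨯ N ⟶ N)) sq.w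
  simp only [Category.assoc, prod.lift_fst, prod.lift_snd, g, Limits.diag, Category.comp_id] at w1 w2
  exact (cancel_epi ((yon S).map j)).1 (w1.symm.trans w2)

/-- The section of a pulled back functor at a lift of an identity. -/
theorem secAt_eq_of_lift {W : Over S} {x y : 𝒳.obj} (m : x ⟶ y) [hm : 𝒳.p.IsHomLift (𝟙 W) m]
    (Φ : 𝒳 ⥤ᵇ AlgSt.ofSp N) (hx : 𝒳.p.obj x = W) (hy : 𝒳.p.obj y = W) :
    N.obj.map (eqToHom hx.symm).op (secAt Φ x) = N.obj.map (eqToHom hy.symm).op (secAt Φ y) := by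
  rw [← secAt_map Φ m]
  refine (res_res N.obj _ _ _).trans (res_congr N.obj ?_ _)
  rw [IsHomLift.fac' 𝒳.p (𝟙 W) m]
  simp

/-- Families with isomorphic geometric points over a reduced scheme give the same sections. -/
theorem secAt_eq_of_geomPts (hg : FibCat.IsFibGrpd 𝒳.p)
    (hΔ : AlgSt.RepByAlgSpWith AlgSp.IsFiniteMor (FibCat.diag (FibCat.toSelf 𝒳))) (hN : IsAlgSpace N)
    {V : Over S} [IsReduced V.left] (y₁ y₂ : FibCat.overCat V ⥤ᵇ 𝒳)
    (hpt : ∀ (Ω : Type u) [Field Ω] [IsAlgClosed Ω] (t : Spec (CommRingCat.of Ω) ⟶ S) (k : Over.mk t ⟶ V),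
      ∃ m : y₁.obj (Over.mk k) ⟶ y₂.obj (Over.mk k), 𝒳.p.IsHomLift (𝟙 (Over.mk t)) m)
    (Φ : 𝒳 ⥤ᵇ AlgSt.ofSp N) :
    secAt (BasedFunctor.comp y₁ Φ) (Over.mk (𝟙 V)) = secAt (BasedFunctor.comp y₂ Φ) (Over.mk (𝟙 V)) := by
  let ε : BasedFunctor.comp y₁ (FibCat.toSelf 𝒳) ≅ BasedFunctor.comp y₂ (FibCat.toSelf 𝒳) :=
    eqToIso ((comp_toSelf y₁).trans (comp_toSelf y₂).symm)
  let y : FibCat.overCat V ⥤ᵇ FibCat.fp (FibCat.toSelf 𝒳) (FibCat.toSelf 𝒳) := FibCat.fpLift y₁ y₂ ε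
  obtain ⟨F, E, hE, hfin⟩ := hΔ V y
  let a := AlgSt.spMapOfOver (BasedFunctor.comp E (FibCat.fpFst y (FibCat.diag (FibCat.toSelf 𝒳))))
  have hI : RepWith @IsFinite a := isFiniteMor_iff_repWith.1 hfin
  have hbase : FibCat.IsFibGrpd (FibCat.fp (FibCat.toSelf 𝒳) (FibCat.toSelf 𝒳)).p :=
    fp_isFibGrpd hg hg isFibGrpd_selfOver
  obtain ⟨pt, -, -, hsurj, hcomp⟩ := IsoNatLib.exists_ptMap (fp_isFibGrpd (isFibGrpd_overCat V) hg hbase) hE
  have sq := hI.rep.isPullback (𝟙 ((yon S).obj V))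
  let i := hI.rep.snd (𝟙 ((yon S).obj V))
  have : IsFinite i.left := hI.property_snd _
  have hpt' : ∀ p : V.left, p ∈ Set.range i.left := by
    intro p
    let Ω := AlgebraicClosure (V.left.residueField p)
    let c : Spec (CommRingCat.of Ω) ⟶ V.left :=
      Spec.map (CommRingCat.ofHom (algebraMap (V.left.residueField p) Ω)) ≫ V.left.fromSpecResidueField p
    let T : Over S := Over.mk (c ≫ V.hom)
    let k : T ⟶ V := Over.homMk c rfl
    obtain ⟨m, hm⟩ := hpt Ω (c ≫ V.hom) k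
    have : IsIso m := isIso_of_lift (hp := hg) (𝟙 T) _
    have hinv : 𝒳.p.IsHomLift (𝟙 T) (inv m) := IsHomLift.lift_id_inv_isIso 𝒳.p T m
    let ι : y.obj (Over.mk k) ≅ (FibCat.diag (FibCat.toSelf 𝒳)).obj (y₁.obj (Over.mk k)) :=
      fpIsoMk (Iso.refl _) (asIso m).symm (by
        have hid : 𝒳.p.IsHomLift (𝟙 T) (𝟙 (y₁.obj (Over.mk k))) := IsHomLift.id (y₁.w_obj _)
        have e1 := IsHomLift.fac' 𝒳.p (𝟙 T) (inv m)
        have e2 : (y.obj (Over.mk k)).obj.iso.hom = _ :=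
          map_eq_of_isHomLift_id (p := (FibCat.selfOver (Over S)).p) (y.obj (Over.mk k)).property
        show 𝒳.p.map (𝟙 _) ≫ 𝟙 _ = (y.obj (Over.mk k)).obj.iso.hom ≫ 𝒳.p.map (inv m)
        rw [e1, e2]
        erw [𝒳.p.map_id]
        simp
        rfl)
    have hι : (FibCat.fp (FibCat.toSelf 𝒳) (FibCat.toSelf 𝒳)).p.IsHomLift (𝟙 T) ι.hom :=
      fp_isHomLift (F := FibCat.toSelf 𝒳) (G := FibCat.toSelf 𝒳) (𝟙 T) _
        (h := (IsHomLift.id (y₁.w_obj _) : 𝒳.p.IsHomLift (𝟙 T) (𝟙 (y₁.obj (Over.mk k)))))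
    let θ : (FibCat.fp y (FibCat.diag (FibCat.toSelf 𝒳))).p.Fiber T :=
      ⟨⟨⟨Over.mk k, y₁.obj (Over.mk k), ι⟩, hι⟩, rfl⟩
    have hx : pt T θ ≫ a = (yon S).map k ≫ 𝟙 _ :=
      (hcomp V _ T θ).trans ((congrArg (yon S).map (Category.id_comp _)).trans (Category.comp_id _).symm)
    obtain ⟨l, hl⟩ := (yon S).map_surjective (sq.lift (pt T θ) ((yon S).map k) hx)
    have hli : l ≫ i = k := (yon S).map_injective (by rw [Functor.map_comp, hl, IsPullback.lift_snd])
    obtain ⟨q⟩ : Nonempty (Spec (CommRingCat.of Ω)) := inferInstance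
    refine ⟨l.left q, ?_⟩
    rw [show i.left (l.left q) = k.left q from by rw [← hli]; rfl]
    show V.left.fromSpecResidueField p _ = p
    exact Scheme.fromSpecResidueField_apply p _
  have : Surjective i.left := ⟨hpt'⟩
  obtain ⟨⟨⟨⟨a', z, ι⟩, hl⟩, hW⟩, hτ⟩ := hsurj _ (hI.rep.fst (𝟙 ((yon S).obj V)))
  have hl' : (FibCat.fp (FibCat.toSelf 𝒳) (FibCat.toSelf 𝒳)).p.IsHomLift (𝟙 a'.left) ι.hom := hl
  have h1 : 𝒳.p.IsHomLift (𝟙 a'.left) ι.hom.hom.fst :=
    (FibCat.fpFst (FibCat.toSelf 𝒳) (FibCat.toSelf 𝒳)).preserves_isHomLift (𝟙 a'.left) ι.hom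
  have h2 : 𝒳.p.IsHomLift (𝟙 a'.left) ι.inv.hom.snd := by
    have := IsHomLift.lift_id_inv (FibCat.fp (FibCat.toSelf 𝒳) (FibCat.toSelf 𝒳)).p a'.left ι
    exact fp_isHomLift_snd' (F := FibCat.toSelf 𝒳) (G := FibCat.toSelf 𝒳) (𝟙 a'.left) ι.inv (h := this)
  let m : y₁.obj a' ⟶ y₂.obj a' := ι.hom.hom.fst ≫ ι.inv.hom.snd
  have : 𝒳.p.IsHomLift (𝟙 a'.left) m :=
    inferInstanceAs (𝒳.p.IsHomLift (𝟙 a'.left) (ι.hom.hom.fst ≫ ι.inv.hom.snd))
  have e0 : N.obj.map (eqToHom (y₁.w_obj a').symm).op (secAt Φ (y₁.obj a')) =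
      N.obj.map (eqToHom (y₂.w_obj a').symm).op (secAt Φ (y₂.obj a')) :=
    secAt_eq_of_lift (W := a'.left) m (hm := this) Φ (y₁.w_obj a') (y₂.w_obj a')
  rw [← CatModLocal.secAt_precomp, ← CatModLocal.secAt_precomp, S18334.secAt_over,
    S18334.secAt_over (BasedFunctor.comp y₂ Φ)] at e0
  have hia : eqToHom hW.symm ≫ a'.hom = i := by
    refine (yon S).map_injective ?_
    have h4 := hcomp V (FibCat.fpFst y (FibCat.diag (FibCat.toSelf 𝒳))) _ ⟨⟨⟨a', z, ι⟩, hl⟩, hW⟩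
    rw [hτ] at h4
    exact h4.symm.trans (sq.w.trans (Category.comp_id _))
  have e1 := congrArg (N.obj.map (eqToHom hW.symm).op) e0
  replace e1 := ((res_congr N.obj hia.symm _).trans (res_res N.obj _ _ _).symm).trans
    (e1.trans ((res_res N.obj _ _ _).trans (res_congr N.obj hia _)))
  apply ((J S).uliftYonedaEquiv.{u + 1} (X := V) (F := N)).symm.injective
  refine eq_of_finite_surjective hN i _ _ ?_
  apply ((J S).uliftYonedaEquiv.{u + 1} (F := N)).injective
  rw [GrothendieckTopology.uliftYonedaEquiv_comp, GrothendieckTopology.uliftYonedaEquiv_comp,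
    GrothendieckTopology.uliftYonedaEquiv_uliftYoneda_map]
  exact e1

/-- Functors to a sheaf agreeing on a smooth surjective atlas have the same sections. -/
theorem secAt_eq_of_atlas [𝒳.p.IsFibered] {U : Over S} {u : FibCat.overCat U ⥤ᵇ 𝒳}
    (hu : AlgSt.RepByAlgSpWith (LocP @Smooth) u) (hus : AlgSt.RepByAlgSpWith IsSurjectiveMor u)
    (Φ Ψ : 𝒳 ⥤ᵇ AlgSt.ofSp N)
    (h : secAt (BasedFunctor.comp u Φ) (Over.mk (𝟙 U)) = secAt (BasedFunctor.comp u Ψ) (Over.mk (𝟙 U)))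
    (x : 𝒳.obj) : secAt Φ x = secAt Ψ x := by
  let T := 𝒳.p.obj x
  let G : FibCat.overCat T ⥤ᵇ 𝒳 := ofObj (⟨x, rfl⟩ : 𝒳.p.Fiber T)
  obtain ⟨θ⟩ := ofObj_iso (⟨x, rfl⟩ : 𝒳.p.Fiber T)
  have hθ : ∀ π : 𝒳 ⥤ᵇ AlgSt.ofSp N, secAt π x = secAt (BasedFunctor.comp G π) (Over.mk (𝟙 T)) := by
    intro π
    refine Eq.trans ?_ (CatModLocal.secAt_precomp G π (Over.mk (𝟙 T))).symm
    have h1 := secAt_map π θ.hom.1
    refine Eq.trans ?_ (congrArg (N.obj.map _) h1)
    refine ((res_res N.obj _ _ _).trans (res_id N.obj _ ?_ _)).symm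
    haveI := θ.hom.2
    have h2 := IsHomLift.fac' 𝒳.p (𝟙 T) θ.hom.1
    rw [h2]
    simp
  obtain ⟨W₀, h₀, g₀, _, _, ⟨e₀⟩⟩ := exists_smooth_lift hu hus G
  obtain ⟨W, k, σ, _, _, hσ⟩ := AlgSpDec.exists_etale_section h₀
  obtain ⟨g, ⟨ig⟩⟩ := exists_mapB (BasedFunctor.comp (AlgSt.overMap σ) g₀)
  let e : BasedFunctor.comp (AlgSt.overMap g) u ≅ BasedFunctor.comp (AlgSt.overMap k) G :=
    whiskerRightIso (show AlgSt.overMap g ≅ BasedFunctor.comp (AlgSt.overMap σ) g₀ from ig) u ≪≫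
      whiskerLeftIso (AlgSt.overMap σ) e₀ ≪≫
      whiskerRightIso (overMapCompIso σ h₀ ≪≫ eqToIso (congrArg AlgSt.overMap hσ)) G
  have hgh : ∀ π : 𝒳 ⥤ᵇ AlgSt.ofSp N,
      N.obj.map g.op (secAt (BasedFunctor.comp u π) (Over.mk (𝟙 U))) = N.obj.map k.op (secAt π x) := fun π => by
    rw [hθ π, ← S18334.secAt_overMap, ← S18334.secAt_overMap]
    exact secAt_eq_of_iso (whiskerRightIso e π) _
  have hk := (hgh Φ).symm.trans ((congrArg (N.obj.map g.op) h).trans (hgh Ψ))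
  have : Epi ((yon S).map k) := epi_of_etale_surjective
    ((repWith_yon_map_iff _ _).2 inferInstance) ((repWith_yon_map_iff _ _).2 inferInstance)
  apply ((J S).uliftYonedaEquiv.{u + 1} (X := T) (F := N)).symm.injective
  apply (cancel_epi ((yon S).map k)).1
  apply ((J S).uliftYonedaEquiv.{u + 1} (F := N)).injective
  rw [GrothendieckTopology.uliftYonedaEquiv_comp, GrothendieckTopology.uliftYonedaEquiv_comp,
    GrothendieckTopology.uliftYonedaEquiv_uliftYoneda_map]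
  exact hk

end Groth.Agent.AlgStLib.ModuliSection
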