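import Groth.Agent.AlgSpVal.DvrThrough
import Groth.Agent.AlgGlue.ZMT
import Mathlib.AlgebraicGeometry.Morphisms.Immersion

/-!
# Monomorphisms with the valuative lifting property are immersions
-/

set_option autoImplicit false
set_option linter.style.haveILetI false
set_option backward.isDefEq.respectTransparency false
set_option backward.isDefEq.respectTransparency.types false

universe u

open CategoryTheory CategoryTheory.Limits AlgebraicGeometry IsLocalRing

noncomputable section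

namespace Groth.Agent.AlgStLib.MonoImm

/-- Discrete valuation rings whose two points lift do lift. -/
def DvrLift {F U : Scheme.{u}} (g : F ⟶ U) : Prop :=
  ∀ (A : Type u) [CommRing A] [IsDomain A] [IsDiscreteValuationRing A] (a : Spec (CommRingCat.of A) ⟶ U)
    (k : Spec (CommRingCat.of (FractionRing A)) ⟶ F),
    k ≫ g = Spec.map (CommRingCat.ofHom (algebraMap A (FractionRing A))) ≫ a →
    a (closedPoint A) ∈ Set.range g → ∃ l, l ≫ g = a

theorem isImmersion_of_isAffine {F U : Scheme.{u}} [IsAffine U] [IsLocallyNoetherian U] (g : F ⟶ U) [Mono g]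
    [LocallyOfFiniteType g] [QuasiCompact g] (h : DvrLift g) : IsImmersion g := by
  obtain ⟨T, i, π, hi, -, hπ, rfl⟩ := Groth.Agent.AlgGlue.exists_finite_factor g
  haveI : IsAffine T := isAffine_of_isAffineHom π
  haveI : IsLocallyNoetherian T := LocallyOfFiniteType.isLocallyNoetherian π
  haveI : CompactSpace F := QuasiCompact.compactSpace_of_compactSpace (i ≫ π)
  let C : Set T := closure (Set.range i) ∩ (Set.range i)ᶜ
  have hC : IsClosed C := isClosed_closure.inter i.isOpenEmbedding.isOpen_range.isClosed_compl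
  let W : U.Opens := ⟨(π '' C)ᶜ, (π.isClosedMap _ hC).isOpen_compl⟩
  have key : ∀ x, (i ≫ π) x ∈ W := by
    rintro x ⟨z, ⟨hz, hz'⟩, hzx⟩
    obtain ⟨y, hy⟩ := Groth.Agent.AlgSpVal.exists_specializes_of_mem_closure_range i hz
    obtain ⟨A, _, _, hA, a, k, ha, -, hk⟩ := Groth.Agent.AlgSpVal.exists_dvr_path_field i y z hy
    haveI := hA
    obtain ⟨l, hl⟩ := h A (a ≫ π) k (by rw [reassoc_of% hk])
      ⟨x, by rw [Scheme.Hom.comp_apply a π, ha, hzx]⟩
    let j : Spec (CommRingCat.of (FractionRing A)) ⟶ Spec (CommRingCat.of A) :=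
      Spec.map (CommRingCat.ofHom (algebraMap A (FractionRing A)))
    have hjl : j ≫ l = k := by
      rw [← cancel_mono (i ≫ π), Category.assoc, hl, reassoc_of% hk]
    haveI : IsDominant j := ⟨PrimeSpectrum.denseRange_comap_iff_ker_le_nilRadical _ |>.2 (by
      show RingHom.ker (algebraMap A (FractionRing A)) ≤ _
      rw [(RingHom.injective_iff_ker_eq_bot _).1 (IsFractionRing.injective A (FractionRing A))]
      exact bot_le)⟩
    have hli : l ≫ i = a := ext_of_isDominant_of_isSeparated π (by rw [Category.assoc, hl]) j (by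
      rw [reassoc_of% hjl, hk])
    exact hz' ⟨l (closedPoint A), by rw [← Scheme.Hom.comp_apply, hli, ha]⟩
  let i' : F ⟶ π ⁻¹ᵁ W := IsOpenImmersion.lift (π ⁻¹ᵁ W).ι i (by
    rintro _ ⟨x, rfl⟩
    exact (Scheme.Opens.range_ι _).ge (key x))
  have hi' : i' ≫ (π ⁻¹ᵁ W).ι = i := IsOpenImmersion.lift_fac _ _ _
  haveI : IsOpenImmersion (i' ≫ (π ⁻¹ᵁ W).ι) := by rw [hi']; infer_instance
  haveI : IsOpenImmersion i' := IsOpenImmersion.of_comp i' (π ⁻¹ᵁ W).ι
  haveI : IsClosedImmersion i' := .of_isPreimmersion _ (by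
    have : Set.range i' = (π ⁻¹ᵁ W).ι ⁻¹' closure (Set.range i) := by
      ext t
      refine ⟨fun ⟨x, hx⟩ => subset_closure ⟨x, by rw [← hx, ← Scheme.Hom.comp_apply, hi']⟩, fun ht => ?_⟩
      by_cases h' : (π ⁻¹ᵁ W).ι t ∈ Set.range i
      · obtain ⟨x, hx⟩ := h'
        exact ⟨x, (π ⁻¹ᵁ W).ι.injective (by rw [← Scheme.Hom.comp_apply, hi', hx])⟩
      · exact (t.2 ⟨_, ⟨ht, h'⟩, rfl⟩).elim
    rw [this]
    exact isClosed_closure.preimage (π ⁻¹ᵁ W).ι.continuous)
  have e : i ≫ π = (i' ≫ π ∣_ W) ≫ W.ι := by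
    rw [Category.assoc, morphismRestrict_ι, reassoc_of% hi']
  haveI : Mono ((i' ≫ π ∣_ W) ≫ W.ι) := e ▸ ‹Mono (i ≫ π)›
  haveI : Mono (i' ≫ π ∣_ W) := mono_of_mono _ W.ι
  haveI : IsClosedImmersion (i' ≫ π ∣_ W) := (IsClosedImmersion.iff_isFinite_and_mono _).2 ⟨inferInstance, ‹_›⟩
  rw [e]
  infer_instance

theorem isImmersion {F U : Scheme.{u}} [IsLocallyNoetherian U] (g : F ⟶ U) [Mono g]
    [LocallyOfFiniteType g] [QuasiCompact g] (h : DvrLift g) : IsImmersion g := by
  refine IsZariskiLocalAtTarget.of_iSup_eq_top (P := @IsImmersion) (fun V : U.affineOpens => V.1)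
    (iSup_affineOpens_eq_top U) fun V => ?_
  haveI : IsAffine (V.1 : Scheme.{u}) := V.2
  haveI : Mono (g ∣_ V.1) := MorphismProperty.of_isPullback (P := MorphismProperty.monomorphisms _)
    (isPullback_morphismRestrict g V.1).flip ‹Mono g›
  refine isImmersion_of_isAffine _ fun A _ _ _ a k hk hcl => ?_
  obtain ⟨l, hl⟩ := h A (a ≫ V.1.ι) (k ≫ (g ⁻¹ᵁ V.1).ι)
    (by rw [Category.assoc, ← morphismRestrict_ι, reassoc_of% hk]) (by
      obtain ⟨x, hx⟩ := hcl
      exact ⟨(g ⁻¹ᵁ V.1).ι x, by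
        rw [Scheme.Hom.comp_apply a V.1.ι, ← hx, ← Scheme.Hom.comp_apply, ← Scheme.Hom.comp_apply,
          morphismRestrict_ι]⟩)
  refine ⟨IsOpenImmersion.lift (g ⁻¹ᵁ V.1).ι l ?_, ?_⟩
  · rintro _ ⟨t, rfl⟩
    rw [Scheme.Opens.range_ι]
    show g (l t) ∈ V.1
    rw [← Scheme.Hom.comp_apply, hl]
    exact (a t).2
  · rw [← cancel_mono V.1.ι, Category.assoc, morphismRestrict_ι, IsOpenImmersion.lift_fac_assoc, hl]

end Groth.Agent.AlgStLib.MonoImm
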