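import Groth.Agent.AlgStLib.QuasiCompact
import Groth.Agent.AlgStLib.FieldImage
import Groth.Agent.AlgStLib.Small
import Groth.Agent.AlgStLib.Imm
import Mathlib.RingTheory.Spectrum.Prime.Noetherian
import Mathlib.AlgebraicGeometry.Noetherian

/-!
# Monomorphisms of stacks that are quasi-compact by Noetherian induction
-/

set_option autoImplicit false
set_option linter.style.haveILetI false
set_option backward.isDefEq.respectTransparency false
set_option backward.isDefEq.respectTransparency.types false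

universe u

open CategoryTheory CategoryTheory.Functor CategoryTheory.Limits AlgebraicGeometry Opposite AlgSp

noncomputable section

namespace Groth.Agent.AlgStLib.MonoQC

open Groth.Agent.FibBase Groth.Agent.AlgSpLib

variable {S : Scheme.{u}} {𝒳 𝒴 : AlgSt.Cat S}

local notation "K₀" => Scheme.fppfPrecoverage

/-- The object lifts. -/
def Lift (f : 𝒴 ⥤ᵇ 𝒳) {U : Over S} (u : FibCat.overCat U ⥤ᵇ 𝒳) : Prop :=
  ∃ y : FibCat.overCat U ⥤ᵇ 𝒴, Nonempty (BasedFunctor.comp y f ≅ u)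

theorem Lift.of_iso {f : 𝒴 ⥤ᵇ 𝒳} {U : Over S} {u u' : FibCat.overCat U ⥤ᵇ 𝒳} (h : Lift f u) (i : u ≅ u') :
    Lift f u' := by
  obtain ⟨y, ⟨j⟩⟩ := h
  exact ⟨y, ⟨j ≪≫ i⟩⟩

theorem Lift.precomp {f : 𝒴 ⥤ᵇ 𝒳} {U V : Over S} {u : FibCat.overCat U ⥤ᵇ 𝒳} (h : Lift f u) (g : V ⟶ U) :
    Lift f (BasedFunctor.comp (AlgSt.overMap g) u) := by
  obtain ⟨y, ⟨j⟩⟩ := h
  exact ⟨BasedFunctor.comp (AlgSt.overMap g) y, ⟨whiskerLeftIso (AlgSt.overMap g) j⟩⟩

theorem Lift.mem_range {f : 𝒴 ⥤ᵇ 𝒳} {U : Over S} {u : FibCat.overCat U ⥤ᵇ 𝒳} (h : Lift f u) (t : ↥U.left) :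
    AlgSt.Points.ofChart u t ∈ Set.range (AlgSt.Points.map f) := by
  obtain ⟨y, ⟨j⟩⟩ := h
  refine ⟨AlgSt.Points.map y (ptAt U t), ?_⟩
  rw [← pts_map_comp, pts_map_congr j, ← ofChart_eq_map]

variable {f : 𝒴 ⥤ᵇ 𝒳}

/-- A nonempty monomorphism to a field is an isomorphism, so the object lifts over the residue field. -/
theorem lift_residue (h𝒳 : FibCat.IsFibGrpd 𝒳.p) (h𝒴 : FibCat.IsFibGrpd 𝒴.p)
    (hlfp : AlgSt.RepByAlgSpWith (LocP @LocallyOfFinitePresentation) f) (hm : AlgSt.IsMono f)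
    {V : Over S} (v : FibCat.overCat V ⥤ᵇ 𝒳) (p : ↥V.left)
    (hp : AlgSt.Points.ofChart v p ∈ Set.range (AlgSt.Points.map f)) :
    Lift f (BasedFunctor.comp
      (AlgSt.overMap (Over.homMk (V.left.fromSpecResidueField p) rfl :
        Over.mk (V.left.fromSpecResidueField p ≫ V.hom) ⟶ V)) v) := by
  let P₀ : Over S := Over.mk (V.left.fromSpecResidueField p ≫ V.hom)
  let ι₀ : P₀ ⟶ V := Over.homMk (V.left.fromSpecResidueField p) rfl
  let y₀ := BasedFunctor.comp (AlgSt.overMap ι₀) v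
  obtain ⟨F, e, he, -⟩ := hlfp P₀ y₀
  let Φ := BasedFunctor.comp e (FibCat.fpFst y₀ f)
  let a : F.obj ⟶ (yon S).obj P₀ := AlgSt.spMapOfOver Φ
  haveI : Mono a := isMono_property hm y₀ e he
  have hla : LocP @LocallyOfFinitePresentation a := (RepOver.property_of_stableBC stableBC_locP (hlfp P₀ y₀) e he).2
  -- the fibre is nonempty
  let κ₀ : ↥P₀.left := IsLocalRing.closedPoint (V.left.residueField p)
  obtain ⟨x₀, hx₀⟩ := hp
  have hy₀ : AlgSt.Points.map y₀ (ptAt P₀ κ₀) = AlgSt.Points.map f x₀ := by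
    rw [← ofChart_eq_map, hx₀]
    refine (ofChart_overMap ι₀ v κ₀).trans ?_
    exact congrArg (AlgSt.Points.ofChart v) (Scheme.fromSpecResidueField_apply p κ₀)
  obtain ⟨w, -, -⟩ := exists_pts_fp h𝒴 h𝒳 (isFibGrpd_overCat P₀) f y₀ _ x₀ hy₀
  obtain ⟨w', -⟩ := (pts_bijective_of_isEquivOver he).2 w
  obtain ⟨T, π, hπ, hπ'⟩ := F.property.atlas
  obtain ⟨s, -⟩ := surjective_overOfMap hπ' w'
  obtain ⟨c, hc⟩ := (yon S).map_surjective (π ≫ a)
  have hc1 : LocallyOfFinitePresentation c.left := locP_yon_map (hc ▸ locP_comp (IsAlgSpace.yon_obj T) F.property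
    (IsAlgSpace.yon_obj P₀) (locP_mono (P := @Etale) etale_le_lfp (locP_of_repWith hπ)) hla)
  haveI : Surjective c.left := ⟨fun t => ⟨s, Subsingleton.elim (α := PrimeSpectrum (V.left.residueField p)) _ _⟩⟩
  haveI : Flat c.left := by
    haveI : Subsingleton ↥P₀.left := inferInstanceAs (Subsingleton (PrimeSpectrum (V.left.residueField p)))
    haveI : IsIntegral P₀.left := inferInstanceAs (IsIntegral (Spec (V.left.residueField p)))
    infer_instance
  -- so the monomorphism is an isomorphism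
  haveI : Sheaf.IsLocallySurjective a := by
    refine isLocallySurjective_of_lifts a fun W g => ?_
    obtain ⟨t, rfl⟩ := (yon S).map_surjective g
    let W' : Over S := Over.mk (pullback.snd c.left t.left ≫ W.hom)
    let φ : W' ⟶ W := Over.homMk (pullback.snd c.left t.left) rfl
    let q : W' ⟶ T := Over.homMk (pullback.fst c.left t.left) (by
      show pullback.fst c.left t.left ≫ T.hom = pullback.snd c.left t.left ≫ W.hom
      rw [← Over.w c, ← Over.w t, pullback.condition_assoc])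
    refine ⟨W', φ, (yon S).map q ≫ π, fppf_of (pullback.snd c.left t.left), ?_⟩
    rw [Category.assoc, ← hc, ← Functor.map_comp, ← Functor.map_comp]
    exact congrArg _ (Over.OverMorphism.ext pullback.condition)
  haveI : IsIso a := isIso_of_mono_of_locallySurjective a
  let ik : BasedFunctor.comp (overOfMap (inv a)) Φ ≅ AlgSt.overMap (𝟙 P₀) :=
    overMapPullIso (inv a) Φ (𝟙 P₀) ((CategoryTheory.Functor.map_id _ _).trans (IsIso.inv_hom_id a).symm)
  exact ⟨BasedFunctor.comp (overOfMap (inv a)) (BasedFunctor.comp e (FibCat.fpSnd y₀ f)),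
    ⟨(whiskerLeftIso (BasedFunctor.comp (overOfMap (inv a)) e) (FibCat.fpIso y₀ f)).symm ≪≫
      whiskerRightIso ik y₀ ≪≫ whiskerRightIso (overMapCompIso (𝟙 P₀) ι₀) v ≪≫
      eqToIso (by rw [Category.id_comp])⟩⟩

/-- Being in the image on a dense set spreads out to a lift over a nonempty open. -/
def SpreadsPts (f : 𝒴 ⥤ᵇ 𝒳) : Prop :=
  ∀ (A : Type u) [CommRing A] [IsDomain A] (sA : Spec (CommRingCat.of A) ⟶ S)
    (a : FibCat.overCat (Over.mk sA) ⥤ᵇ 𝒳) (D : Set ↥(Spec (CommRingCat.of A))), Dense D →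
    (∀ p ∈ D, AlgSt.Points.ofChart a p ∈ Set.range (AlgSt.Points.map f)) →
      ∃ U : (Spec (CommRingCat.of A)).Opens, (U : Set ↥(Spec (CommRingCat.of A))).Nonempty ∧
        Lift f (BasedFunctor.comp (AlgSt.overMap (Over.homMk (U.ι) rfl : Over.mk ((U.ι) ≫ sA) ⟶ Over.mk sA)) a)

/-- The part of the image of `f` in a chart inside `C` is covered by finitely many quasi-compact lifting pieces. -/
def Covered (f : 𝒴 ⥤ᵇ 𝒳) {V : Over S} (v : FibCat.overCat V ⥤ᵇ 𝒳) (C : Set ↥V.left) : Prop :=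
  ∃ (I : Type) (_ : Finite I) (T : I → Over S) (t : ∀ i, T i ⟶ V), (∀ i, CompactSpace (T i).left) ∧
    (∀ i, Lift f (BasedFunctor.comp (AlgSt.overMap (t i)) v)) ∧
      {p | AlgSt.Points.ofChart v p ∈ Set.range (AlgSt.Points.map f)} ∩ C ⊆ ⋃ i, Set.range (t i).left

theorem Covered.of_subset_union {V : Over S} {v : FibCat.overCat V ⥤ᵇ 𝒳} {C C₁ C₂ : Set ↥V.left}
    (h₁ : Covered f v C₁) (h₂ : Covered f v C₂) (h : C ⊆ C₁ ∪ C₂) : Covered f v C := by
  obtain ⟨I₁, _, T₁, t₁, hc₁, hl₁, hs₁⟩ := h₁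
  obtain ⟨I₂, _, T₂, t₂, hc₂, hl₂, hs₂⟩ := h₂
  refine ⟨I₁ ⊕ I₂, inferInstance, Sum.elim T₁ T₂, fun i => i.casesOn t₁ t₂, fun i => i.casesOn hc₁ hc₂,
    fun i => i.casesOn hl₁ hl₂, fun p hp => ?_⟩
  rcases h hp.2 with hp' | hp'
  · obtain ⟨i, hi⟩ := Set.mem_iUnion.1 (hs₁ ⟨hp.1, hp'⟩)
    exact Set.mem_iUnion.2 ⟨Sum.inl i, hi⟩
  · obtain ⟨i, hi⟩ := Set.mem_iUnion.1 (hs₂ ⟨hp.1, hp'⟩)
    exact Set.mem_iUnion.2 ⟨Sum.inr i, hi⟩

/-- The hypothesis: lifts on a dense set of residue fields spread out. -/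
def Spreads (f : 𝒴 ⥤ᵇ 𝒳) : Prop :=
  ∀ (A : Type u) [CommRing A] [IsDomain A] (sA : Spec (CommRingCat.of A) ⟶ S)
    (a : FibCat.overCat (Over.mk sA) ⥤ᵇ 𝒳) (D : Set ↥(Spec (CommRingCat.of A))), Dense D →
    (∀ p ∈ D, Lift f (BasedFunctor.comp (AlgSt.overMap (Over.homMk ((Spec (CommRingCat.of A)).fromSpecResidueField p) rfl : Over.mk (((Spec (CommRingCat.of A)).fromSpecResidueField p) ≫ sA) ⟶ Over.mk sA)) a)) →
      ∃ U : (Spec (CommRingCat.of A)).Opens, (U : Set ↥(Spec (CommRingCat.of A))).Nonempty ∧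
        Lift f (BasedFunctor.comp (AlgSt.overMap (Over.homMk (U.ι) rfl : Over.mk ((U.ι) ≫ sA) ⟶ Over.mk sA)) a)

/-- For a monomorphism, being in the image of a residue field gives a lift there. -/
theorem spreadsPts_of_spreads (h𝒳 : FibCat.IsFibGrpd 𝒳.p) (h𝒴 : FibCat.IsFibGrpd 𝒴.p)
    (hlfp : AlgSt.RepByAlgSpWith (LocP @LocallyOfFinitePresentation) f) (hm : AlgSt.IsMono f) (hc : Spreads f) :
    SpreadsPts f := fun A _ _ sA a D hD h =>
  hc A sA a D hD fun p hp => lift_residue h𝒳 h𝒴 hlfp hm (V := Over.mk sA) a p (h p hp)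

theorem covered_spec (hc : SpreadsPts f)
    (R : CommRingCat.{u}) [IsNoetherianRing R] (str : Spec R ⟶ S) (v : FibCat.overCat (Over.mk str) ⥤ᵇ 𝒳) :
    Covered f v Set.univ := by
  suffices h : ∀ C : TopologicalSpace.Closeds (PrimeSpectrum R), Covered f v (C : Set (PrimeSpectrum R)) by
    exact h ⊤
  intro C
  induction C using WellFoundedLT.induction with
  | ind C ih =>
  by_cases hne : (C : Set (PrimeSpectrum R)).Nonempty
  swap
  · exact ⟨Empty, inferInstance, Empty.elim, fun i => i.elim, fun i => i.elim, fun i => i.elim,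
      fun p hp => (hne ⟨p, hp.2⟩).elim⟩
  by_cases hirr : IsPreirreducible (C : Set (PrimeSpectrum R))
  swap
  · rw [isPreirreducible_iff_isClosed_union_isClosed] at hirr
    push Not at hirr
    obtain ⟨z₁, z₂, hz₁, hz₂, hsub, hn₁, hn₂⟩ := hirr
    have l₁ : (⟨_, C.isClosed.inter hz₁⟩ : TopologicalSpace.Closeds (PrimeSpectrum R)) < C :=
      SetLike.lt_iff_le_and_exists.2 ⟨fun x hx => hx.1, by
        obtain ⟨x, hx, hx'⟩ := Set.not_subset.1 hn₁
        exact ⟨x, hx, fun h => hx' h.2⟩⟩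
    have l₂ : (⟨_, C.isClosed.inter hz₂⟩ : TopologicalSpace.Closeds (PrimeSpectrum R)) < C :=
      SetLike.lt_iff_le_and_exists.2 ⟨fun x hx => hx.1, by
        obtain ⟨x, hx, hx'⟩ := Set.not_subset.1 hn₂
        exact ⟨x, hx, fun h => hx' h.2⟩⟩
    exact (ih _ l₁).of_subset_union (ih _ l₂) fun x hx => (hsub hx).imp (fun h => ⟨hx, h⟩) fun h => ⟨hx, h⟩
  let E : Set (PrimeSpectrum R) := {p | AlgSt.Points.ofChart v p ∈ Set.range (AlgSt.Points.map f)}
  by_cases hd : closure (E ∩ (C : Set (PrimeSpectrum R))) = (C : Set (PrimeSpectrum R))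
  swap
  · have l : (⟨_, isClosed_closure⟩ : TopologicalSpace.Closeds (PrimeSpectrum R)) < C :=
      lt_of_le_of_ne (closure_minimal Set.inter_subset_right C.isClosed : closure (E ∩ (C : Set (PrimeSpectrum R))) ⊆ _)
        (fun h => hd (congrArg SetLike.coe h : _))
    obtain ⟨I, hI, T, t, h₁, h₂, h₃⟩ := ih _ l
    exact ⟨I, hI, T, t, h₁, h₂, fun p hp => h₃ ⟨hp.1, subset_closure hp⟩⟩
  have hI : IsIrreducible (C : Set (PrimeSpectrum R)) := ⟨hne, hirr⟩
  let η : PrimeSpectrum R := hI.genericPoint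
  have hC : PrimeSpectrum.zeroLocus (η.asIdeal : Set R) = (C : Set (PrimeSpectrum R)) := by
    rw [← PrimeSpectrum.closure_singleton]
    exact hI.isGenericPoint_genericPoint C.isClosed
  let A := R ⧸ η.asIdeal
  haveI : IsDomain A := Ideal.Quotient.isDomain _
  let i : Spec (CommRingCat.of A) ⟶ Spec R := Spec.map (CommRingCat.ofHom (Ideal.Quotient.mk η.asIdeal))
  haveI : IsClosedImmersion i := IsClosedImmersion.spec_of_surjective _ Ideal.Quotient.mk_surjective
  have hrange : Set.range i = (C : Set (PrimeSpectrum R)) := by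
    rw [← hC]
    exact (range_comap_of_surjective _ _ Ideal.Quotient.mk_surjective).trans
      (by rw [Ideal.mk_ker])
  let sA : Spec (CommRingCat.of A) ⟶ S := i ≫ str
  let iO : Over.mk sA ⟶ Over.mk str := Over.homMk i rfl
  let a := BasedFunctor.comp (AlgSt.overMap iO) v
  have hD : Dense (i ⁻¹' E) := by
    rw [dense_iff_closure_eq, i.isClosedEmbedding.isInducing.closure_eq_preimage_closure_image,
      Set.image_preimage_eq_inter_range, hrange, hd, ← hrange, Set.preimage_range]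
  obtain ⟨U, hU, hUl⟩ := hc A sA a (i ⁻¹' E) hD fun p hp => by
    rw [show AlgSt.Points.ofChart a p = AlgSt.Points.ofChart v (i p) from ofChart_overMap iO v p]
    exact hp
  haveI : TopologicalSpace.NoetherianSpace ↥(Spec (CommRingCat.of A)) :=
    inferInstanceAs (TopologicalSpace.NoetherianSpace (PrimeSpectrum (CommRingCat.of A)))
  haveI : CompactSpace (U : Scheme.{u}) :=
    isCompact_iff_compactSpace.1 (TopologicalSpace.NoetherianSpace.isCompact _)
  let T₀ : Over S := Over.mk (U.ι ≫ sA)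
  let o : T₀ ⟶ Over.mk sA := Over.homMk U.ι rfl
  have hl₀ : Lift f (BasedFunctor.comp (AlgSt.overMap (o ≫ iO)) v) :=
    hUl.of_iso (whiskerRightIso (overMapCompIso o iO) v)
  have hclosed : IsClosed (i '' (U : Set ↥(Spec (CommRingCat.of A)))ᶜ) :=
    i.isClosedEmbedding.isClosedMap _ U.2.isClosed_compl
  have l : (⟨_, hclosed⟩ : TopologicalSpace.Closeds (PrimeSpectrum R)) < C :=
    SetLike.lt_iff_le_and_exists.2 ⟨fun x hx => by
      obtain ⟨y, -, rfl⟩ := hx
      exact hrange.le ⟨y, rfl⟩, by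
      obtain ⟨y, hy⟩ := hU
      refine ⟨i y, hrange.le ⟨y, rfl⟩, ?_⟩
      rintro ⟨y', hy', he⟩
      obtain rfl := i.isClosedEmbedding.injective he
      exact hy' hy⟩
  obtain ⟨I, hIf, T, t, h₁, h₂, h₃⟩ := ih _ l
  refine ⟨Option I, inferInstance, fun j => j.elim T₀ T,
    fun j => j.casesOn (o ≫ iO) t, fun j => j.casesOn (inferInstanceAs (CompactSpace (U : Scheme.{u}))) h₁,
    fun j => j.casesOn hl₀ h₂, fun p hp => ?_⟩
  obtain ⟨y, rfl⟩ := hrange.ge hp.2
  by_cases hy : y ∈ U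
  · exact Set.mem_iUnion.2 ⟨none, ⟨⟨y, hy⟩, rfl⟩⟩
  · obtain ⟨j, hj⟩ := Set.mem_iUnion.1 (h₃ ⟨hp.1, y, hy, rfl⟩)
    exact Set.mem_iUnion.2 ⟨some j, hj⟩

/-- Finitely many quasi-compact lifting pieces cover the image over an affine. -/
theorem exists_pieces (hc : SpreadsPts f) {V : Over S} [IsLocallyNoetherian V.left] (v : FibCat.overCat V ⥤ᵇ 𝒳)
    (U : Over S) [IsAffine U.left] (u : FibCat.overCat U ⥤ᵇ 𝒳) (T : Over S) (k : T ⟶ U) (h : T ⟶ V)
    (ikh : BasedFunctor.comp (AlgSt.overMap k) u ≅ BasedFunctor.comp (AlgSt.overMap h) v)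
    (hk : IsOpenMap k.left) (hks : Function.Surjective k.left) :
    ∃ (I : Type u) (_ : Finite I) (Z : I → Over S) (z : ∀ i, Z i ⟶ U), (∀ i, CompactSpace (Z i).left) ∧
      (∀ i, Lift f (BasedFunctor.comp (AlgSt.overMap (z i)) u)) ∧
      ∀ t, AlgSt.Points.ofChart u t ∈ Set.range (AlgSt.Points.map f) → t ∈ ⋃ i, Set.range (z i).left := by
  obtain ⟨O, hO, eO⟩ := hk.exists_opens_image_eq_of_prespectralSpace k.left.continuous
    (by simp [hks.range_eq]) isOpen_univ isCompact_univ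
  -- finitely many affine pieces, each inside an affine open of the atlas
  obtain ⟨N, hN⟩ := hO.elim_finite_subcover
    (fun B : {B : T.left.affineOpens // ∃ A : V.left.affineOpens, B.1 ≤ h.left ⁻¹ᵁ A.1} => (B.1.1 : Set ↥T.left))
    (fun B => B.1.1.2) fun s _ => by
      obtain ⟨A, hA, hsA, -⟩ := exists_isAffineOpen_mem_and_subset (X := V.left) (x := h.left s) (U := ⊤) trivial
      obtain ⟨B, hB, hsB, hle⟩ := exists_isAffineOpen_mem_and_subset (X := T.left) (x := s) (U := h.left ⁻¹ᵁ A) hsA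
      exact Set.mem_iUnion.2 ⟨⟨⟨B, hB⟩, ⟨⟨A, hA⟩, hle⟩⟩, hsB⟩
  have hpiece : ∀ B : N, ∃ (I : Type) (_ : Finite I) (Z : I → Over S) (z : ∀ i, Z i ⟶ U),
      (∀ i, CompactSpace (Z i).left) ∧ (∀ i, Lift f (BasedFunctor.comp (AlgSt.overMap (z i)) u)) ∧
      ∀ s ∈ B.1.1.1, AlgSt.Points.ofChart u (k.left s) ∈ Set.range (AlgSt.Points.map f) →
        k.left s ∈ ⋃ i, Set.range (z i).left := by
    intro B
    obtain ⟨A, hle⟩ := B.1.2
    haveI : IsAffine A.1.toScheme := A.2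
    haveI : IsNoetherianRing Γ(V.left, A.1) := IsLocallyNoetherian.component_noetherian A
    let j : Over.mk (A.2.fromSpec ≫ V.hom) ⟶ V := Over.homMk A.2.fromSpec rfl
    obtain ⟨I, hI, W, t, hW, hl, hcov⟩ :=
      covered_spec hc _ _ (BasedFunctor.comp (AlgSt.overMap j) v)
    let b : Over.mk (B.1.1.2.fromSpec ≫ T.hom) ⟶ T := Over.homMk B.1.1.2.fromSpec rfl
    have hbr : Set.range (b ≫ h).left ⊆ Set.range A.2.fromSpec := by
      rintro _ ⟨q, rfl⟩
      rw [A.2.range_fromSpec]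
      exact hle (B.1.1.2.range_fromSpec.le ⟨q, rfl⟩)
    haveI : IsOpenImmersion A.2.fromSpec := A.2.isOpenImmersion_fromSpec
    let l := IsOpenImmersion.lift A.2.fromSpec (b ≫ h).left hbr
    have hl' : l ≫ A.2.fromSpec = (b ≫ h).left := IsOpenImmersion.lift_fac _ _ _
    let Z : I → Over S := fun i => Over.mk (pullback.fst l (t i).left ≫ B.1.1.2.fromSpec ≫ T.hom)
    let q : ∀ i, Z i ⟶ Over.mk (B.1.1.2.fromSpec ≫ T.hom) := fun i => Over.homMk (pullback.fst l (t i).left) rfl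
    let r : ∀ i, Z i ⟶ W i := fun i => Over.homMk (pullback.snd l (t i).left) (by
      show pullback.snd l (t i).left ≫ (W i).hom = _
      rw [← Over.w (t i), ← pullback.condition_assoc]
      show pullback.fst l (t i).left ≫ l ≫ A.2.fromSpec ≫ V.hom = _
      rw [← Category.assoc l, hl']
      congr 1
      exact Over.w (b ≫ h))
    have hrq : ∀ i, r i ≫ t i ≫ j = q i ≫ b ≫ h := fun i => Over.OverMorphism.ext (by
      show pullback.snd l (t i).left ≫ (t i).left ≫ A.2.fromSpec = pullback.fst l (t i).left ≫ (b ≫ h).left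
      rw [← pullback.condition_assoc, hl'])
    refine ⟨I, hI, Z, fun i => q i ≫ b ≫ k, fun i => ?_, fun i => ?_, fun s hs hmem => ?_⟩
    · haveI := hW i
      haveI : QuasiSeparatedSpace ↥(Over.mk (A.2.fromSpec ≫ V.hom)).left :=
        inferInstanceAs (QuasiSeparatedSpace ↥(Spec Γ(V.left, A.1)))
      haveI : CompactSpace ↥(Over.mk (A.2.fromSpec ≫ V.hom)).left :=
        inferInstanceAs (CompactSpace ↥(Spec Γ(V.left, A.1)))
      haveI : CompactSpace ↥(Over.mk (B.1.1.2.fromSpec ≫ T.hom)).left :=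
        inferInstanceAs (CompactSpace ↥(Spec Γ(T.left, B.1.1.1)))
      haveI : QuasiCompact (t i).left :=
        (quasiCompact_iff_compactSpace (X := (W i).left) (f := (t i).left)).2 (hW i)
      haveI : QuasiCompact (pullback.fst l (t i).left) := inferInstance
      exact QuasiCompact.compactSpace_of_compactSpace (pullback.fst l (t i).left)
    · refine ((hl i).precomp (r i)).of_iso ?_
      exact (whiskerLeftIso (AlgSt.overMap (r i)) (whiskerRightIso (overMapCompIso (t i) j) v) ≪≫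
          whiskerRightIso (overMapCompIso (r i) (t i ≫ j) ≪≫ eqToIso (congrArg AlgSt.overMap (hrq i))) v) ≪≫
        whiskerRightIso ((overMapCompIso (q i ≫ b) h).trans (eqToIso (by rw [Category.assoc]))).symm v ≪≫
        (whiskerLeftIso (AlgSt.overMap (q i ≫ b)) ikh).symm ≪≫
        whiskerRightIso ((overMapCompIso (q i ≫ b) k).trans (eqToIso (by rw [Category.assoc]))) u
    · obtain ⟨s', hs'⟩ := B.1.1.2.range_fromSpec.ge hs
      have hE : AlgSt.Points.ofChart (BasedFunctor.comp (AlgSt.overMap j) v) (l s') ∈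
          Set.range (AlgSt.Points.map f) := by
        rw [show AlgSt.Points.ofChart (BasedFunctor.comp (AlgSt.overMap j) v) (l s') =
          AlgSt.Points.ofChart v (A.2.fromSpec (l s')) from ofChart_overMap j v (l s'),
          show A.2.fromSpec (l s') = h.left s from by
            rw [← Scheme.Hom.comp_apply, hl']
            exact congrArg h.left hs']
        have e₁ := pts_map_congr ikh (ptAt T s)
        rw [← ofChart_eq_map, ← ofChart_eq_map, ofChart_overMap, ofChart_overMap] at e₁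
        rwa [← e₁]
      obtain ⟨i, w, hw⟩ := Set.mem_iUnion.1 (hcov ⟨hE, trivial⟩)
      obtain ⟨zz, hz₁, -⟩ := Scheme.Pullback.exists_preimage_pullback (f := l) (g := (t i).left) s' w hw.symm
      refine Set.mem_iUnion.2 ⟨i, zz, ?_⟩
      show k.left (B.1.1.2.fromSpec (pullback.fst l (t i).left zz)) = k.left s
      rw [hz₁]
      exact congrArg k.left hs'
  choose I hI Z z hZ hlift hcov using hpiece
  haveI := hI
  refine ⟨Σ B : N, ULift (I B), inferInstance, fun j => Z j.1 j.2.down, fun j => z j.1 j.2.down,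
    fun j => hZ _ _, fun j => hlift _ _, fun t ht => ?_⟩
  obtain ⟨s, hsO, rfl⟩ := eO.ge (Set.mem_univ t)
  obtain ⟨B, hBN, hsB⟩ : ∃ B ∈ N, s ∈ B.1.1 := by simpa using hN hsO
  obtain ⟨i, hi⟩ := Set.mem_iUnion.1 (hcov ⟨B, hBN⟩ s hsB ht)
  exact Set.mem_iUnion.2 ⟨⟨⟨B, hBN⟩, ⟨i⟩⟩, hi⟩

/-- A monomorphism is quasi-compact when lifts spread out and the target is locally Noetherian. -/
theorem isQuasiCompactMor (h𝒳 : AlgSt.IsAlgStack K₀ 𝒳) (h𝒴 : AlgSt.IsAlgStack K₀ 𝒴)
    (hnoeth : AlgSt.SmoothLocally (fun X => IsLocallyNoetherian X) 𝒳)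
    (hlfp : AlgSt.RepByAlgSpWith (LocP @LocallyOfFinitePresentation) f) (hm : AlgSt.IsMono f) (hc : Spreads f) :
    AlgSt.IsQuasiCompactMor K₀ f := by
  have hX := h𝒳.isStack.1
  have hY := h𝒴.isStack.1
  obtain ⟨V, v, hv, hv'⟩ := h𝒳.atlas
  haveI : IsLocallyNoetherian V.left := hnoeth V v hv
  refine isQuasiCompactMor_of_affine h𝒴 h𝒳.isStack h𝒳.diag fun U u hU => ?_
  haveI := hU
  obtain ⟨T, k, h, ⟨ikh⟩, -, hR, hs⟩ := exists_chart_fp hX u (repByAlgSp1_of_repByAlgSpWith hv)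
  have hk : IsOpenMap k.left := isOpenMap_of_flat_lfp _ (hR _ etale_le_flat (repByAlgSpWith_flat_of_smooth hv))
    (hR _ etale_le_lfp (repByAlgSpWith_lfp_of_smooth hv))
  obtain ⟨I, hI, Z, z, hZ, hlift, hcov⟩ :=
    exists_pieces (spreadsPts_of_spreads hX hY hlfp hm hc) v U u T k h ikh hk (hs hv')
  -- the fibre product is compact
  have hW := isAlgStack_fp (isAlgStack_overCat U) h𝒴 h𝒳.isStack h𝒳.diag u f
  rw [isQuasiCompact_iff_compactSpace_points hW.isStack.1 hW.atlas]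
  choose y hy using fun i => hlift i
  let c := fun i => FibCat.fpLift (AlgSt.overMap (z i)) (y i) (hy i).some.symm
  have hinj : Function.Injective (AlgSt.Points.map (FibCat.fpFst u f)) :=
    pts_map_injective_of_isMono hW.isStack.1 (isFibGrpd_overCat U) (repByAlgSpWith_fpFst u hm)
  refine ⟨?_⟩
  have : (Set.univ : Set (AlgSt.Points (FibCat.fp u f))) = ⋃ i, Set.range (AlgSt.Points.ofChart (c i)) := by
    refine (Set.eq_univ_of_forall fun w => ?_).symm
    let t₀ := toSch U (AlgSt.Points.map (FibCat.fpFst u f) w)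
    have ht₀ : AlgSt.Points.map (FibCat.fpFst u f) w = ptAt U t₀ :=
      (toSch_bijective U).1 (toSch_ptAt U t₀).symm
    have hE : AlgSt.Points.ofChart u t₀ ∈ Set.range (AlgSt.Points.map f) :=
      ⟨AlgSt.Points.map (FibCat.fpSnd u f) w, by
        rw [ofChart_eq_map, ← ht₀, ← pts_map_comp, ← pts_map_comp]
        exact (pts_map_congr (FibCat.fpIso u f) w).symm⟩
    obtain ⟨i, r, hr⟩ := Set.mem_iUnion.1 (hcov t₀ hE)
    refine Set.mem_iUnion.2 ⟨i, r, hinj ?_⟩
    rw [ht₀, ofChart_eq_map, ← pts_map_comp]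
    refine (toSch_bijective U).1 ?_
    rw [toSch_ptAt]
    show toSch U (AlgSt.Points.map (AlgSt.overMap (z i)) (ptAt _ r)) = t₀
    rw [toSch_map_overMap, toSch_ptAt, hr]
  rw [this]
  haveI := hI
  haveI := hZ
  exact isCompact_iUnion fun i => isCompact_range (continuous_ofChart hW.isStack.1 hW.atlas (c i))

end Groth.Agent.AlgStLib.MonoQC
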