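import Groth.Agent.AlgStLib.MonoImm
import Groth.Agent.AlgStLib.MonoQC
import Groth.Agent.AlgStLib.QuasiCompactImm
import Groth.Agent.AlgStLib.MonoFactor
import Groth.Agent.AlgSpLib.ClosedImmDesc
import Groth.Agent.AlgSpPts.SepDescent

/-!
# Monomorphisms of stacks with the lifting properties are quasi-compact immersions
-/

set_option autoImplicit false
set_option linter.style.haveILetI false
set_option backward.isDefEq.respectTransparency false
set_option backward.isDefEq.respectTransparency.types false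

universe u

open CategoryTheory CategoryTheory.Functor CategoryTheory.Limits AlgebraicGeometry Opposite AlgSp IsLocalRing

noncomputable section

namespace Groth.Agent.AlgStLib.MonoImm

open Groth.Agent.FibBase Groth.Agent.AlgSpLib Groth.Agent.AlgSpDec Groth.Agent.AlgStLib.MonoQC

variable {S : Scheme.{u}} {𝒳 𝒴 : AlgSt.Cat S}

local notation "K₀" => Scheme.fppfPrecoverage

/-- Discrete valuation rings whose generic and closed points lift do lift. -/
def DvrLifts (f : 𝒴 ⥤ᵇ 𝒳) : Prop :=
  ∀ (A : Type u) [CommRing A] [IsDomain A] [IsDiscreteValuationRing A] (K : Type u) [Field K] [Algebra A K]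
    [IsFractionRing A K] (sA : Spec (CommRingCat.of A) ⟶ S) (a : FibCat.overCat (Over.mk sA) ⥤ᵇ 𝒳),
    Lift f (BasedFunctor.comp (AlgSt.overMap (Over.homMk (Spec.map (CommRingCat.ofHom (algebraMap A K))) rfl :
      Over.mk ((Spec.map (CommRingCat.ofHom (algebraMap A K))) ≫ sA) ⟶ Over.mk sA)) a) →
    Lift f (BasedFunctor.comp (AlgSt.overMap (Over.homMk (Spec.map (CommRingCat.ofHom (IsLocalRing.residue A))) rfl :
      Over.mk ((Spec.map (CommRingCat.ofHom (IsLocalRing.residue A))) ≫ sA) ⟶ Over.mk sA)) a) →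
    Lift f a

theorem eq_of_overMap_iso {V U : Over S} {a b : V ⟶ U}
    (i : (AlgSt.overMap a : FibCat.overCat V ⥤ᵇ FibCat.overCat U) ≅ AlgSt.overMap b) : a = b := by
  let m := (isoApp i (Over.mk (𝟙 V))).hom
  have hm : m.left = 𝟙 V :=
    (map_eq_of_isHomLift_id (p := (FibCat.overCat U : AlgSt.Cat S).p) (BasedNatTrans.isHomLift i.hom rfl))
  have := Over.w m
  rw [hm] at this
  exact ((Category.id_comp a).symm.trans this.symm).trans ((Category.id_comp _).trans (Category.id_comp b))

theorem repByAlgSpWith_qcImmersion (h𝒳 : AlgSt.IsAlgStack K₀ 𝒳) (h𝒴 : AlgSt.IsAlgStack K₀ 𝒴)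
    (hnoeth : AlgSt.SmoothLocally (fun X => IsLocallyNoetherian X) 𝒳) {f : 𝒴 ⥤ᵇ 𝒳}
    (hrep : AlgSt.RepByAlgSp1 f) (hlfp : AlgSt.RepByAlgSpWith (LocP @LocallyOfFinitePresentation) f)
    (hm : AlgSt.IsMono f) (hb : DvrLifts f) (hc : Spreads f) :
    AlgSt.RepByAlgSpWith (RepWith (@IsImmersion ⊓ @QuasiCompact)) f := by
  have hqc : AlgSt.RepByAlgSpWith IsQuasiCompactMor f :=
    (repByAlgSpWith_isQuasiCompactMor_iff h𝒴 h𝒳.isStack h𝒳.diag hrep).2
      (isQuasiCompactMor h𝒳 h𝒴 hnoeth hlfp hm hc)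
  obtain ⟨V, v, hv, hv'⟩ := id h𝒳.atlas
  haveI : IsLocallyNoetherian V.left := hnoeth V v hv
  obtain ⟨F, e, he⟩ := hrep V v
  let a := AlgSt.spMapOfOver (BasedFunctor.comp e (FibCat.fpFst v f))
  haveI : Mono a := isMono_property hm v e he
  have hla : LocP @LocallyOfFinitePresentation a :=
    (RepOver.property_of_stableBC stableBC_locP (hlfp V v) e he).2
  have hqa : IsQuasiCompactMor a := (RepOver.property_of_stableBC stableBC_isQuasiCompactMor (hqc V v) e he).2
  have hlft : LocP @LocallyOfFiniteType a :=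
    locP_mono (P := @LocallyOfFinitePresentation) (fun _ _ g (hg : LocallyOfFinitePresentation g) =>
      show LocallyOfFiniteType g from haveI := hg; inferInstance) hla
  have hqf : LocP (@LocallyQuasiFinite ⊓ @LocallyOfFiniteType) a :=
    lqf_of_selfProd F.property a hlft (locP_of_repWith (repWith_of_isIso _ (pullback.fst a a)))
  obtain ⟨X, ⟨j⟩⟩ := exists_iso_of_lqf_separated F.property a hqf (isSeparatedMor_of_mono a)
  obtain ⟨g, hg⟩ := (yon S).map_surjective (j.hom ≫ a)
  have hjg : RepWith (@IsImmersion ⊓ @QuasiCompact) ((yon S).map g) → RepWith (@IsImmersion ⊓ @QuasiCompact) a := by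
    intro h
    rw [show a = j.inv ≫ (yon S).map g by rw [hg, Iso.inv_hom_id_assoc]]
    exact repWith_comp (repWith_of_isIso _ _) h
  have hgl : LocP @LocallyOfFiniteType ((yon S).map g) := by
    rw [hg]
    exact locP_comp (IsAlgSpace.yon_obj X) F.property (IsAlgSpace.yon_obj V)
      (locP_of_repWith (repWith_of_isIso _ j.hom)) hlft
  haveI : LocallyOfFiniteType g.left := locP_yon_map hgl
  haveI : QuasiCompact g.left := AlgSpPts.quasiCompact_of_isQuasiCompactMor g (by
    rw [hg]
    exact AlgSpPts.isQuasiCompactMor_comp F.property (IsAlgSpace.yon_obj V) (AlgSpPts.isQuasiCompactMor_of_repWith (repWith_of_isIso _ j.hom)) hqa)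
  haveI : Mono ((yon S).map g) := by rw [hg]; infer_instance
  haveI : Mono g := (yon S).mono_of_mono_map ‹_›
  haveI : Mono g.left := inferInstance
  let E : FibCat.overCat X ⥤ᵇ FibCat.fp v f := BasedFunctor.comp (overOfMap j.hom) e
  have hE : FibCat.IsEquivOver E :=
    isEquivOver_comp (isEquivOver_comp (isEquivOver_ofOverCat X) (isEquivOver_ofSpMap j.hom)) he
  let iE : BasedFunctor.comp E (FibCat.fpFst v f) ≅ AlgSt.overMap g :=
    overMapPullIso j.hom (BasedFunctor.comp e (FibCat.fpFst v f)) g hg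
  have hliftX : Lift f (BasedFunctor.comp (AlgSt.overMap g) v) :=
    ⟨BasedFunctor.comp E (FibCat.fpSnd v f),
      ⟨(whiskerLeftIso E (FibCat.fpIso v f)).symm ≪≫ whiskerRightIso iE v⟩⟩
  have hdvr : DvrLift g.left := by
    intro A _ _ _ a₀ k hk hcl
    obtain ⟨x, hx⟩ := hcl
    let T : Over S := Over.mk (a₀ ≫ V.hom)
    let aO : T ⟶ V := Over.homMk a₀ rfl
    let α := BasedFunctor.comp (AlgSt.overMap aO) v
    let gen := Spec.map (CommRingCat.ofHom (algebraMap A (FractionRing A)))
    let TK : Over S := Over.mk (gen ≫ a₀ ≫ V.hom)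
    let genO : TK ⟶ T := Over.homMk gen rfl
    let kO : TK ⟶ X := Over.homMk k (by
      show k ≫ X.hom = gen ≫ a₀ ≫ V.hom
      rw [← Over.w g, reassoc_of% hk])
    have hkO : kO ≫ g = genO ≫ aO := Over.OverMorphism.ext hk
    have hlK : Lift f (BasedFunctor.comp (AlgSt.overMap genO) α) :=
      (hliftX.precomp kO).of_iso (whiskerRightIso (overMapCompIso kO g) v ≪≫
        whiskerRightIso (eqToIso (congrArg AlgSt.overMap hkO)) v ≪≫
        (whiskerRightIso (overMapCompIso genO aO) v).symm)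
    have hlk : Lift f (BasedFunctor.comp (AlgSt.overMap (Over.homMk (Spec.map (CommRingCat.ofHom (IsLocalRing.residue A))) rfl :
        Over.mk ((Spec.map (CommRingCat.ofHom (IsLocalRing.residue A))) ≫ a₀ ≫ V.hom) ⟶ T)) α) := by
      let res := Spec.map (CommRingCat.ofHom (IsLocalRing.residue A))
      obtain ⟨⟨p, φ⟩, hφ⟩ := (Scheme.SpecToEquivOfField (IsLocalRing.ResidueField A) V.left).symm.surjective (res ≫ a₀)
      have hφ' : Spec.map φ ≫ V.left.fromSpecResidueField p = res ≫ a₀ := hφ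
      have hp : p = g.left x := by
        have h1 := congrArg (fun m : Spec (CommRingCat.of (IsLocalRing.ResidueField A)) ⟶ V.left =>
          m (closedPoint (IsLocalRing.ResidueField A))) hφ'
        simp only [Scheme.Hom.comp_apply, Scheme.fromSpecResidueField_apply] at h1
        rw [h1, hx]
        exact congrArg a₀ (IsLocalRing.comap_closedPoint (IsLocalRing.residue A))
      have hmem : AlgSt.Points.ofChart v p ∈ Set.range (AlgSt.Points.map f) := by
        rw [hp, ← ofChart_overMap g v x]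
        exact hliftX.mem_range x
      let P₀ : Over S := Over.mk (V.left.fromSpecResidueField p ≫ V.hom)
      let ι₀ : P₀ ⟶ V := Over.homMk (V.left.fromSpecResidueField p) rfl
      let r : Over.mk (res ≫ a₀ ≫ V.hom) ⟶ P₀ := Over.homMk (Spec.map φ) (by
        show Spec.map φ ≫ V.left.fromSpecResidueField p ≫ V.hom = res ≫ a₀ ≫ V.hom
        rw [reassoc_of% hφ'])
      let resO : Over.mk (res ≫ a₀ ≫ V.hom) ⟶ T := Over.homMk res rfl
      have hr : r ≫ ι₀ = resO ≫ aO := Over.OverMorphism.ext hφ'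
      exact ((lift_residue h𝒳.isStack.1 h𝒴.isStack.1 hlfp hm v p hmem).precomp r).of_iso
        (whiskerRightIso (overMapCompIso r ι₀) v ≪≫
          whiskerRightIso (eqToIso (congrArg AlgSt.overMap hr)) v ≪≫
          (whiskerRightIso (overMapCompIso resO aO) v).symm)
    obtain ⟨y, ⟨iy⟩⟩ := hb A (FractionRing A) (a₀ ≫ V.hom) α hlK hlk
    let c := FibCat.fpLift (AlgSt.overMap aO) y iy.symm
    obtain ⟨E', -, -, ⟨iE'⟩⟩ := isEquivOver_inv hE
    obtain ⟨l, ⟨il⟩⟩ := exists_mapB (BasedFunctor.comp c E')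
    refine ⟨l.left, congrArg CommaMorphism.left (eq_of_overMap_iso (a := l ≫ g) (b := aO) ?_)⟩
    exact (overMapCompIso l g).symm ≪≫ whiskerRightIso il (AlgSt.overMap g) ≪≫
      whiskerLeftIso (BasedFunctor.comp c E') iE.symm ≪≫
      whiskerRightIso (whiskerLeftIso c iE') (FibCat.fpFst v f) ≪≫ Iso.refl _
  haveI : IsImmersion g.left := isImmersion g.left hdvr
  have hP : RepWith (@IsImmersion ⊓ @QuasiCompact) a :=
    hjg ((repWith_yon_map_iff _ _).2 ⟨inferInstance, inferInstance⟩)
  exact repByAlgSpWith_of_locEssSurj stableBC_of (isLocalOnBase_fppf_of_fpqc isLocalOnBase_fpqc_qcImmersion)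
    hrep (locEssSurj_of_atlas hv hv')
    ((repByAlgSpWith_iff_of_square (f := FibCat.fpFst v f) (f' := AlgSt.ofSpMap a) (a := e)
      (b := AlgSt.toOverCat V) he (isEquivOver_toOverCat V)
      (isoSpMapOfOver (BasedFunctor.comp e (FibCat.fpFst v f))).symm).2
      (repByAlgSpWith_ofSpMap stableBC_of F.property (IsAlgSpace.yon_obj V) _ hP))

end Groth.Agent.AlgStLib.MonoImm
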