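import Groth.Agent.AlgStLib.SliceBC
import Groth.Agent.AlgStLib.MonoImmSt
import Groth.Agent.AlgSpVal.PolyClosed

/-!
# Closed images in affine base changes of a quasi-compact category over a Noetherian affine slice
-/

set_option autoImplicit false
set_option linter.style.haveILetI false
set_option backward.isDefEq.respectTransparency false
set_option backward.isDefEq.respectTransparency.types false

universe u

open CategoryTheory CategoryTheory.Functor CategoryTheory.Limits AlgebraicGeometry Opposite AlgSp IsLocalRing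
open scoped TensorProduct

noncomputable section

namespace Groth.Agent.AlgStLib.SliceBC

open Groth.Agent.FibBase Groth.Agent.AlgSpLib Groth.Agent.AlgSpVal

variable {S : Scheme.{u}} {𝒲 : AlgSt.Cat S}

theorem toSch_ofChart_id {U V : Over S} (k : V ⟶ U) (t : ↥V.left) :
    toSch U (AlgSt.Points.ofChart (AlgSt.overMap k) t) = k.left t := by
  rw [ofChart_eq_map, toSch_map_overMap, toSch_ptAt]

variable {Q V : Over S} {p : FibCat.overCat Q ⥤ᵇ 𝒲} {π : 𝒲 ⥤ᵇ FibCat.overCat V} {q : Q ⟶ V}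
  (iq : BasedFunctor.comp p π ≅ AlgSt.overMap q)

/-- The map on base changes. -/
def bcMap {T T₀ : Over S} {h : T ⟶ V} {h₀ : T₀ ⟶ V} (φ : T ⟶ T₀) (hφ : φ ≫ h₀ = h) :
    FibCat.fp (AlgSt.overMap h) π ⥤ᵇ FibCat.fp (AlgSt.overMap h₀) π :=
  FibCat.fpLift (BasedFunctor.comp (FibCat.fpFst (AlgSt.overMap h) π) (AlgSt.overMap φ))
    (FibCat.fpSnd (AlgSt.overMap h) π)
    (whiskerLeftIso (FibCat.fpFst (AlgSt.overMap h) π) (overMapCompIso φ h₀ ≪≫ eqToIso (congrArg AlgSt.overMap hφ)) ≪≫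
      FibCat.fpIso (AlgSt.overMap h) π)

/-- Points of the chart over a point of a smaller chart. -/
theorem exists_point (hW : FibCat.IsFibGrpd 𝒲.p) {T T₀ W W₀ : Over S} {h : T ⟶ V} {h₀ : T₀ ⟶ V}
    {prT : W ⟶ T} {prQ : W ⟶ Q} (sq : IsPullback prT prQ h q)
    {prT₀ : W₀ ⟶ T₀} {prQ₀ : W₀ ⟶ Q} (sq₀ : IsPullback prT₀ prQ₀ h₀ q)
    (φ : T ⟶ T₀) (hφ : φ ≫ h₀ = h) (ψ : W ⟶ W₀) (hψ₁ : ψ ≫ prQ₀ = prQ) (hψ₂ : ψ ≫ prT₀ = prT ≫ φ)
    (c : AlgSt.Points (FibCat.fp (AlgSt.overMap h) π)) (v : ↥W₀.left)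
    (hv : AlgSt.Points.ofChart (ch iq sq₀) v = AlgSt.Points.map (bcMap φ hφ) c) :
    ∃ w, ψ.left w = v ∧ AlgSt.Points.ofChart (ch iq sq) w = c := by
  have hG := fp_isFibGrpd (F := AlgSt.overMap h) (G := π) (isFibGrpd_overCat T) hW (isFibGrpd_overCat V)
  have hG₀ := fp_isFibGrpd (F := AlgSt.overMap h₀) (G := π) (isFibGrpd_overCat T₀) hW (isFibGrpd_overCat V)
  let M : FibCat.fp (AlgSt.overMap h) π ⥤ᵇ FibCat.fp (AlgSt.overMap h₀) π := bcMap φ hφ
  let X := FibCat.fp (ch iq sq₀) M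
  obtain ⟨z, hz₁, hz₂⟩ := exists_pts_fp hG hG₀ (isFibGrpd_overCat W₀) M (ch iq sq₀) (ptAt W₀ v) c
    (by rw [← ofChart_eq_map]; exact hv)
  have hX : FibCat.IsFibGrpd X.p := fp_isFibGrpd (isFibGrpd_overCat W₀) hG hG₀
  obtain ⟨r, rfl⟩ := AlgSt.Points.mk_surjective z
  obtain ⟨ρ, hρ⟩ := exists_ofChart_eq hX r
  obtain ⟨ka, ⟨ia⟩⟩ := exists_mapB (BasedFunctor.comp ρ (FibCat.fpFst (ch iq sq₀) M))
  obtain ⟨kb, ⟨ib⟩⟩ := exists_mapB
    (BasedFunctor.comp ρ (BasedFunctor.comp (FibCat.fpSnd (ch iq sq₀) M) (FibCat.fpFst (AlgSt.overMap h) π)))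
  have e : ka ≫ prT₀ = kb ≫ φ := MonoImm.eq_of_overMap_iso
    ((overMapCompIso ka prT₀).symm ≪≫ whiskerRightIso ia (AlgSt.overMap prT₀) ≪≫
      whiskerRightIso (whiskerLeftIso ρ (FibCat.fpIso (ch iq sq₀) M)) (FibCat.fpFst (AlgSt.overMap h₀) π) ≪≫
      (whiskerRightIso ib (AlgSt.overMap φ)).symm ≪≫ overMapCompIso kb φ)
  let kW := sq.lift kb (ka ≫ prQ₀) (by rw [Category.assoc, ← sq₀.w, reassoc_of% e, hφ])
  have hkb : kW ≫ prT = kb := sq.lift_fst _ _ _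
  have hka : kW ≫ prQ = ka ≫ prQ₀ := sq.lift_snd _ _ _
  have hψ : kW ≫ ψ = ka := sq₀.hom_ext (by rw [Category.assoc, hψ₂, reassoc_of% hkb, e])
    (by rw [Category.assoc, hψ₁, hka])
  let I : BasedFunctor.comp (AlgSt.overMap kW) (ch iq sq) ≅ BasedFunctor.comp ρ (FibCat.fpSnd (ch iq sq₀) M) :=
    fpSliceIso _ _
      (overMapCompIso kW prT ≪≫ eqToIso (congrArg AlgSt.overMap hkb) ≪≫ ib)
      (whiskerRightIso (overMapCompIso kW prQ ≪≫ eqToIso (congrArg AlgSt.overMap hka) ≪≫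
          (overMapCompIso ka prQ₀).symm ≪≫ whiskerRightIso ia (AlgSt.overMap prQ₀)) p ≪≫
        whiskerRightIso (whiskerLeftIso ρ (FibCat.fpIso (ch iq sq₀) M)) (FibCat.fpSnd (AlgSt.overMap h₀) π))
  let t : ↥(Over.mk r.str : Over S).left := IsLocalRing.closedPoint r.K
  refine ⟨kW.left t, ?_, ?_⟩
  · rw [← Scheme.Hom.comp_apply, ← Over.comp_left, hψ, ← toSch_ofChart_id ka t, ofChart_eq_map]
    rw [show AlgSt.Points.map (AlgSt.overMap ka) (ptAt (Over.mk r.str) t) = _ from pts_map_congr ia _, pts_map_comp,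
      ← ofChart_eq_map, hρ, hz₁, toSch_ptAt]
  · rw [← ofChart_overMap, ofChart_eq_map, pts_map_congr I, pts_map_comp, ← ofChart_eq_map, hρ, hz₂]

/-- Specialisations lift for the base changes to locally Noetherian schemes. -/
def SpLift (π : 𝒲 ⥤ᵇ FibCat.overCat V) : Prop :=
  ∀ ⦃T₀ W₀ : Over S⦄ (h₀ : T₀ ⟶ V) (c₀ : FibCat.overCat W₀ ⥤ᵇ FibCat.fp (AlgSt.overMap h₀) π) (r : W₀ ⟶ T₀),
    IsLocallyNoetherian T₀.left → LocallyOfFiniteType r.left →
    Nonempty (BasedFunctor.comp c₀ (FibCat.fpFst (AlgSt.overMap h₀) π) ≅ AlgSt.overMap r) →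
    ∀ (z : ↥W₀.left) (t' : ↥T₀.left), r.left z ⤳ t' →
      ∃ c', AlgSt.Points.ofChart c₀ z ⤳ c' ∧ AlgSt.Points.map (FibCat.fpFst (AlgSt.overMap h₀) π) c' = ptAt T₀ t'

theorem map_fst_ch {T W : Over S} {h : T ⟶ V} {prT : W ⟶ T} {prQ : W ⟶ Q} (sq : IsPullback prT prQ h q)
    (w : ↥W.left) :
    AlgSt.Points.map (FibCat.fpFst (AlgSt.overMap h) π) (AlgSt.Points.ofChart (ch iq sq) w) = ptAt T (prT.left w) := by
  rw [ofChart_eq_map, ← pts_map_comp, pts_map_congr (chFst iq sq), map_overMap_ptAt]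

end SliceBC

namespace PolyClosedSt

open Groth.Agent.FibBase Groth.Agent.AlgSpLib Groth.Agent.AlgSpVal SliceBC

variable {S : Scheme.{u}} {𝒲 : AlgSt.Cat S} {A R : CommRingCat.{u}} {str : Spec A ⟶ S}
  {π : 𝒲 ⥤ᵇ FibCat.overCat (Over.mk str : Over S)}

theorem hasAtlas_bc {T V : Over S} {π : 𝒲 ⥤ᵇ FibCat.overCat V} (hW : FibCat.IsFibGrpd 𝒲.p)
    (hA : AlgSt.HasAtlas (LocP @Smooth) 𝒲) (h : T ⟶ V) :
    AlgSt.HasAtlas (LocP @Smooth) (FibCat.fp (AlgSt.overMap h) π) :=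
  hasAtlas_fp etale_le_smooth (isFibGrpd_overCat T) hW (isFibGrpd_overCat V) (isAlgStack_overCat V).diag
    (isAlgStack_overCat T).atlas hA _ _

/-- The images of closed sets in all affine base changes are closed. -/
theorem isClosed_image (hW : FibCat.IsFibGrpd 𝒲.p) (hA : AlgSt.HasAtlas (LocP @Smooth) 𝒲) [IsNoetherianRing A]
    (γ : A ⟶ R) (hγ : γ.hom.FiniteType) {p : FibCat.overCat (Over.mk (Spec.map γ ≫ str) : Over S) ⥤ᵇ 𝒲}
    (iq : BasedFunctor.comp p π ≅ AlgSt.overMap (specToBase γ))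
    (hp₁ : AlgSt.RepByAlgSpWith (LocP @Flat) p) (hp₂ : AlgSt.RepByAlgSpWith (LocP @LocallyOfFinitePresentation) p)
    (hp₃ : AlgSt.RepByAlgSpWith IsSurjectiveMor p) (hsp : SpLift π)
    {B : CommRingCat.{u}} (β : A ⟶ B)
    (C : Set (AlgSt.Points (FibCat.fp (AlgSt.overMap (specToBase (str := str) β)) π))) (hC : IsClosed C) :
    IsClosed {t | ∃ c ∈ C, AlgSt.Points.map (FibCat.fpFst (AlgSt.overMap (specToBase (str := str) β)) π) c =
      ptAt (Over.mk (Spec.map β ≫ str)) t} := by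
  let _ : Algebra A R := γ.hom.toAlgebra
  let _ : Algebra A B := β.hom.toAlgebra
  let l : R ⟶ CommRingCat.of (R ⊗[A] B) := CommRingCat.ofHom Algebra.TensorProduct.includeLeftRingHom
  let r : B ⟶ CommRingCat.of (R ⊗[A] B) :=
    CommRingCat.ofHom (Algebra.TensorProduct.includeRight (R := A) (A := R) (B := B)).toRingHom
  have hpo : IsPushout γ β l r := CommRingCat.isPushout_tensorProduct A R B
  let T : Over S := Over.mk (Spec.map β ≫ str)
  let W : Over S := Over.mk (Spec.map (β ≫ r) ≫ str)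
  let prQ : W ⟶ Over.mk (Spec.map γ ≫ str) := specHom γ l _ hpo.w
  let prT : W ⟶ T := specHom β r _ rfl
  have hw : prQ ≫ specToBase γ = prT ≫ specToBase β :=
    Over.OverMorphism.ext (isPullback_SpecMap_of_isPushout _ _ _ _ hpo).w
  have sq : IsPullback prT prQ (specToBase β) (specToBase γ) :=
    IsPullback.flip (IsPullback.of_map (Over.forget S) hw (isPullback_SpecMap_of_isPushout _ _ _ _ hpo))
  rw [← isOpen_compl_iff, isOpen_iff_forall_mem_open]
  intro t ht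
  have hG := fp_isFibGrpd (F := AlgSt.overMap (specToBase (str := str) β)) (G := π) (isFibGrpd_overCat T) hW
    (isFibGrpd_overCat _)
  let Cw : Set (PrimeSpectrum (R ⊗[A] B)) := AlgSt.Points.ofChart (ch iq sq) ⁻¹' C
  have hUB : IsClosed Cw := hC.preimage (continuous_ofChart hG (hasAtlas_bc hW hA _) (ch iq sq))
  let J : Ideal (R ⊗[A] B) := PrimeSpectrum.vanishingIdeal Cw
  have hJ : PrimeSpectrum.zeroLocus (J : Set (R ⊗[A] B)) = Cw := by
    rw [PrimeSpectrum.zeroLocus_vanishingIdeal_eq_closure]; exact hUB.closure_eq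
  obtain ⟨n, φ, hφ⟩ := exists_polynomial_descent J (show PrimeSpectrum B from t).asIdeal fun P hP hJP hPt => by
    have hw : (⟨P, hP⟩ : PrimeSpectrum (R ⊗[A] B)) ∈ Cw := hJ ▸ (show (J : Set (R ⊗[A] B)) ⊆ P from hJP)
    exact ht ⟨_, hw, (map_fst_ch iq sq _).trans (congrArg (ptAt T) (PrimeSpectrum.ext hPt))⟩
  let B₀ : CommRingCat.{u} := CommRingCat.of (MvPolynomial (ULift.{u} (Fin n)) A)
  let l₀ : R ⟶ CommRingCat.of (R ⊗[A] B₀) := CommRingCat.ofHom Algebra.TensorProduct.includeLeftRingHom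
  let r₀ : B₀ ⟶ CommRingCat.of (R ⊗[A] B₀) :=
    CommRingCat.ofHom (Algebra.TensorProduct.includeRight (R := A) (A := R) (B := B₀)).toRingHom
  have hpo₀ : IsPushout γ (polyHom A n) l₀ r₀ := CommRingCat.isPushout_tensorProduct A R B₀
  let T₀ : Over S := Over.mk (Spec.map (polyHom A n) ≫ str)
  let W₀ : Over S := Over.mk (Spec.map (polyHom A n ≫ r₀) ≫ str)
  let prQ₀ : W₀ ⟶ Over.mk (Spec.map γ ≫ str) := specHom γ l₀ _ hpo₀.w
  let prT₀ : W₀ ⟶ T₀ := specHom (polyHom A n) r₀ _ rfl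
  have hw₀ : prQ₀ ≫ specToBase γ = prT₀ ≫ specToBase (polyHom A n) :=
    Over.OverMorphism.ext (isPullback_SpecMap_of_isPushout _ _ _ _ hpo₀).w
  have sq₀ : IsPullback prT₀ prQ₀ (specToBase (polyHom A n)) (specToBase γ) :=
    IsPullback.flip (IsPullback.of_map (Over.forget S) hw₀ (isPullback_SpecMap_of_isPushout _ _ _ _ hpo₀))
  let φc : B₀ ⟶ B := CommRingCat.ofHom φ.toRingHom
  have hφc : polyHom A n ≫ φc = β := CommRingCat.hom_ext (RingHom.ext φ.commutes)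
  let Φ : CommRingCat.of (R ⊗[A] B₀) ⟶ CommRingCat.of (R ⊗[A] B) :=
    CommRingCat.ofHom (Algebra.TensorProduct.map (AlgHom.id A R) φ).toRingHom
  have hl : l₀ ≫ Φ = l := by
    ext x
    change Algebra.TensorProduct.map (AlgHom.id A R) φ (x ⊗ₜ 1) = x ⊗ₜ 1
    simp
  have hr : r₀ ≫ Φ = φc ≫ r := by
    refine CommRingCat.hom_ext (RingHom.ext fun x => ?_)
    change Algebra.TensorProduct.map (AlgHom.id A R) φ (1 ⊗ₜ x) = 1 ⊗ₜ φ x
    simp
  let f₀ : T ⟶ T₀ := specHom (polyHom A n) φc β hφc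
  let ψ : W ⟶ W₀ := specHom (polyHom A n ≫ r₀) Φ (β ≫ r) (by rw [Category.assoc, hr, ← Category.assoc, hφc])
  have hψ₁ : ψ ≫ prQ₀ = prQ := by
    rw [specHom_comp]; exact specHom_congr _ _ _ _ hl
  have hψ₂ : ψ ≫ prT₀ = prT ≫ f₀ := by
    rw [specHom_comp, specHom_comp]; exact specHom_congr _ _ _ _ hr
  have hf₀ : f₀ ≫ specToBase (str := str) (polyHom A n) = specToBase β := specHom_toBase _ _ _ _
  -- the closed set on the smaller base
  let c₀ := ch iq sq₀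
  have hG₀ := fp_isFibGrpd (F := AlgSt.overMap (specToBase (str := str) (polyHom A n))) (G := π)
    (isFibGrpd_overCat T₀) hW (isFibGrpd_overCat _)
  let M := bcMap (π := π) f₀ hf₀
  let C₀ := closure (AlgSt.Points.map M '' C)
  let Z₀ : Set (PrimeSpectrum (R ⊗[A] B₀)) := PrimeSpectrum.zeroLocus (J.comap Φ.hom : Set (R ⊗[A] B₀))
  have hsub : AlgSt.Points.ofChart c₀ ⁻¹' C₀ ⊆ Z₀ := by
    rw [(isOpenMap_ofChart hG₀ (repByAlgSpWith_ch iq sq₀ hp₁)
      (repByAlgSpWith_ch iq sq₀ hp₂)).preimage_closure_eq_closure_preimage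
        (continuous_ofChart hG₀ (hasAtlas_bc hW hA _) c₀)]
    refine closure_minimal ?_ (PrimeSpectrum.isClosed_zeroLocus _)
    rintro v ⟨c, hc, hcv⟩
    obtain ⟨w, rfl, hwc⟩ := exists_point iq hW sq sq₀ f₀ hf₀ ψ hψ₁ hψ₂ c v hcv.symm
    intro x hx
    exact hJ.ge (show (w : PrimeSpectrum (R ⊗[A] B)) ∈ Cw by
      show AlgSt.Points.ofChart (ch iq sq) w ∈ C
      rw [hwc]; exact hc) hx
  have hT₀ : IsLocallyNoetherian T₀.left :=
    inferInstanceAs (IsLocallyNoetherian (Spec (CommRingCat.of (MvPolynomial (ULift.{u} (Fin n)) A))))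
  haveI : LocallyOfFiniteType (specToBase (str := str) γ).left :=
    (HasRingHomProperty.Spec_iff (P := @LocallyOfFiniteType)).2 hγ
  have hlft : LocallyOfFiniteType prT₀.left :=
    MorphismProperty.of_isPullback (P := @LocallyOfFiniteType) (sq₀.map (Over.forget S)).flip ‹_›
  let D : Set ↥T₀.left := prT₀.left '' (AlgSt.Points.ofChart c₀ ⁻¹' C₀)
  have hD : IsClosed D := by
    have hcl : IsClosed (AlgSt.Points.ofChart c₀ ⁻¹' C₀) :=
      isClosed_closure.preimage (continuous_ofChart hG₀ (hasAtlas_bc hW hA _) c₀)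
    have hst : StableUnderSpecialization D := by
      rintro s s' hss ⟨z, hz, rfl⟩
      obtain ⟨c', hzc', hc'⟩ := hsp _ c₀ prT₀ hT₀ hlft ⟨chFst iq sq₀⟩ z s' hss
      obtain ⟨w, rfl⟩ := ofChart_surjective hG₀ (repByAlgSpWith_ch iq sq₀ hp₃) c'
      refine ⟨w, hzc'.mem_closed isClosed_closure hz, ?_⟩
      rw [map_fst_ch iq sq₀] at hc'
      simpa only [toSch_ptAt] using congrArg (toSch T₀) hc'
    exact PrimeSpectrum.isClosed_image_of_stableUnderSpecialization r₀.hom _ hcl hst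
  refine ⟨f₀.left ⁻¹' Dᶜ, ?_, hD.isOpen_compl.preimage f₀.left.continuous, ?_⟩
  · rintro t' ht' ⟨c, hc, hct⟩
    obtain ⟨v, hv⟩ := ofChart_surjective hG₀ (repByAlgSpWith_ch iq sq₀ hp₃) (AlgSt.Points.map M c)
    refine ht' ⟨v, ?_, ?_⟩
    · show AlgSt.Points.ofChart c₀ v ∈ C₀
      rw [hv]
      exact subset_closure ⟨c, hc, rfl⟩
    · have h1 := (map_fst_ch iq sq₀ v).symm.trans (congrArg _ hv)
      rw [← pts_map_comp] at h1
      rw [show BasedFunctor.comp M (FibCat.fpFst (AlgSt.overMap (specToBase (str := str) (polyHom A n))) π) =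
        BasedFunctor.comp (FibCat.fpFst (AlgSt.overMap (specToBase (str := str) β)) π) (AlgSt.overMap f₀) from rfl,
        pts_map_comp, hct, map_overMap_ptAt] at h1
      simpa only [toSch_ptAt] using congrArg (toSch T₀) h1
  · rintro ⟨w, hw, hwt⟩
    exact hφ (show PrimeSpectrum (R ⊗[A] B₀) from w).asIdeal (show PrimeSpectrum (R ⊗[A] B₀) from w).isPrime
      (hsub hw) (congrArg PrimeSpectrum.asIdeal hwt)

end PolyClosedSt

end Groth.Agent.AlgStLib
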