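import Groth.Agent.AlgSpLib.AffineDescProps
import Groth.Agent.AlgStLib.AffineMor
import Groth.Agent.AlgStLib.DiagQC
import Groth.Agent.AlgStLib.DiagLFT
import Groth.Agent.AlgStLib.CatModuliLocal
import Groth.Agent.AmpleX.Comp

/-!
# Quasi-affine morphisms representable by algebraic spaces
-/

set_option autoImplicit false
set_option linter.style.haveILetI false
set_option backward.isDefEq.respectTransparency false
set_option backward.isDefEq.respectTransparency.types false

universe u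

open CategoryTheory CategoryTheory.Functor CategoryTheory.Limits AlgebraicGeometry Opposite AlgSp

namespace Groth.Agent.AlgStLib

open Groth.Agent.FibBase Groth.Agent.AlgSpLib

variable {S : Scheme.{u}} {𝒳 𝒴 𝒵 : AlgSt.Cat S} {P : MorphismProperty (Sp S)}

theorem stableBC_isQuasiAffineMor : StableBC (IsQuasiAffineMor (S := S)) :=
  fun _ _ _ _ _ _ _ _ _ _ _ _ sq h => isQuasiAffineMor_of_isPullback sq h

theorem mor2_isQuasiAffine_of_isAffine {W Z : Scheme.{u}} [W.IsQuasiAffine] [IsAffine Z] (i : W ⟶ Z) :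
    Mor2.IsQuasiAffine i := by
  have : QuasiCompact i := (quasiCompact_iff_compactSpace i).2 inferInstance
  refine ⟨this, fun V hV => ?_⟩
  have : CompactSpace (i ⁻¹ᵁ V : Scheme.{u}) :=
    isCompact_iff_compactSpace.1 (i.isCompact_preimage hV.isCompact)
  exact Scheme.IsQuasiAffine.of_isImmersion (i ⁻¹ᵁ V).ι

theorem stableComp_isQuasiAffineMor : StableComp (IsQuasiAffineMor (S := S)) := by
  intro X Y T _ _ _ a b ha hb Z hZ g
  obtain ⟨W, i, fst, sq, hW⟩ := hb hZ g
  obtain ⟨W', i', fst', sq'⟩ : ∃ (W' : Over S) (i' : W' ⟶ W) (fst' : (yon S).obj W' ⟶ X),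
      IsPullback fst' ((yon S).map i') a fst := AlgSpDec.representable_of_isQuasiAffineMor ha fst
  have hi' : Mor2.IsQuasiAffine i'.left := by
    refine ⟨((repWith_of_isQuasiAffineMor ha).property fst fst' i' sq').2, fun V hV => ?_⟩
    let TV : Over S := Over.mk (V.ι ≫ W.hom)
    let inc : TV ⟶ W := CategoryTheory.Over.homMk V.ι rfl
    let WV : Over S := Over.mk ((i'.left ⁻¹ᵁ V).ι ≫ W'.hom)
    let r : WV ⟶ TV := CategoryTheory.Over.homMk (i'.left ∣_ V) (by
      change _ ≫ V.ι ≫ W.hom = _ ≫ W'.hom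
      rw [← Category.assoc, (isPullback_morphismRestrict i'.left V).w, Category.assoc, Over.w i'])
    let k : WV ⟶ W' := CategoryTheory.Over.homMk (i'.left ⁻¹ᵁ V).ι rfl
    have hw : k ≫ i' = r ≫ inc := Over.OverMorphism.ext (isPullback_morphismRestrict i'.left V).w.symm
    have sqk : IsPullback k r i' inc :=
      IsPullback.of_map (Over.forget S) hw (isPullback_morphismRestrict i'.left V).flip
    obtain ⟨W'', i'', fst'', sq₂, hW''⟩ := ha (Z := TV) hV ((yon S).map inc ≫ fst)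
    let e : WV ≅ W'' := (yon S).preimageIso (((sqk.map (yon S)).paste_horiz sq').isoIsPullback _ _ sq₂)
    haveI : IsIso e.hom.left := inferInstanceAs (IsIso ((Over.forget S).map e.hom))
    haveI := hW''
    exact Scheme.IsQuasiAffine.of_isAffineHom (e.hom.left : _ ⟶ W''.left)
  haveI := hW
  haveI : IsAffine Z.left := hZ
  have hc := AmpleX.isQuasiAffine_comp i'.left i.left hi' (mor2_isQuasiAffine_of_isAffine i.left)
  haveI : Scheme.IsQuasiAffine ((⊤ : W'.left.Opens) : Scheme.{u}) := hc.2 ⊤ (isAffineOpen_top _)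
  refine ⟨W', i' ≫ i, fst', ?_, ?_⟩
  · rw [Functor.map_comp]
    exact (sq'.flip.paste_horiz sq.flip).flip
  · exact Scheme.IsQuasiAffine.of_isAffineHom (Scheme.topIso W'.left).inv

theorem isQuasiAffineMor_of_repBySpWith {F G : Sp S} (a : F ⟶ G) (h : RepBySpWith IsQuasiAffineMor a.hom) :
    IsQuasiAffineMor a := fun Z hZ g => by
  obtain ⟨-, hs⟩ := (repBySpWith_hom_iff IsQuasiAffineMor a).1 h g _ _ (IsPullback.of_hasPullback a g)
  obtain ⟨W, i, fst, sq, hW⟩ := hs hZ (𝟙 _)
  exact ⟨W, i, fst ≫ pullback.fst a g, by simpa using sq.paste_horiz (IsPullback.of_hasPullback a g), hW⟩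

theorem isQuasiAffineMor_yon_map {U V : Over S} (k : U ⟶ V) [IsAffineHom k.left] :
    IsQuasiAffineMor ((yon S).map k) := by
  intro Z hZ g
  have hr : RepWith @IsAffineHom ((yon S).map k) := (repWith_yon_map_iff _ k).2 inferInstance
  haveI : IsAffineHom (hr.rep.snd g).left := hr.property_snd g
  haveI : IsAffine Z.left := hZ
  haveI : IsAffine (hr.rep.pullback g).left := isAffine_of_isAffineHom (hr.rep.snd g).left
  exact ⟨_, hr.rep.snd g, hr.rep.fst g, hr.rep.isPullback g, inferInstance⟩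

theorem repByAlgSpWith_overMap_isQuasiAffineMor {U V : Over S} (k : U ⟶ V) [IsAffineHom k.left] :
    AlgSt.RepByAlgSpWith IsQuasiAffineMor (AlgSt.overMap k) :=
  repByAlgSpWith_overMap stableBC_isQuasiAffineMor (isQuasiAffineMor_yon_map k)

theorem repByAlgSpWith_toSelf_overCat (U : Over S) (h : IsAffineHom U.hom) :
    AlgSt.RepByAlgSpWith IsQuasiAffineMor (FibCat.toSelf (FibCat.overCat U : AlgSt.Cat S)) := fun T y => by
  obtain rfl := eq_toSelf y
  refine ⟨⟨(yon S).obj (T ⨯ U), IsAlgSpace.yon_obj _⟩, BasedFunctor.comp (AlgSt.toOverCat (T ⨯ U)) (sliceProd T U),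
    isEquivOver_comp (isEquivOver_toOverCat _) (sliceProd_isEquivOver T U), ?_⟩
  let j : BasedFunctor.comp (BasedFunctor.comp (AlgSt.toOverCat (T ⨯ U)) (sliceProd T U))
      (FibCat.fpFst (FibCat.toSelf (FibCat.overCat T : AlgSt.Cat S)) (FibCat.toSelf (FibCat.overCat U : AlgSt.Cat S))) ≅
      BasedFunctor.comp (AlgSt.ofSpMap ((yon S).map (prod.fst : T ⨯ U ⟶ T))) (AlgSt.toOverCat T) :=
    toOverCatMapIso (prod.fst : T ⨯ U ⟶ T)
  rw [spMapOfOver_congr j, spMapOfOver_ofSpMap_toOverCat]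
  haveI : IsAffineHom (prod.fst : T ⨯ U ⟶ T).left := by
    haveI : IsAffineHom (pullback.fst T.hom U.hom) := MorphismProperty.pullback_fst _ _ h
    rw [← Over.prodLeftIsoPullback_hom_fst T U]
    infer_instance
  exact isQuasiAffineMor_yon_map _

theorem repByAlgSpWith_diag_toSelf_overCat (U : Over S) [IsSeparated U.hom] :
    AlgSt.RepByAlgSpWith IsQuasiAffineMor (FibCat.diag (FibCat.toSelf (FibCat.overCat U : AlgSt.Cat S))) := by
  haveI : IsAffineHom (prod.lift (𝟙 U) (𝟙 U) : U ⟶ U ⨯ U).left := by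
    haveI : IsClosedImmersion (pullback.diagonal U.hom) := IsSeparated.isClosedImmersion_diagonal
    have e : (prod.lift (𝟙 U) (𝟙 U) : U ⟶ U ⨯ U).left ≫ (Over.prodLeftIsoPullback U U).hom =
        pullback.diagonal U.hom := by
      apply pullback.hom_ext <;>
        simp [← Over.comp_left]
    have e' : (prod.lift (𝟙 U) (𝟙 U) : U ⟶ U ⨯ U).left =
        pullback.diagonal U.hom ≫ (Over.prodLeftIsoPullback U U).inv := (Iso.eq_comp_inv _).2 e
    rw [e']
    infer_instance
  let δ : U ⟶ U ⨯ U := prod.lift (𝟙 U) (𝟙 U)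
  let t := FibCat.toSelf (FibCat.overCat U : AlgSt.Cat S)
  let ia : BasedFunctor.comp (BasedFunctor.comp (AlgSt.overMap δ) (sliceProd U U)) (FibCat.fpFst t t) ≅
      BasedFunctor.comp (FibCat.diag t) (FibCat.fpFst t t) :=
    overMapCompIso δ prod.fst ≪≫ eqToIso (congrArg AlgSt.overMap (prod.lift_fst _ _)) ≪≫
      overIso _ _ (fun x => by
        show 𝟙 x.left ≫ x.hom = x.hom ≫ 𝟙 U
        simp)
  let ib : BasedFunctor.comp (BasedFunctor.comp (AlgSt.overMap δ) (sliceProd U U)) (FibCat.fpSnd t t) ≅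
      BasedFunctor.comp (FibCat.diag t) (FibCat.fpSnd t t) :=
    overMapCompIso δ prod.snd ≪≫ eqToIso (congrArg AlgSt.overMap (prod.lift_snd _ _)) ≪≫
      overIso _ _ (fun x => by
        show 𝟙 x.left ≫ x.hom = x.hom ≫ 𝟙 U
        simp)
  exact repByAlgSpWith_of_iso (DiagQC.fpSelfIso ia ib)
    (repByAlgSpWith_postcomp (sliceProd_isEquivOver U U) (repByAlgSpWith_overMap_isQuasiAffineMor δ))

/-- Properties local on the base descend along families of functors covering locally. -/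
theorem repByAlgSpWith_of_locFamily {I : Type*} {Z : I → AlgSt.Cat S} (hPb : StableBC P)
    (hloc : IsLocalOnBase IsFppfCover P) {f : 𝒳 ⥤ᵇ 𝒴} (hf : AlgSt.RepByAlgSp1 f) (g : ∀ i, Z i ⥤ᵇ 𝒴)
    (hg : ∀ (U : Over S) (y : FibCat.overCat U ⥤ᵇ 𝒴), ∃ R ∈ (QuotSh.J Scheme.fppfPrecoverage S) U,
      ∀ ⦃V : Over S⦄ (h : V ⟶ U), R.arrows h →
        ∃ (i : I) (z : FibCat.overCat V ⥤ᵇ Z i),
          Nonempty (BasedFunctor.comp z (g i) ≅ BasedFunctor.comp (AlgSt.overMap h) y))
    (h' : ∀ i, AlgSt.RepByAlgSpWith P (FibCat.fpFst (g i) f)) : AlgSt.RepByAlgSpWith P f := by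
  intro U y
  obtain ⟨F, e, he⟩ := hf U y
  refine ⟨F, e, he, ?_⟩
  obtain ⟨R, hR, hz⟩ := hg U y
  obtain ⟨ι, V, v, hvf, hvp, hvs, hvR⟩ := exists_fppf_of_mem_J (show R ∈ J S U from hR)
  have hV : ∀ k, IsAlgSpace ((yon S).obj (V k)) := fun k => IsAlgSpace.yon_obj (V k)
  have hFk : ∀ k, IsAlgSpace
      (pullback (AlgSt.spMapOfOver (BasedFunctor.comp e (FibCat.fpFst y f))) ((yon S).map (v k))) :=
    fun k => isAlgSpace_pullback F.property (hV k) (IsAlgSpace.yon_obj U) _ _
  refine (hloc _ _ (IsAlgSpace.yon_obj U) hV (isFppfCover_yon_map V v hvf hvp hvs) _ F.property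
    _ (fun k => pullback.snd _ _) (fun k => pullback.fst _ _) hFk
    (fun k => IsPullback.of_hasPullback _ _)).2 fun k => ?_
  obtain ⟨i, z, ⟨iz⟩⟩ := hz (v k) (hvR k)
  exact property_pullback_of_repOver hPb (v k) y F.property e he
    (repOver_congr iz (RepOver.of_equiv (h' i _ z) (pasteVert z (g i) f) (pasteVert_isEquivOver z (g i) f)
      (Iso.refl _)))

end Groth.Agent.AlgStLib
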