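import Groth.Prelude.Def_AlgSt5
import Groth.Agent.AlgStLib.SpQuotStack
import Groth.Agent.AlgStLib.SpTorsor
import Groth.Agent.AlgSpLib.AffineDescProps
import Groth.Agent.AlgStLib.SpProps
import Groth.Agent.FibBase.Basic
import Mathlib.CategoryTheory.Monoidal.Cartesian.Grp

/-!
# Quotient stacks with scheme torsors as quotient stacks with sheaf torsors

Schemes over `S` embed fully faithfully, compatibly with products, into sheaves over the sheaf of `S`.
For an affine group, every sheaf torsor is a scheme, so the two quotient stacks agree.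
-/

set_option autoImplicit false
set_option backward.isDefEq.respectTransparency false
set_option backward.isDefEq.respectTransparency.types false

universe u

open CategoryTheory CategoryTheory.Functor CategoryTheory.Limits MonoidalCategory CartesianMonoidalCategory MonObj
  AlgebraicGeometry AlgSp

namespace Groth.Agent.AlgStLib.ToSp

open Groth.Agent.AlgSpLib Groth.Agent.AlgSpPts

variable {S : Scheme.{u}}

/-- The sheaf of the base scheme. -/
noncomputable abbrev base₀ (S : Scheme.{u}) : Sp S := (yon S).obj (Over.mk (𝟙 S))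

/-- The structure morphism to the final scheme over `S`. -/
noncomputable abbrev toT (U : Over S) : U ⟶ Over.mk (𝟙 S) := (Over.mkIdTerminal (X := S)).from U

theorem hom_ext_T {U : Over S} (f g : U ⟶ Over.mk (𝟙 S)) : f = g := (Over.mkIdTerminal (X := S)).hom_ext f g

variable (S) in
/-- A scheme over `S` as a sheaf over the sheaf of `S`. -/
noncomputable def L : Over S ⥤ Over (base₀ S) where
  obj U := Over.mk ((yon S).map (toT U))
  map {U V} f := Over.homMk ((yon S).map f) (by
    show (yon S).map f ≫ (yon S).map (toT V) = (yon S).map (toT U)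
    rw [← (yon S).map_comp, hom_ext_T (f ≫ toT V) (toT U)])
  map_id U := Over.OverMorphism.ext ((yon S).map_id U)
  map_comp f g := Over.OverMorphism.ext ((yon S).map_comp f g)

@[simp] theorem L_map_left {U V : Over S} (f : U ⟶ V) : ((L S).map f).left = (yon S).map f := rfl

theorem L_obj_eq (U : Over S) : (L S).obj U = Over.mk ((yon S).map (toT U)) := rfl

instance : (L S).Faithful := ⟨fun {U V} f g h => (yon S).map_injective (congrArg CommaMorphism.left h)⟩

instance : (L S).Full := ⟨fun {U V} φ => ⟨(yon S).preimage φ.left, Over.OverMorphism.ext ((yon S).map_preimage _)⟩⟩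

theorem isLimit_binaryFan (U V : Over S) :
    Nonempty (IsLimit (BinaryFan.mk ((L S).map (fst U V)) ((L S).map (snd U V)))) := by
  have sq : IsPullback (fst U V) (snd U V) (toT U) (toT V) := by
    have h := AlgSt.isPullback_fst_snd U V
    rwa [show toUnit U = toT U from hom_ext_T _ _, show toUnit V = toT V from hom_ext_T _ _] at h
  have sq' := sq.map (yon S)
  refine ⟨BinaryFan.isLimitMk
    (fun c => Over.homMk (sq'.lift (BinaryFan.fst c).left (BinaryFan.snd c).left
      ((Over.w (BinaryFan.fst c)).trans (Over.w (BinaryFan.snd c)).symm)) ?_) ?_ ?_ ?_⟩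
  · show _ ≫ (yon S).map (toT (U ⊗ V)) = _
    rw [hom_ext_T (toT (U ⊗ V)) (fst U V ≫ toT U), (yon S).map_comp, IsPullback.lift_fst_assoc]
    exact Over.w (BinaryFan.fst c)
  · exact fun c => Over.OverMorphism.ext (sq'.lift_fst _ _ _)
  · exact fun c => Over.OverMorphism.ext (sq'.lift_snd _ _ _)
  · intro c m h₁ h₂
    refine Over.OverMorphism.ext (sq'.hom_ext ?_ ?_)
    · exact (congrArg CommaMorphism.left h₁).trans (sq'.lift_fst _ _ _).symm
    · exact (congrArg CommaMorphism.left h₂).trans (sq'.lift_snd _ _ _).symm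

instance : PreservesFiniteProducts (L S) := by
  have h₂ : ∀ U V : Over S, PreservesLimit (pair U V) (L S) := fun U V =>
    preservesLimit_of_preserves_limit_cone (tensorProductIsBinaryProduct U V)
      ((isLimitMapConeBinaryFanEquiv (L S) (fst U V) (snd U V)).symm (isLimit_binaryFan U V).some)
  have : PreservesLimitsOfShape (Discrete WalkingPair) (L S) :=
    ⟨fun {K} => preservesLimit_of_iso_diagram _ (diagramIsoPair K).symm⟩
  have hT : IsTerminal ((L S).obj (Over.mk (𝟙 S))) := by
    refine IsTerminal.ofUniqueHom (fun X => Over.homMk X.hom ?_) fun X m => Over.OverMorphism.ext ?_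
    · show X.hom ≫ (yon S).map (toT _) = X.hom
      rw [hom_ext_T (toT (Over.mk (𝟙 S))) (𝟙 _), (yon S).map_id, Category.comp_id]
    · have := Over.w m
      have key : ((L S).obj (Over.mk (𝟙 S))).hom = 𝟙 _ := by
        show (yon S).map (toT (Over.mk (𝟙 S))) = _
        rw [hom_ext_T (toT (Over.mk (𝟙 S))) (𝟙 _), (yon S).map_id]
        rfl
      rw [key] at this
      exact (Category.comp_id _).symm.trans this
  have : PreservesLimit (Functor.empty.{0} (Over S)) (L S) :=
    preservesTerminal_of_iso (L S) ((terminalIsTerminal.uniqueUpToIso (Over.mkIdTerminal (X := S))) |> (L S).mapIso |>.trans (hT.uniqueUpToIso terminalIsTerminal))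
  have := Limits.preservesLimitsOfShape_pempty_of_preservesTerminal (L S)
  exact .of_preserves_binary_and_terminal _

noncomputable instance : (L S).Monoidal := Functor.Monoidal.ofChosenFiniteProducts (L S)

variable {G X : Over S} [GrpObj G]

noncomputable instance : GrpObj ((L S).obj G) := Functor.grpObjObj (F := L S) (G := G)

/-- The transported action. -/
noncomputable def action (a : AlgGrp.Action G X) : GAction ((L S).obj G) ((L S).obj X) where
  act := LaxMonoidal.μ (L S) G X ≫ (L S).map a.act
  one_act := by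
    show ((LaxMonoidal.ε (L S) ≫ (L S).map η[G]) ▷ (L S).obj X) ≫ _ = _
    rw [comp_whiskerRight, Category.assoc, LaxMonoidal.μ_natural_left_assoc, ← (L S).map_comp, a.one_act,
      ← LaxMonoidal.left_unitality]
  mul_act := by
    show ((LaxMonoidal.μ (L S) G G ≫ (L S).map μ[G]) ▷ (L S).obj X) ≫ _ = _
    rw [comp_whiskerRight, Category.assoc, LaxMonoidal.μ_natural_left_assoc, ← (L S).map_comp, a.mul_act,
      (L S).map_comp, LaxMonoidal.associativity_assoc, (L S).map_comp, ← LaxMonoidal.μ_natural_right_assoc,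
      MonoidalCategory.whiskerLeft_comp, Category.assoc]

variable {K : Precoverage Scheme.{u}} {aX : AlgGrp.Action G X}

theorem isPullback_L {P A B C : Over S} {f : P ⟶ A} {g : P ⟶ B} {p : A ⟶ C} {q : B ⟶ C} (h : IsPullback f g p q) :
    IsPullback ((L S).map f) ((L S).map g) ((L S).map p) ((L S).map q) :=
  IsPullback.of_map (Over.forget _) (by rw [← (L S).map_comp, h.w, (L S).map_comp]) (h.map (yon S))

theorem hasSecLoc_yon {T P : Over S} (π : P ⟶ T)
    (h : NonAbH1.IsLocallyTrivialFor K (Over.mk π.left : Over T.left)) : AlgSt.HasSecLoc K ((yon S).map π) := by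
  obtain ⟨R, hR, hs⟩ := h
  refine ⟨R, hR, fun T' f hf => ?_⟩
  obtain ⟨s, hs'⟩ := hs f hf
  have hs'' : s ≫ π.left = f := hs'
  refine ⟨(yon S).map (Over.homMk s (by rw [← Over.w π, ← Category.assoc, hs'']; rfl)), ?_⟩
  rw [← (yon S).map_comp]
  exact congrArg (yon S).map (Over.OverMorphism.ext hs'')

/-- The image of an object. -/
noncomputable def obj (A : AlgSt.QuotObj K G aX) : AlgSt.SpQuotObj K ((L S).obj G) (action aX) where
  base := A.base
  b := (yon S).map (toT A.base)
  P := (L S).obj A.P
  act := action A.act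
  π := (L S).map A.π
  cart := (isPullback_L A.cart).of_iso (Monoidal.μIso (L S) G A.P).symm (Iso.refl _) (Iso.refl _) (Iso.refl _)
    (by simp [action]) (by simp [Monoidal.μ_snd]) (Category.comp_id _) (Category.comp_id _)
  loc := hasSecLoc_yon A.π A.loc
  φ := (L S).map A.φ
  eqv := by
    show (LaxMonoidal.μ (L S) G A.P ≫ (L S).map A.act.act) ≫ (L S).map A.φ = _ ≫ LaxMonoidal.μ (L S) G X ≫ (L S).map aX.act
    rw [Category.assoc, ← (L S).map_comp, A.eqv, LaxMonoidal.μ_natural_right_assoc, (L S).map_comp]

/-- The image of a morphism. -/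
noncomputable def hom {A B : AlgSt.QuotObj K G aX} (f : A ⟶ B) : obj A ⟶ obj B where
  base := f.base
  wb := by
    show (yon S).map f.base ≫ (yon S).map (toT B.base) = (yon S).map (toT A.base)
    rw [← (yon S).map_comp, hom_ext_T (f.base ≫ toT B.base) (toT A.base)]
  top := (L S).map f.top
  eqv := by
    show (LaxMonoidal.μ (L S) G A.P ≫ (L S).map A.act.act) ≫ (L S).map f.top =
      _ ≫ LaxMonoidal.μ (L S) G B.P ≫ (L S).map B.act.act
    rw [Category.assoc, ← (L S).map_comp, f.eqv, LaxMonoidal.μ_natural_right_assoc, (L S).map_comp]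
  cart := by
    have h := isPullback_L f.cart
    exact h
  wφ := by
    show (L S).map f.top ≫ (L S).map B.φ = (L S).map A.φ
    rw [← (L S).map_comp, f.wφ]

variable (G K aX) in
/-- The comparison functor. -/
noncomputable def toSp : BasedFunctor (AlgSt.QuotSt K G aX) (AlgSt.SpQuotSt K ((L S).obj G) (action aX)) where
  toFunctor :=
    { obj := obj
      map := hom
      map_id := fun A => AlgSt.SpQuotObj.hom_ext rfl ((L S).map_id _)
      map_comp := fun f g => AlgSt.SpQuotObj.hom_ext rfl ((L S).map_comp _ _) }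
  w := rfl

instance toSp_faithful : (toSp G K aX).toFunctor.Faithful :=
  ⟨fun {A B} f g h => AlgSt.QuotObj.hom_ext (congrArg (fun k => AlgSt.SpQuotObj.Hom.base k) h)
    ((L S).map_injective (congrArg (fun k => AlgSt.SpQuotObj.Hom.top k) h))⟩

instance toSp_full : (toSp G K aX).toFunctor.Full := by
  refine ⟨fun {A B} φ => ?_⟩
  obtain ⟨t, ht⟩ := (L S).map_surjective φ.top
  refine ⟨⟨φ.base, t, ?_, ?_, ?_⟩, AlgSt.SpQuotObj.hom_ext rfl ht⟩
  · apply (L S).map_injective
    rw [← cancel_epi (LaxMonoidal.μ (L S) G A.P), (L S).map_comp, (L S).map_comp, ← LaxMonoidal.μ_natural_right_assoc,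
      ht, ← Category.assoc]
    exact φ.eqv
  · refine IsPullback.of_map (yon S) ((yon S).map_injective ?_) ?_
    · rw [(yon S).map_comp, (yon S).map_comp]
      have := congrArg CommaMorphism.left φ.cart.w
      rw [← ht] at this
      exact this
    · have := φ.cart.map (Over.forget _)
      rw [← ht] at this
      exact this
  · apply (L S).map_injective
    rw [(L S).map_comp, ht]
    exact φ.wφ

instance isIso_bHom_id {B : Sp S} {T : Over S} {b b' : (yon S).obj T ⟶ B} (w : (yon S).map (𝟙 T) ≫ b' = b) :
    IsIso (AlgSt.bHom (𝟙 T) w) := by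
  haveI : IsIso ((Over.forget B).map (AlgSt.bHom (𝟙 T) w)) :=
    show IsIso ((yon S).map (𝟙 T)) by infer_instance
  exact isIso_of_reflects_iso _ (Over.forget B)

local notation "K₀" => Scheme.fppfPrecoverage

/-- The structure map of a sheaf torsor under an affine group is affine. -/
theorem isAffineMor_π [IsAffineHom G.hom] (A : AlgSt.SpQuotObj K₀ ((L S).obj G) (action aX)) :
    IsAffineMor A.π.left := by
  obtain ⟨J₀, U, f, s, hs, hcov⟩ := exists_sections_cover (A := A)
  have hB : IsAlgSpace (base₀ S) := IsAlgSpace.yon_obj _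
  have hA := isAlgSpace_torsor hB (IsAlgSpace.yon_obj G) A
  choose Q a p c h₁ h₂ using fun i => exists_isPullback_of_section A (f i) (s i) (hs i)
  have hQ : ∀ i, IsAlgSpace (Q i) := fun i => isAlgSpace_of_isPullback (h₂ i) (IsAlgSpace.yon_obj G)
    (IsAlgSpace.yon_obj _) hB
  have hG : RepWith @IsAffineHom ((yon S).map (toT G)) := (repWith_yon_map_iff @IsAffineHom _).2 (by
    have : (toT G).left = G.hom := by simpa using Over.w (toT G)
    rw [this]; infer_instance)
  have hp : ∀ i, IsAffineMor (p i) := fun i => Groth.Agent.AlgSpDec.isAffineMor_of_repWith le_rfl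
    (repWith_of_isPullback (h₂ i) hG)
  exact
    ((isLocalOnBase_fppf_of_fpqc isLocalOnBase_fpqc_isAffineMor) (fun i => (yon S).obj (U i))
      (fun i => (yon S).map (f i)) (IsAlgSpace.yon_obj _) (fun i => IsAlgSpace.yon_obj _) hcov
      A.π.left hA Q p a hQ h₁).2 hp

/-- A sheaf torsor under an affine group is the sheaf of a scheme. -/
theorem exists_scheme [IsAffineHom G.hom] (A : AlgSt.SpQuotObj K₀ ((L S).obj G) (action aX)) :
    ∃ (P : Over S), Nonempty ((yon S).obj P ≅ A.P.left) := by
  have haff := isAffineMor_π A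
  have hrep := (Groth.Agent.AlgSpDec.repWith_isAffineHom_of_isAffineMor haff).rep
  have sq := hrep.isPullback (𝟙 ((yon S).obj A.base))
  haveI := sq.isIso_fst_of_isIso
  exact ⟨_, ⟨asIso (hrep.fst (𝟙 ((yon S).obj A.base)))⟩⟩

/-- The comparison functor is an equivalence for affine groups. -/
theorem toSp_isEquivOver [IsAffineHom G.hom] : FibCat.IsEquivOver (toSp G K₀ aX) := by
  refine Groth.Agent.FibBase.isEquivOver_of_exists_iso _ inferInstance inferInstance fun A => ?_
  obtain ⟨P, ⟨e₀⟩⟩ := exists_scheme A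
  have hb : A.b = (yon S).map (toT A.base) := by
    obtain ⟨b, hb⟩ := (yon S).map_surjective A.b
    rw [← hb, hom_ext_T b (toT A.base)]
  have he : e₀.hom ≫ A.P.hom = (yon S).map (toT P) := by
    obtain ⟨b, hb⟩ := (yon S).map_surjective (e₀.hom ≫ A.P.hom)
    rw [← hb, hom_ext_T b (toT P)]
  let e : (L S).obj P ≅ A.P := Over.isoMk e₀ he
  let eb : (L S).obj A.base ≅ Over.mk A.b := Over.isoMk (Iso.refl _) (by simp [L_obj_eq, hb])
  let π : P ⟶ A.base := (L S).preimage (e.hom ≫ A.π ≫ eb.inv)
  let φ : P ⟶ X := (L S).preimage (e.hom ≫ A.φ)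
  let aM : G ⊗ P ⟶ P :=
    (L S).preimage (OplaxMonoidal.δ (L S) G P ≫ ((L S).obj G ◁ e.hom) ≫ A.act.act ≫ e.inv)
  have haM : LaxMonoidal.μ (L S) G P ≫ (L S).map aM = ((L S).obj G ◁ e.hom) ≫ A.act.act ≫ e.inv := by
    rw [map_preimage, Monoidal.μ_δ_assoc]
  let act : AlgGrp.Action G P :=
    { act := aM
      one_act := by
        apply (L S).map_injective
        rw [(L S).map_comp, ← cancel_epi (LaxMonoidal.μ (L S) (𝟙_ (Over S)) P), ← LaxMonoidal.μ_natural_left_assoc,
          haM, ← cancel_epi (LaxMonoidal.ε (L S) ▷ (L S).obj P), ← LaxMonoidal.left_unitality, ← comp_whiskerRight_assoc,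
          show LaxMonoidal.ε (L S) ≫ (L S).map η[G] = η[(L S).obj G] from rfl, ← whisker_exchange_assoc,
          reassoc_of% A.act.one_act, leftUnitor_naturality_assoc, e.hom_inv_id, Category.comp_id]
      mul_act := by
        apply (L S).map_injective
        rw [(L S).map_comp, ← cancel_epi (LaxMonoidal.μ (L S) (G ⊗ G) P), ← LaxMonoidal.μ_natural_left_assoc,
          haM, ← cancel_epi (LaxMonoidal.μ (L S) G G ▷ (L S).obj P), ← comp_whiskerRight_assoc,
          show LaxMonoidal.μ (L S) G G ≫ (L S).map μ[G] = μ[(L S).obj G] from rfl, ← whisker_exchange_assoc,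
          reassoc_of% A.act.mul_act, (L S).map_comp, LaxMonoidal.associativity_assoc, (L S).map_comp,
          ← LaxMonoidal.μ_natural_right_assoc, haM, ← MonoidalCategory.whiskerLeft_comp_assoc, haM,
          MonoidalCategory.whiskerLeft_comp, Category.assoc, ← MonoidalCategory.whiskerLeft_comp_assoc,
          ← MonoidalCategory.whiskerLeft_comp_assoc, associator_naturality_right_assoc,
          ← MonoidalCategory.whiskerLeft_comp_assoc]
        simp }
  have hπ : (L S).map π = e.hom ≫ A.π ≫ eb.inv := map_preimage _ _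
  have hφ : (L S).map φ = e.hom ≫ A.φ := map_preimage _ _
  have hcartL : IsPullback (LaxMonoidal.μ (L S) G P ≫ (L S).map aM) (snd ((L S).obj G) ((L S).obj P))
      ((L S).map π) ((L S).map π) := by
    rw [haM, hπ]
    exact A.cart.of_iso (whiskerLeftIso _ e).symm e.symm e.symm eb.symm
      (by simp) (by simp) (by simp) (by simp)
  have hcart : IsPullback aM (snd G P) π π := by
    have h2 : IsPullback ((L S).map aM) ((L S).map (snd G P)) ((L S).map π) ((L S).map π) :=
      hcartL.of_iso (Monoidal.μIso (L S) G P) (Iso.refl _) (Iso.refl _) (Iso.refl _)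
        (by simp) (by simp [Monoidal.μ_snd]) (by simp) (by simp)
    exact IsPullback.of_map (L S) ((L S).map_injective (by rw [(L S).map_comp, (L S).map_comp, h2.w])) h2
  have hπ' : (yon S).map π = e₀.hom ≫ A.π.left := by
    have := congrArg CommaMorphism.left hπ
    exact this.trans (congrArg (e₀.hom ≫ ·) (Category.comp_id A.π.left))
  have hloc : NonAbH1.IsLocallyTrivialFor K₀ (Over.mk π.left : Over A.base.left) := by
    obtain ⟨R, hR, hsec⟩ := A.loc
    refine ⟨R, hR, fun T' g hg => ?_⟩
    obtain ⟨s, hs⟩ := hsec g hg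
    obtain ⟨t, ht⟩ := (yon S).map_surjective (s ≫ e₀.inv)
    refine ⟨t.left, ?_⟩
    have : t ≫ π = Over.homMk g := (yon S).map_injective (by
      rw [(yon S).map_comp, ht, hπ', Category.assoc, e₀.inv_hom_id_assoc, hs])
    exact congrArg CommaMorphism.left this
  let Q : AlgSt.QuotObj K₀ G aX :=
    { base := A.base, P := P, act := act, π := π, cart := hcart, loc := hloc, φ := φ
      eqv := by
        apply (L S).map_injective
        rw [← cancel_epi (LaxMonoidal.μ (L S) G P), (L S).map_comp, (L S).map_comp, ← LaxMonoidal.μ_natural_right_assoc,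
          hφ, reassoc_of% haM, e.inv_hom_id_assoc, A.eqv, ← MonoidalCategory.whiskerLeft_comp_assoc]
        rfl }
  let hom₁ : obj Q ⟶ A :=
    { base := 𝟙 _
      wb := by
        show (yon S).map (𝟙 A.base) ≫ A.b = (yon S).map (toT A.base)
        rw [(yon S).map_id, Category.id_comp, hb]
      top := e.hom
      eqv := by
        show (LaxMonoidal.μ (L S) G P ≫ (L S).map aM) ≫ e.hom = _
        rw [haM]; simp
      cart := IsPullback.of_horiz_isIso ⟨by
        refine Over.OverMorphism.ext ?_
        show e₀.hom ≫ A.π.left = (yon S).map π ≫ (yon S).map (𝟙 A.base)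
        rw [(yon S).map_id, Category.comp_id, hπ']⟩
      wφ := hφ.symm }
  let hom₂ : A ⟶ obj Q :=
    { base := 𝟙 _
      wb := by
        show (yon S).map (𝟙 A.base) ≫ (yon S).map (toT A.base) = A.b
        rw [(yon S).map_id, Category.id_comp, hb]
      top := e.inv
      eqv := by
        show A.act.act ≫ e.inv = _ ≫ LaxMonoidal.μ (L S) G P ≫ (L S).map aM
        rw [haM, ← MonoidalCategory.whiskerLeft_comp_assoc, e.inv_hom_id]; simp
      cart := IsPullback.of_horiz_isIso ⟨by
        refine Over.OverMorphism.ext ?_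
        show e₀.inv ≫ (yon S).map π = A.π.left ≫ (yon S).map (𝟙 A.base)
        rw [hπ', e₀.inv_hom_id_assoc, (yon S).map_id]
        exact (Category.comp_id _).symm⟩
      wφ := by
        show e.inv ≫ (L S).map φ = A.φ
        rw [hφ, e.inv_hom_id_assoc] }
  refine ⟨Q, ⟨hom₁, hom₂, AlgSt.SpQuotObj.hom_ext (Category.comp_id _) e.hom_inv_id,
    AlgSt.SpQuotObj.hom_ext (Category.comp_id _) e.inv_hom_id⟩, ?_⟩
  exact IsHomLift.of_fac' _ _ _ rfl rfl (by simp [hom₁, AlgSt.SpQuotObj.forget]; rfl)

end Groth.Agent.AlgStLib.ToSp
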