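import Groth.Agent.AlgStLib.MonoQC
import Groth.Agent.AlgStLib.Stack
import Groth.Agent.AlgStLib.SpaceCalc
import Groth.Agent.FibBase.Slices

/-!
# Charts of base changes of categories over a slice
-/

set_option autoImplicit false
set_option linter.style.haveILetI false
set_option backward.isDefEq.respectTransparency false
set_option backward.isDefEq.respectTransparency.types false

universe u

open CategoryTheory CategoryTheory.Functor CategoryTheory.Limits AlgebraicGeometry Opposite AlgSp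

noncomputable section

namespace Groth.Agent.AlgStLib

open Groth.Agent.FibBase Groth.Agent.AlgSpLib

variable {S : Scheme.{u}} {𝒜 𝒲 : AlgSt.Cat S}

/-- Two vertical maps of a slice with the same ends are equal. -/
theorem over_hom_eq_of_isHomLift {V : Over S} {a b : (FibCat.overCat V : AlgSt.Cat S).obj} {R : Over S}
    (φ ψ : a ⟶ b) (hφ : (FibCat.overCat V : AlgSt.Cat S).p.IsHomLift (𝟙 R) φ)
    (hψ : (FibCat.overCat V : AlgSt.Cat S).p.IsHomLift (𝟙 R) ψ) : φ = ψ :=
  Over.OverMorphism.ext ((map_eq_of_isHomLift_id hφ).trans (map_eq_of_isHomLift_id hψ).symm)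

/-- Functors into a fibre product over a slice are determined by their components. -/
def fpSliceIso {V : Over S} {ℬ 𝒞 : AlgSt.Cat S} {F : ℬ ⥤ᵇ FibCat.overCat V} {G : 𝒞 ⥤ᵇ FibCat.overCat V}
    (Φ Ψ : 𝒜 ⥤ᵇ FibCat.fp F G) (i : BasedFunctor.comp Φ (FibCat.fpFst F G) ≅ BasedFunctor.comp Ψ (FibCat.fpFst F G))
    (j : BasedFunctor.comp Φ (FibCat.fpSnd F G) ≅ BasedFunctor.comp Ψ (FibCat.fpSnd F G)) : Φ ≅ Ψ :=
  BasedNatIso.mkNatIso
    (NatIso.ofComponents (fun w => fpIsoMk (isoApp i w) (isoApp j w) (by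
        apply Over.OverMorphism.ext
        have h₁ := isoApp_lift i (a := w) rfl
        have h₂ := isoApp_lift j (a := w) rfl
        have e₁ := map_eq_of_isHomLift_id h₁
        have e₂ := map_eq_of_isHomLift_id h₂
        have f₁ := map_eq_of_isHomLift_id (fp_iso_lift (Φ.obj w))
        have f₂ := map_eq_of_isHomLift_id (fp_iso_lift (Ψ.obj w))
        show (F.map (isoApp i w).hom).left ≫ (Ψ.obj w).obj.iso.hom.left =
          (Φ.obj w).obj.iso.hom.left ≫ (G.map (isoApp j w).hom).left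
        have f₁' : (Φ.obj w).obj.iso.hom.left = _ := f₁
        have f₂' : (Ψ.obj w).obj.iso.hom.left = _ := f₂
        rw [left_map F, left_map G, f₁', f₂']
        erw [e₁, e₂]
        simp))
      (fun {w w'} φ => ObjectProperty.hom_ext _ (CategoricalPullback.hom_ext (natural i φ) (natural j φ))))
    (fun w => fp_isHomLift (F := F) (G := G) (𝟙 _) _ (h := isoApp_lift i rfl))

namespace SliceBC

variable {Q V : Over S} {p : FibCat.overCat Q ⥤ᵇ 𝒲} {π : 𝒲 ⥤ᵇ FibCat.overCat V} {q : Q ⟶ V}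
  (iq : BasedFunctor.comp p π ≅ AlgSt.overMap q)
  {T W : Over S} {h : T ⟶ V} {prT : W ⟶ T} {prQ : W ⟶ Q} (sq : IsPullback prT prQ h q)

/-- The chart of the base change. -/
def ch : FibCat.overCat W ⥤ᵇ FibCat.fp (AlgSt.overMap h) π :=
  FibCat.fpLift (AlgSt.overMap prT) (BasedFunctor.comp (AlgSt.overMap prQ) p)
    (overMapCompIso prT h ≪≫ eqToIso (congrArg AlgSt.overMap sq.w) ≪≫ (overMapCompIso prQ q).symm ≪≫
      (whiskerLeftIso (AlgSt.overMap prQ) iq).symm)

def chFst : BasedFunctor.comp (ch iq sq) (FibCat.fpFst (AlgSt.overMap h) π) ≅ AlgSt.overMap prT :=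
  Iso.refl _

def chSnd : BasedFunctor.comp (ch iq sq) (FibCat.fpSnd (AlgSt.overMap h) π) ≅
    BasedFunctor.comp (AlgSt.overMap prQ) p :=
  Iso.refl _

theorem repByAlgSpWith_ch {P : MorphismProperty (Sp S)} (hp : AlgSt.RepByAlgSpWith P p) :
    AlgSt.RepByAlgSpWith P (ch iq sq) := by
  let H : FibCat.overCat T ⥤ᵇ FibCat.overCat V := AlgSt.overMap h
  let σ := FibCat.fpSnd H π
  let Y : FibCat.overCat Q ⥤ᵇ FibCat.overCat V := mapB q
  have : (BasedFunctor.id (FibCat.overCat V : AlgSt.Cat S)).toFunctor.Full := inferInstanceAs (𝟭 _).Full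
  have : (BasedFunctor.id (FibCat.overCat V : AlgSt.Cat S)).toFunctor.Faithful := inferInstanceAs (𝟭 _).Faithful
  let m := fpMap (F := H) (G := BasedFunctor.comp p π) (F' := mapB h) (G' := Y) (a := BasedFunctor.id _)
    (b := BasedFunctor.id _) (c := BasedFunctor.id _) (Iso.refl _) iq.symm
  have hm : FibCat.IsEquivOver m := fpMap_isEquivOver _ _ isEquivOver_id isEquivOver_id
  obtain ⟨j, hj, -, ⟨jj⟩⟩ := isEquivOver_inv (pasteHor_isEquivOver H p π)
  let E := BasedFunctor.comp (sliceCone prT prQ h q sq.w) (BasedFunctor.comp m j)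
  have hE : FibCat.IsEquivOver E := isEquivOver_comp (sliceCone_isEquivOver sq) (isEquivOver_comp hm hj)
  let c' := BasedFunctor.comp E (FibCat.fpFst σ p)
  let i : c' ≅ ch iq sq := fpSliceIso _ _
    (whiskerRightIso (whiskerLeftIso (BasedFunctor.comp (sliceCone prT prQ h q sq.w) m) jj)
      (FibCat.fpFst H (BasedFunctor.comp p π)))
    (whiskerLeftIso E (FibCat.fpIso σ p) ≪≫
      whiskerRightIso (whiskerLeftIso (BasedFunctor.comp (sliceCone prT prQ h q sq.w) m) jj)
        (BasedFunctor.comp (FibCat.fpSnd H (BasedFunctor.comp p π)) p))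
  exact repByAlgSpWith_of_iso i (repByAlgSpWith_precomp hE (repByAlgSpWith_fpFst σ hp))

end SliceBC

end Groth.Agent.AlgStLib
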