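import Groth.Agent.AlgStLib.OpenSubChart
import Groth.Agent.AlgStLib.LocQCalc
import Groth.Agent.AlgStLib.LocEss
import Groth.Agent.AlgStLib.SmoothLocally
import Groth.Agent.AlgSpLib.SmoothLocalInst
import Groth.Agent.SrcDescent.LocalAtSource

/-!
# The largest open substack on which a functor is smooth
-/

set_option backward.isDefEq.respectTransparency false
set_option backward.isDefEq.respectTransparency.types false

universe u

open CategoryTheory CategoryTheory.Functor CategoryTheory.Limits AlgebraicGeometry Opposite AlgSp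

namespace Groth.Agent.AlgStLib

open Groth.Agent.FibBase Groth.Agent.AlgSpLib

variable {S : Scheme.{u}} {𝒳 𝒳' 𝒴 𝒵 : AlgSt.Cat S}

local notation "K₀" => Scheme.fppfPrecoverage

theorem smooth_map_of_left {U V : Over S} (k : U ⟶ V) (h : Smooth k.left) : LocP @Smooth ((yon S).map k) :=
  locP_of_repWith ((repWith_yon_map_iff _ _).2 h)

theorem ptsIn_mono {T T' : Set (AlgSt.Points 𝒳)} (h : T ⊆ T') {x : 𝒳.obj} (hx : PtsIn T x) : PtsIn T' x :=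
  fun p φ => h (hx p φ)

/-- The open subscheme of a chart over a set of points. -/
def chartPreimage (h𝒳 : AlgSt.IsAlgStack K₀ 𝒳) {U : Over S} (x : FibCat.overCat U ⥤ᵇ 𝒳)
    {T : Set (AlgSt.Points 𝒳)} (hT : IsOpen T) : U.left.Opens :=
  ⟨AlgSt.Points.ofChart x ⁻¹' T, hT.preimage (continuous_ofChart h𝒳.isStack.1 h𝒳.atlas x)⟩

/-- Smoothness on an open substack is read on charts. -/
theorem smooth_on_chart (h𝒳 : AlgSt.IsAlgStack K₀ 𝒳) (h𝒴 : AlgSt.IsAlgStack K₀ 𝒴) {f : 𝒳 ⥤ᵇ 𝒴}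
    {T : Set (AlgSt.Points 𝒳)} (hT : IsOpen T)
    (hs : AlgSt.LocQ (LocP @Smooth) (BasedFunctor.comp (AlgSt.subIncl 𝒳 (PtsIn T)) f))
    {U V : Over S} {y : FibCat.overCat V ⥤ᵇ 𝒴} (hy : AlgSt.RepByAlgSpWith (LocP @Smooth) y)
    {c : FibCat.overCat U ⥤ᵇ FibCat.fp f y} (hc : AlgSt.RepByAlgSpWith (LocP @Smooth) c) {h : U ⟶ V}
    (i : BasedFunctor.comp c (FibCat.fpSnd f y) ≅ AlgSt.overMap h) :
    Smooth ((chartPreimage h𝒳 (BasedFunctor.comp c (FibCat.fpFst f y)) hT).ι ≫ h.left) := by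
  let x := BasedFunctor.comp c (FibCat.fpFst f y)
  let O := chartPreimage h𝒳 x hT
  let U' : Over S := Over.mk (O.ι ≫ U.hom)
  let j : U' ⟶ U := Over.homMk O.ι rfl
  obtain ⟨-, hA, hi⟩ := isOpenSubstack_ptsIn h𝒳 hT
  have hmono := isMono_of_isImm (repByAlgSpWith_mono
    (fun _ _ _ h => repWith_mono (fun _ _ g (_ : IsOpenImmersion g) => inferInstanceAs (IsImmersion g)) _ h) hi)
  have hmem : ∀ a, PtsIn T ((BasedFunctor.comp (AlgSt.overMap j) x).obj a) := fun a =>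
    (ptsIn_chart_iff h𝒳.isStack.1 x _).2 fun w => (a.hom.left w).2
  let x' : FibCat.overCat U' ⥤ᵇ AlgSt.fullSub 𝒳 (PtsIn T) :=
    { toFunctor := ObjectProperty.lift _ (BasedFunctor.comp (AlgSt.overMap j) x).toFunctor hmem
      w := (BasedFunctor.comp (AlgSt.overMap j) x).w }
  let c'' : FibCat.overCat U' ⥤ᵇ FibCat.fp (AlgSt.subIncl 𝒳 (PtsIn T)) (FibCat.fpFst f y) :=
    FibCat.fpLift x' (BasedFunctor.comp (AlgSt.overMap j) c) (Iso.refl (BasedFunctor.comp (AlgSt.overMap j) x))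
  have hjc : AlgSt.RepByAlgSpWith (LocP @Smooth) (BasedFunctor.comp (AlgSt.overMap j) c) :=
    repByAlgSpWith_locP_comp (isFibGrpd_overCat _) (isFibGrpd_overCat _)
      (repByAlgSpWith_overMap stableBC_locP (smooth_map_of_left j (inferInstanceAs (Smooth O.ι)))) hc
  have hc'' : AlgSt.RepByAlgSpWith (LocP @Smooth) c'' :=
    repByAlgSpWith_of_comp stableBC_locP (cancels_mono stableBC_locP)
      (repByAlgSpWith_fpSnd (f := AlgSt.subIncl 𝒳 (PtsIn T)) (FibCat.fpFst f y) hmono)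
      (f := c'') (repByAlgSpWith_of_iso (Iso.refl (BasedFunctor.comp (AlgSt.overMap j) c)) hjc)
  let c' := BasedFunctor.comp c'' (pasteVert (AlgSt.subIncl 𝒳 (PtsIn T)) f y)
  let i' : BasedFunctor.comp c' (FibCat.fpSnd (BasedFunctor.comp (AlgSt.subIncl 𝒳 (PtsIn T)) f) y) ≅
      AlgSt.overMap (j ≫ h) := whiskerLeftIso (AlgSt.overMap j) i ≪≫ overMapCompIso j h
  exact smooth_left_of_map _ ((locQS_of_locQ isSmoothLocalST_smooth hA.isStack.1 h𝒴.isStack.1 hs).scheme c' hy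
    (repByAlgSpWith_postcomp (pasteVert_isEquivOver _ _ _) hc'') i')

/-- Smoothness on an open substack from smoothness on one surjective chart. -/
theorem locQ_smooth_of_chart (h𝒳 : AlgSt.IsAlgStack K₀ 𝒳) (h𝒴 : AlgSt.IsAlgStack K₀ 𝒴) {f : 𝒳 ⥤ᵇ 𝒴}
    {T : Set (AlgSt.Points 𝒳)} (hT : IsOpen T) {U V : Over S} {y : FibCat.overCat V ⥤ᵇ 𝒴}
    (hy : AlgSt.RepByAlgSpWith (LocP @Smooth) y) (hy' : AlgSt.RepByAlgSpWith IsSurjectiveMor y)
    {c : FibCat.overCat U ⥤ᵇ FibCat.fp f y} (hc : AlgSt.RepByAlgSpWith (LocP @Smooth) c)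
    (hc' : AlgSt.RepByAlgSpWith IsSurjectiveMor c) {h : U ⟶ V}
    (i : BasedFunctor.comp c (FibCat.fpSnd f y) ≅ AlgSt.overMap h)
    (hsm : Smooth ((chartPreimage h𝒳 (BasedFunctor.comp c (FibCat.fpFst f y)) hT).ι ≫ h.left)) :
    AlgSt.LocQ (LocP @Smooth) (BasedFunctor.comp (AlgSt.subIncl 𝒳 (PtsIn T)) f) := by
  let x := BasedFunctor.comp c (FibCat.fpFst f y)
  let O := chartPreimage h𝒳 x hT
  let U' : Over S := Over.mk (O.ι ≫ U.hom)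
  let j : U' ⟶ U := Over.homMk O.ι rfl
  obtain ⟨-, hA, hi⟩ := isOpenSubstack_ptsIn h𝒳 hT
  have hmono := isMono_of_isImm (repByAlgSpWith_mono
    (fun _ _ _ h => repWith_mono (fun _ _ g (_ : IsOpenImmersion g) => inferInstanceAs (IsImmersion g)) _ h) hi)
  have hmem : ∀ a, PtsIn T ((BasedFunctor.comp (AlgSt.overMap j) x).obj a) := fun a =>
    (ptsIn_chart_iff h𝒳.isStack.1 x _).2 fun w => (a.hom.left w).2
  let x' : FibCat.overCat U' ⥤ᵇ AlgSt.fullSub 𝒳 (PtsIn T) :=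
    { toFunctor := ObjectProperty.lift _ (BasedFunctor.comp (AlgSt.overMap j) x).toFunctor hmem
      w := (BasedFunctor.comp (AlgSt.overMap j) x).w }
  let k : BasedFunctor.comp x' (AlgSt.subIncl 𝒳 (PtsIn T)) ≅ BasedFunctor.comp (AlgSt.overMap j) x := Iso.refl _
  have hg := fp_isFibGrpd (F := f) (G := y) h𝒳.isStack.1 (isFibGrpd_overCat V) h𝒴.isStack.1
  have hx : AlgSt.RepByAlgSpWith (LocP @Smooth) x :=
    repByAlgSpWith_locP_comp (isFibGrpd_overCat U) hg hc (repByAlgSpWith_fpFst f hy)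
  have hx' : AlgSt.RepByAlgSpWith (LocP @Smooth) x' :=
    repByAlgSpWith_of_comp stableBC_locP (cancels_mono stableBC_locP) hmono (repByAlgSpWith_of_iso k.symm
      (repByAlgSpWith_locP_comp (isFibGrpd_overCat _) (isFibGrpd_overCat _)
        (repByAlgSpWith_overMap stableBC_locP (smooth_map_of_left j (inferInstanceAs (Smooth O.ι)))) hx))
  have hxs : AlgSt.RepByAlgSpWith IsSurjectiveMor x :=
    repByAlgSpWith_isSurjectiveMor_comp (isFibGrpd_overCat U) hg hc' (repByAlgSpWith_fpFst f hy')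
  have hxs' : AlgSt.RepByAlgSpWith IsSurjectiveMor x' :=
    repByAlgSpWith_surjective_of_isSurjective (isFibGrpd_overCat _) hA.isStack.1
      (repByAlgSp1_of_repByAlgSpWith hx') fun w => by
    have hw : AlgSt.Points.map (AlgSt.subIncl 𝒳 (PtsIn T)) w ∈ T := range_subIncl_ptsIn.subset ⟨w, rfl⟩
    obtain ⟨u, hu⟩ := ofChart_surjective h𝒳.isStack.1 hxs (AlgSt.Points.map (AlgSt.subIncl 𝒳 (PtsIn T)) w)
    have huO : u ∈ O := show AlgSt.Points.ofChart x u ∈ T by rw [hu]; exact hw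
    refine ⟨ptAt U' ⟨u, huO⟩, pts_map_injective_of_isMono hA.isStack.1 h𝒳.isStack.1 hmono ?_⟩
    rw [← ofChart_eq_map, map_ofChart]
    exact (ofChart_overMap j x ⟨u, huO⟩).trans hu
  exact ⟨U', V, x', y, j ≫ h,
    whiskerLeftIso (AlgSt.overMap j) (whiskerLeftIso c (FibCat.fpIso f y) ≪≫ whiskerRightIso i y) ≪≫
      whiskerRightIso (overMapCompIso j h) y,
    hx', hxs', hy, smooth_map_of_left _ hsm⟩

/-- The points near which a functor is smooth. -/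
def smoothPts (f : 𝒳 ⥤ᵇ 𝒴) : Set (AlgSt.Points 𝒳) :=
  ⋃ Q ∈ {Q : 𝒳.obj → Prop | AlgSt.IsOpenSubstack 𝒳 Q K₀ ∧
      AlgSt.LocQ (LocP @Smooth) (BasedFunctor.comp (AlgSt.subIncl 𝒳 Q) f)},
    Set.range (AlgSt.Points.map (AlgSt.subIncl 𝒳 Q))

theorem isOpen_smoothPts (h𝒳 : AlgSt.IsAlgStack K₀ 𝒳) (f : 𝒳 ⥤ᵇ 𝒴) : IsOpen (smoothPts f) :=
  isOpen_biUnion fun _ hQ => (bijOn_openSubstack h𝒳).1.mapsTo hQ.1

theorem le_ptsIn_smoothPts (h𝒳 : AlgSt.IsAlgStack K₀ 𝒳) {f : 𝒳 ⥤ᵇ 𝒴} {Q : 𝒳.obj → Prop}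
    (hQ : AlgSt.IsOpenSubstack 𝒳 Q K₀) (hs : AlgSt.LocQ (LocP @Smooth) (BasedFunctor.comp (AlgSt.subIncl 𝒳 Q) f))
    (a : 𝒳.obj) (ha : Q a) : PtsIn (smoothPts f) a := by
  rw [eq_ptsIn_range h𝒳 hQ] at ha
  exact ptsIn_mono (T' := smoothPts f) (fun w hw => Set.mem_biUnion (x := Q) ⟨hQ, hs⟩ hw) ha

theorem smooth_of_locally {X Y : Scheme.{u}} (h : X ⟶ Y) (O : X.Opens)
    (H : ∀ u ∈ O, ∃ W : X.Opens, u ∈ W ∧ Smooth (W.ι ≫ h)) : Smooth (O.ι ≫ h) := by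
  choose W hW hs using H
  refine (IsZariskiLocalAtSource.iff_of_iSup_eq_top (P := @Smooth)
    (fun t : O => O.ι ⁻¹ᵁ W t.1 t.2) (eq_top_iff.2 fun t _ => TopologicalSpace.Opens.mem_iSup.2 ⟨t, hW t.1 t.2⟩)).2 fun t => ?_
  rw [← Category.assoc, ← morphismRestrict_ι, Category.assoc]
  have := hs t.1 t.2
  infer_instance

theorem locQ_smooth_smoothPts (h𝒳 : AlgSt.IsAlgStack K₀ 𝒳) (h𝒴 : AlgSt.IsAlgStack K₀ 𝒴) (f : 𝒳 ⥤ᵇ 𝒴) :
    AlgSt.LocQ (LocP @Smooth) (BasedFunctor.comp (AlgSt.subIncl 𝒳 (PtsIn (smoothPts f))) f) := by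
  obtain ⟨V, y, hy, hy'⟩ := id h𝒴.atlas
  obtain ⟨U, c, hc, hc'⟩ := exists_atlas_fp h𝒳 (isAlgStack_overCat V) h𝒴 f y
  obtain ⟨h, ⟨i⟩⟩ := exists_mapB (BasedFunctor.comp c (FibCat.fpSnd f y))
  refine locQ_smooth_of_chart h𝒳 h𝒴 (isOpen_smoothPts h𝒳 f) hy hy' hc hc' i.symm
    (smooth_of_locally _ _ fun u hu => ?_)
  obtain ⟨Q, ⟨hQ, hs⟩, hu⟩ := Set.mem_iUnion₂.1 hu
  refine ⟨chartPreimage h𝒳 (BasedFunctor.comp c (FibCat.fpFst f y)) ((bijOn_openSubstack h𝒳).1.mapsTo hQ), hu, ?_⟩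
  refine smooth_on_chart h𝒳 h𝒴 _ ?_ hy hc i.symm
  exact (eq_ptsIn_range h𝒳 hQ) ▸ hs

/-! ## Smooth precomposition -/

/-- A chart of a composite, over schemes. -/
theorem exists_overCat_chart_comp (h𝒳 : FibCat.IsFibGrpd 𝒳.p) (h𝒴 : FibCat.IsFibGrpd 𝒴.p) (h𝒵 : FibCat.IsFibGrpd 𝒵.p)
    {f : 𝒳 ⥤ᵇ 𝒴} {g : 𝒴 ⥤ᵇ 𝒵} {U V W : Over S} {z : FibCat.overCat W ⥤ᵇ 𝒵}
    (d : FibCat.overCat V ⥤ᵇ FibCat.fp g z)
    (c : FibCat.overCat U ⥤ᵇ FibCat.fp f (BasedFunctor.comp d (FibCat.fpFst g z))) {a : U ⟶ V} {b : V ⟶ W}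
    (ia : BasedFunctor.comp c (FibCat.fpSnd f _) ≅ AlgSt.overMap a)
    (ib : BasedFunctor.comp d (FibCat.fpSnd g z) ≅ AlgSt.overMap b) :
    ∃ c' : FibCat.overCat U ⥤ᵇ FibCat.fp (BasedFunctor.comp f g) z,
      Nonempty (BasedFunctor.comp c' (FibCat.fpSnd _ z) ≅ AlgSt.overMap (a ≫ b)) ∧
      Nonempty (BasedFunctor.comp c' (FibCat.fpFst (BasedFunctor.comp f g) z) ≅
        BasedFunctor.comp c (FibCat.fpFst f _)) ∧
      (AlgSt.RepByAlgSpWith (LocP @Smooth) c → AlgSt.RepByAlgSpWith (LocP @Smooth) d →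
        AlgSt.RepByAlgSpWith (LocP @Smooth) c') ∧
      (AlgSt.RepByAlgSpWith IsSurjectiveMor c → AlgSt.RepByAlgSpWith IsSurjectiveMor d →
        AlgSt.RepByAlgSpWith IsSurjectiveMor c') := by
  obtain ⟨i₁, hi₁, -, ⟨j₁⟩⟩ := isEquivOver_inv (pasteHor_isEquivOver f d (FibCat.fpFst g z))
  let q := FibCat.fpFst (FibCat.fpSnd f (FibCat.fpFst g z)) d
  have hgq := fp_isFibGrpd (F := FibCat.fpSnd f (FibCat.fpFst g z)) (G := d)
    (fp_isFibGrpd h𝒳 (fp_isFibGrpd h𝒴 (isFibGrpd_overCat W) h𝒵) h𝒴) (isFibGrpd_overCat V)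
    (fp_isFibGrpd h𝒴 (isFibGrpd_overCat W) h𝒵)
  let c₁ := BasedFunctor.comp c i₁
  refine ⟨BasedFunctor.comp (BasedFunctor.comp c₁ q) (pasteVert f g z), ⟨?_⟩, ⟨?_⟩,
    fun hc hd => repByAlgSpWith_postcomp (pasteVert_isEquivOver f g z)
      (repByAlgSpWith_locP_comp (isFibGrpd_overCat U) hgq (repByAlgSpWith_postcomp hi₁ hc)
        (repByAlgSpWith_fpFst _ hd)),
    fun hc hd => repByAlgSpWith_postcomp (pasteVert_isEquivOver f g z)
      (repByAlgSpWith_isSurjectiveMor_comp (isFibGrpd_overCat U) hgq (repByAlgSpWith_postcomp hi₁ hc)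
        (repByAlgSpWith_fpFst _ hd))⟩
  · exact whiskerRightIso (whiskerLeftIso c₁ (FibCat.fpIso (FibCat.fpSnd f (FibCat.fpFst g z)) d))
        (FibCat.fpSnd g z) ≪≫
      whiskerLeftIso (BasedFunctor.comp c₁ (FibCat.fpSnd (FibCat.fpSnd f (FibCat.fpFst g z)) d)) ib ≪≫
      whiskerRightIso (whiskerRightIso (whiskerLeftIso c j₁) (FibCat.fpSnd f _) ≪≫ ia) (AlgSt.overMap b) ≪≫
      overMapCompIso a b
  · exact whiskerRightIso (whiskerLeftIso c j₁) (FibCat.fpFst f _)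

theorem ptsIn_comap_iff (h𝒳' : FibCat.IsFibGrpd 𝒳'.p) (h𝒳 : FibCat.IsFibGrpd 𝒳.p) (g : 𝒳' ⥤ᵇ 𝒳)
    (T : Set (AlgSt.Points 𝒳)) (a : 𝒳'.obj) : PtsIn T (g.obj a) ↔ PtsIn (AlgSt.Points.map g ⁻¹' T) a := by
  obtain ⟨z, e, -⟩ := exists_overCat_obj h𝒳' a rfl
  have key : PtsIn T ((BasedFunctor.comp z g).obj (Over.mk (𝟙 _))) ↔
      PtsIn (AlgSt.Points.map g ⁻¹' T) (z.obj (Over.mk (𝟙 _))) := by
    rw [ptsIn_chart_iff h𝒳 (BasedFunctor.comp z g), ptsIn_chart_iff h𝒳' z]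
    simp only [Set.mem_preimage, map_ofChart]
  exact ⟨fun h => ptsIn_of_hom e.inv (key.1 (ptsIn_of_hom (g.map e.hom) h)),
    fun h => ptsIn_of_hom (g.map e.inv) (key.2 (ptsIn_of_hom e.hom h))⟩

theorem largest_smooth_comp (h𝒳' : AlgSt.IsAlgStack K₀ 𝒳') (h𝒳 : AlgSt.IsAlgStack K₀ 𝒳)
    (h𝒴 : AlgSt.IsAlgStack K₀ 𝒴) {g : 𝒳' ⥤ᵇ 𝒳} (hg : AlgSt.LocQ (LocP @Smooth) g) {f : 𝒳 ⥤ᵇ 𝒴}
    {T : Set (AlgSt.Points 𝒳)} (hT : IsOpen T)
    (hs : AlgSt.LocQ (LocP @Smooth) (BasedFunctor.comp (AlgSt.subIncl 𝒳 (PtsIn T)) f)) :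
    IsOpen (AlgSt.Points.map g ⁻¹' T) ∧
    AlgSt.LocQ (LocP @Smooth)
      (BasedFunctor.comp (AlgSt.subIncl 𝒳' (PtsIn (AlgSt.Points.map g ⁻¹' T))) (BasedFunctor.comp g f)) ∧
    ∀ T' : Set (AlgSt.Points 𝒳'), IsOpen T' →
      AlgSt.LocQ (LocP @Smooth) (BasedFunctor.comp (AlgSt.subIncl 𝒳' (PtsIn T')) (BasedFunctor.comp g f)) →
      ∃ T₁ : Set (AlgSt.Points 𝒳), IsOpen T₁ ∧ T' ⊆ AlgSt.Points.map g ⁻¹' T₁ ∧
        AlgSt.LocQ (LocP @Smooth) (BasedFunctor.comp (AlgSt.subIncl 𝒳 (PtsIn T₁)) f) := by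
  obtain ⟨W, z, hz, hz'⟩ := id h𝒴.atlas
  obtain ⟨V, d, hd, hd'⟩ := exists_atlas_fp h𝒳 (isAlgStack_overCat W) h𝒴 f z
  obtain ⟨b, ⟨ib⟩⟩ := exists_mapB (BasedFunctor.comp d (FibCat.fpSnd f z))
  let x := BasedFunctor.comp d (FibCat.fpFst f z)
  have hgd := fp_isFibGrpd (F := f) (G := z) h𝒳.isStack.1 (isFibGrpd_overCat W) h𝒴.isStack.1
  have hx : AlgSt.RepByAlgSpWith (LocP @Smooth) x :=
    repByAlgSpWith_locP_comp (isFibGrpd_overCat V) hgd hd (repByAlgSpWith_fpFst f hz)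
  obtain ⟨U, c, hc, hc'⟩ := exists_atlas_fp h𝒳' (isAlgStack_overCat V) h𝒳 g x
  obtain ⟨a, ⟨ia⟩⟩ := exists_mapB (BasedFunctor.comp c (FibCat.fpSnd g x))
  obtain ⟨c₂, ⟨i₂⟩, ⟨k₂⟩, hs₂, hs₂'⟩ :=
    exists_overCat_chart_comp h𝒳'.isStack.1 h𝒳.isStack.1 h𝒴.isStack.1 d c ia.symm ib.symm
  have : Smooth a.left :=
    smooth_left_of_map _ ((locQS_of_locQ isSmoothLocalST_smooth h𝒳'.isStack.1 h𝒳.isStack.1 hg).scheme c hx hc ia.symm)
  let x' := BasedFunctor.comp c (FibCat.fpFst g x)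
  have hsq : ∀ u : ↥U.left, AlgSt.Points.map g (AlgSt.Points.ofChart x' u) = AlgSt.Points.ofChart x (a.left u) :=
    fun u => by
    rw [map_ofChart, ← ofChart_overMap a x]
    exact pts_map_congr (whiskerLeftIso c (FibCat.fpIso g x) ≪≫ whiskerRightIso ia.symm x) (ptAt U u)
  have hk₂ : ∀ u : ↥U.left, AlgSt.Points.ofChart (BasedFunctor.comp c₂ (FibCat.fpFst (BasedFunctor.comp g f) z)) u =
      AlgSt.Points.ofChart x' u := fun u => pts_map_congr k₂ (ptAt U u)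
  have hgT : IsOpen (AlgSt.Points.map g ⁻¹' T) := hT.preimage (continuous_pts_map h𝒳.isStack.1 h𝒳.atlas g)
  refine ⟨hgT, ?_, fun T' hT' hs' => ?_⟩
  · let O := chartPreimage h𝒳 x hT
    let O' := chartPreimage h𝒳' (BasedFunctor.comp c₂ (FibCat.fpFst (BasedFunctor.comp g f) z)) hgT
    have e : O' ≤ a.left ⁻¹ᵁ O := fun u hu => by
      show AlgSt.Points.ofChart x (a.left u) ∈ T
      rw [← hsq, ← hk₂]
      exact hu
    have := smooth_on_chart h𝒳 h𝒴 hT hs hz hd ib.symm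
    refine locQ_smooth_of_chart h𝒳' h𝒴 hgT hz hz' (hs₂ hc hd) (hs₂' hc' hd') i₂ ?_
    show Smooth (O'.ι ≫ (a ≫ b).left)
    rw [Over.comp_left, ← Category.assoc, ← Scheme.Hom.resLE_comp_ι _ e, Category.assoc]
    infer_instance
  · obtain ⟨U₀, V₀, x₀, y₀, h₀, α, -, hx₀', hy₀, hP₀⟩ := id hg
    have := smooth_left_of_map _ hP₀
    have hopen : IsOpen (AlgSt.Points.map g '' T') :=
      isOpenMor_of_locQ h𝒳'.isStack.1 h𝒳.isStack.1 h𝒳'.atlas α hx₀' hy₀ h₀.left.isOpenMap _ hT'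
    refine ⟨_, hopen, Set.subset_preimage_image _ _, ?_⟩
    let O₁ := chartPreimage h𝒳 x hopen
    let O' := chartPreimage h𝒳' (BasedFunctor.comp c₂ (FibCat.fpFst (BasedFunctor.comp g f) z)) hT'
    have e : O' ≤ a.left ⁻¹ᵁ O₁ := fun u hu => by
      refine ⟨_, hu, ?_⟩
      rw [hk₂, hsq]
    let k := a.left.resLE O₁ O' e
    have : Surjective k := ⟨fun v => by
      obtain ⟨w, hwT, hw⟩ : (v.1 : V.left) ∈ O₁ := v.2
      obtain ⟨o, ho₁, ho₂⟩ := exists_pts_fp (isFibGrpd_overCat V) h𝒳.isStack.1 h𝒳'.isStack.1 x g w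
        (ptAt V v.1) (by rw [← ofChart_eq_map]; exact hw)
      obtain ⟨u, hu⟩ := ofChart_surjective (fp_isFibGrpd h𝒳'.isStack.1 (isFibGrpd_overCat V) h𝒳.isStack.1) hc' o
      have hu₁ : AlgSt.Points.ofChart x' u = w := by rw [← map_ofChart, hu, ho₁]
      have hu₂ : a.left u = v.1 := by
        have h2 : AlgSt.Points.ofChart (BasedFunctor.comp c (FibCat.fpSnd g x)) u = ptAt V v.1 := by
          rw [← map_ofChart, hu, ho₂]
        have h3 : ptAt V (a.left u) = ptAt V v.1 :=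
          ((ofChart_overMap a (BasedFunctor.id _) u).symm.trans (pts_map_congr ia (ptAt U u))).trans h2
        simpa only [toSch_ptAt] using congrArg (toSch V) h3
      have huO : u ∈ O' := by
        show AlgSt.Points.ofChart _ u ∈ T'
        rw [hk₂, hu₁]
        exact hwT
      refine ⟨⟨u, huO⟩, O₁.ι.isOpenEmbedding.injective ?_⟩
      rw [← Scheme.Hom.comp_apply, Scheme.Hom.resLE_comp_ι]
      exact hu₂⟩
    have := smooth_on_chart h𝒳' h𝒴 hT' hs' hz (hs₂ hc hd) i₂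
    refine locQ_smooth_of_chart h𝒳 h𝒴 hopen hz hz' hd hd' ib.symm
      (Groth.Agent.SrcDescent.smooth_of_smooth_comp k (O₁.ι ≫ b.left) ?_)
    rw [← Category.assoc, Scheme.Hom.resLE_comp_ι, Category.assoc]
    exact this

end Groth.Agent.AlgStLib
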