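import Groth.Agent.AlgStLib.SmoothSubstack
import Groth.Agent.FlatPtDesc.Basic
import Groth.Agent.SrcDescent.SchemeFppf
import Mathlib.AlgebraicGeometry.PullbackCarrier

/-!
# The largest smooth open substack and flat base change
-/

set_option backward.isDefEq.respectTransparency false
set_option backward.isDefEq.respectTransparency.types false

universe u

open CategoryTheory CategoryTheory.Functor CategoryTheory.Limits AlgebraicGeometry Opposite AlgSp

namespace Groth.Agent.AlgStLib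

open Groth.Agent.FibBase Groth.Agent.AlgSpLib

variable {S : Scheme.{u}} {𝒳 𝒴 𝒴' : AlgSt.Cat S}

local notation "K₀" => Scheme.fppfPrecoverage

/-- A pullback square over the base as a 2-fibre product of slices. -/
theorem exists_overCone {F G H E : Over S} {a : F ⟶ H} {b : G ⟶ H} {fst : E ⟶ F} {snd : E ⟶ G}
    (sq : IsPullback fst snd a b) :
    ∃ k : FibCat.overCat E ⥤ᵇ FibCat.fp (AlgSt.overMap a) (AlgSt.overMap b), FibCat.IsEquivOver k ∧
      Nonempty (BasedFunctor.comp k (FibCat.fpFst _ _) ≅ AlgSt.overMap fst) ∧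
      Nonempty (BasedFunctor.comp k (FibCat.fpSnd _ _) ≅ AlgSt.overMap snd) := by
  obtain ⟨k, hk, ⟨j₁⟩, ⟨j₂⟩⟩ := exists_spCone (sq.map (yon S))
  have := full_of_isEquivOver (isEquivOver_toOverCat H)
  have := faithful_of_isEquivOver (isEquivOver_toOverCat H)
  let m := fpMap (F := AlgSt.overMap a) (G := AlgSt.overMap b) (F' := AlgSt.ofSpMap ((yon S).map a))
    (G' := AlgSt.ofSpMap ((yon S).map b)) (a := AlgSt.toOverCat F) (b := AlgSt.toOverCat G)
    (c := AlgSt.toOverCat H) (toOverCatMapIso a) (toOverCatMapIso b).symm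
  refine ⟨BasedFunctor.comp (AlgSt.ofOverCat E) (BasedFunctor.comp k m), isEquivOver_comp (isEquivOver_ofOverCat E)
    (isEquivOver_comp hk (fpMap_isEquivOver _ _ (isEquivOver_toOverCat F) (isEquivOver_toOverCat G))), ⟨?_⟩, ⟨?_⟩⟩
  · exact whiskerLeftIso (AlgSt.ofOverCat E) (whiskerRightIso j₁ (AlgSt.toOverCat F) ≪≫ (toOverCatMapIso fst).symm) ≪≫
      whiskerRightIso (ofOverCatIso E) (AlgSt.overMap fst)
  · exact whiskerLeftIso (AlgSt.ofOverCat E) (whiskerRightIso j₂ (AlgSt.toOverCat G) ≪≫ (toOverCatMapIso snd).symm) ≪≫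
      whiskerRightIso (ofOverCatIso E) (AlgSt.overMap snd)

/-- Base change of a chart, over schemes. -/
theorem exists_overCat_chart_baseChange {f : 𝒳 ⥤ᵇ 𝒴} {g : 𝒴' ⥤ᵇ 𝒴} {U V V' D : Over S}
    {z : FibCat.overCat V ⥤ᵇ 𝒴} {z' : FibCat.overCat V' ⥤ᵇ 𝒴'} {a : U ⟶ V} {k : V' ⟶ V} {p : D ⟶ U} {q : D ⟶ V'}
    (sq : IsPullback p q a k) (β : BasedFunctor.comp z' g ≅ BasedFunctor.comp (AlgSt.overMap k) z)
    (c : FibCat.overCat U ⥤ᵇ FibCat.fp f z) (ia : BasedFunctor.comp c (FibCat.fpSnd f z) ≅ AlgSt.overMap a) :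
    ∃ c' : FibCat.overCat D ⥤ᵇ FibCat.fp (FibCat.fpFst g f) z',
      Nonempty (BasedFunctor.comp c' (FibCat.fpSnd (FibCat.fpFst g f) z') ≅ AlgSt.overMap q) ∧
      Nonempty (BasedFunctor.comp (BasedFunctor.comp c' (FibCat.fpFst (FibCat.fpFst g f) z')) (FibCat.fpSnd g f) ≅
        BasedFunctor.comp (AlgSt.overMap p) (BasedFunctor.comp c (FibCat.fpFst f z))) ∧
      (AlgSt.RepByAlgSpWith (LocP @Smooth) c → AlgSt.RepByAlgSpWith (LocP @Smooth) c') ∧
      (AlgSt.RepByAlgSpWith IsSurjectiveMor c → AlgSt.RepByAlgSpWith IsSurjectiveMor c') := by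
  obtain ⟨E, hE, ⟨jf⟩, ⟨je⟩⟩ := exists_overCone sq
  have : (BasedFunctor.id (FibCat.overCat V : AlgSt.Cat S)).toFunctor.Full := inferInstanceAs (𝟭 _).Full
  have : (BasedFunctor.id (FibCat.overCat V : AlgSt.Cat S)).toFunctor.Faithful := inferInstanceAs (𝟭 _).Faithful
  have : (BasedFunctor.id 𝒴).toFunctor.Full := inferInstanceAs (𝟭 _).Full
  have : (BasedFunctor.id 𝒴).toFunctor.Faithful := inferInstanceAs (𝟭 _).Faithful
  let m := fpMap (F := BasedFunctor.comp c (FibCat.fpSnd f z)) (G := AlgSt.overMap k) (F' := AlgSt.overMap a)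
    (G' := AlgSt.overMap k) (a := BasedFunctor.id _) (b := BasedFunctor.id _) (c := BasedFunctor.id _) ia
    (Iso.refl _)
  let E₁ := BasedFunctor.comp E m
  have hE₁ : FibCat.IsEquivOver E₁ := isEquivOver_comp hE (fpMap_isEquivOver _ _ isEquivOver_id isEquivOver_id)
  obtain ⟨i₁, hi₁, -, ⟨j₁⟩⟩ := isEquivOver_inv (pasteVert_isEquivOver c (FibCat.fpSnd f z) (AlgSt.overMap k))
  let G := FibCat.fpSnd c (FibCat.fpFst (FibCat.fpSnd f z) (AlgSt.overMap k))
  let m₂ := fpMap (F := f) (G := BasedFunctor.comp z' g) (F' := f)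
    (G' := BasedFunctor.comp (AlgSt.overMap k) z) (a := BasedFunctor.id _) (b := BasedFunctor.id _)
    (c := BasedFunctor.id _) (Iso.refl _) β.symm
  obtain ⟨i₂, hi₂, -, ⟨j₂⟩⟩ := isEquivOver_inv (pasteVert_isEquivOver z' g f)
  let head := BasedFunctor.comp (BasedFunctor.comp E₁ i₁) G
  let tail₀ := BasedFunctor.comp (pasteHor f (AlgSt.overMap k) z)
    (BasedFunctor.comp m₂ (fpSwap f (BasedFunctor.comp z' g)))
  let tail := BasedFunctor.comp tail₀ (BasedFunctor.comp i₂ (fpSwap z' (FibCat.fpFst g f)))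
  have htail : FibCat.IsEquivOver tail := isEquivOver_comp (isEquivOver_comp (pasteHor_isEquivOver _ _ _)
    (isEquivOver_comp (fpMap_isEquivOver _ _ isEquivOver_id isEquivOver_id) (fpSwap_isEquivOver _ _)))
    (isEquivOver_comp hi₂ (fpSwap_isEquivOver _ _))
  refine ⟨BasedFunctor.comp head tail, ⟨?_⟩, ⟨?_⟩,
    fun hc => repByAlgSpWith_postcomp htail (repByAlgSpWith_precomp (isEquivOver_comp hE₁ hi₁)
      (repByAlgSpWith_fpSnd _ hc)),
    fun hc => repByAlgSpWith_postcomp htail (repByAlgSpWith_precomp (isEquivOver_comp hE₁ hi₁)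
      (repByAlgSpWith_fpSnd _ hc))⟩
  · exact whiskerRightIso (whiskerLeftIso (BasedFunctor.comp head tail₀) j₂)
        (FibCat.fpFst (BasedFunctor.comp z' g) f) ≪≫
      whiskerRightIso (whiskerLeftIso E₁ j₁)
        (FibCat.fpSnd (BasedFunctor.comp c (FibCat.fpSnd f z)) (AlgSt.overMap k)) ≪≫ je
  · exact whiskerRightIso (whiskerLeftIso (BasedFunctor.comp head tail₀) j₂)
        (FibCat.fpSnd (BasedFunctor.comp z' g) f) ≪≫
      whiskerRightIso (whiskerLeftIso (BasedFunctor.comp E₁ i₁)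
          (FibCat.fpIso c (FibCat.fpFst (FibCat.fpSnd f z) (AlgSt.overMap k))).symm) (FibCat.fpFst f z) ≪≫
      whiskerRightIso (whiskerRightIso (whiskerLeftIso E₁ j₁)
          (FibCat.fpFst (BasedFunctor.comp c (FibCat.fpSnd f z)) (AlgSt.overMap k)) ≪≫ jf)
        (BasedFunctor.comp c (FibCat.fpFst f z))

/-- An open piece of a chart on which the functor is smooth gives an open substack on which it is smooth. -/
theorem locQ_smooth_image (h𝒳 : AlgSt.IsAlgStack K₀ 𝒳) (h𝒴 : AlgSt.IsAlgStack K₀ 𝒴) {f : 𝒳 ⥤ᵇ 𝒴}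
    {U V : Over S} {y : FibCat.overCat V ⥤ᵇ 𝒴}
    (hy : AlgSt.RepByAlgSpWith (LocP @Smooth) y) {c : FibCat.overCat U ⥤ᵇ FibCat.fp f y}
    (hc : AlgSt.RepByAlgSpWith (LocP @Smooth) c) {h : U ⟶ V}
    (i : BasedFunctor.comp c (FibCat.fpSnd f y) ≅ AlgSt.overMap h) (W : U.left.Opens)
    (hsm : Smooth (W.ι ≫ h.left)) :
    IsOpen (AlgSt.Points.ofChart (BasedFunctor.comp c (FibCat.fpFst f y)) '' W) ∧
      AlgSt.LocQ (LocP @Smooth) (BasedFunctor.comp (AlgSt.subIncl 𝒳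
        (PtsIn (AlgSt.Points.ofChart (BasedFunctor.comp c (FibCat.fpFst f y)) '' W))) f) := by
  let x := BasedFunctor.comp c (FibCat.fpFst f y)
  let U' : Over S := Over.mk (W.ι ≫ U.hom)
  let j : U' ⟶ U := Over.homMk W.ι rfl
  let T := AlgSt.Points.ofChart x '' W
  have hg := fp_isFibGrpd (F := f) (G := y) h𝒳.isStack.1 (isFibGrpd_overCat V) h𝒴.isStack.1
  have hx : AlgSt.RepByAlgSpWith (LocP @Smooth) x :=
    repByAlgSpWith_locP_comp (isFibGrpd_overCat U) hg hc (repByAlgSpWith_fpFst f hy)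
  have hT : IsOpen T := isOpenMap_ofChart h𝒳.isStack.1 (repByAlgSpWith_flat_of_smooth hx)
    (repByAlgSpWith_lfp_of_smooth hx) _ W.2
  refine ⟨hT, ?_⟩
  obtain ⟨-, hA, hi⟩ := isOpenSubstack_ptsIn h𝒳 hT
  have hmono := isMono_of_isImm (repByAlgSpWith_mono
    (fun _ _ _ h => repWith_mono (fun _ _ g (_ : IsOpenImmersion g) => inferInstanceAs (IsImmersion g)) _ h) hi)
  have hmem : ∀ a, PtsIn T ((BasedFunctor.comp (AlgSt.overMap j) x).obj a) := fun a =>
    (ptsIn_chart_iff h𝒳.isStack.1 x _).2 fun w => ⟨_, (a.hom.left w).2, rfl⟩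
  let x' : FibCat.overCat U' ⥤ᵇ AlgSt.fullSub 𝒳 (PtsIn T) :=
    { toFunctor := ObjectProperty.lift _ (BasedFunctor.comp (AlgSt.overMap j) x).toFunctor hmem
      w := (BasedFunctor.comp (AlgSt.overMap j) x).w }
  let k : BasedFunctor.comp x' (AlgSt.subIncl 𝒳 (PtsIn T)) ≅ BasedFunctor.comp (AlgSt.overMap j) x := Iso.refl _
  have hx' : AlgSt.RepByAlgSpWith (LocP @Smooth) x' :=
    repByAlgSpWith_of_comp stableBC_locP (cancels_mono stableBC_locP) hmono (repByAlgSpWith_of_iso k.symm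
      (repByAlgSpWith_locP_comp (isFibGrpd_overCat _) (isFibGrpd_overCat _)
        (repByAlgSpWith_overMap stableBC_locP (smooth_map_of_left j (inferInstanceAs (Smooth W.ι)))) hx))
  have hxs' : AlgSt.RepByAlgSpWith IsSurjectiveMor x' :=
    repByAlgSpWith_surjective_of_isSurjective (isFibGrpd_overCat _) hA.isStack.1
      (repByAlgSp1_of_repByAlgSpWith hx') fun w => by
    obtain ⟨u, huW, hu⟩ : AlgSt.Points.map (AlgSt.subIncl 𝒳 (PtsIn T)) w ∈ T := range_subIncl_ptsIn.subset ⟨w, rfl⟩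
    refine ⟨ptAt U' ⟨u, huW⟩, pts_map_injective_of_isMono hA.isStack.1 h𝒳.isStack.1 hmono ?_⟩
    rw [← ofChart_eq_map, map_ofChart]
    exact (ofChart_overMap j x ⟨u, huW⟩).trans hu
  exact ⟨U', V, x', y, j ≫ h,
    whiskerLeftIso (AlgSt.overMap j) (whiskerLeftIso c (FibCat.fpIso f y) ≪≫ whiskerRightIso i y) ≪≫
      whiskerRightIso (overMapCompIso j h) y,
    hx', hxs', hy, smooth_map_of_left _ hsm⟩

theorem smooth_pullback_open {U V V' : Scheme.{u}} (a : U ⟶ V) (k : V' ⟶ V) (O : U.Opens) [Smooth (O.ι ≫ a)]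
    (O' : (pullback a k).Opens) (e : O' ≤ pullback.fst a k ⁻¹ᵁ O) : Smooth (O'.ι ≫ pullback.snd a k) := by
  let m : pullback (O.ι ≫ a) k ⟶ pullback a k :=
    pullback.map _ _ _ _ O.ι (𝟙 _) (𝟙 _) (by simp) (by simp)
  let l : O'.toScheme ⟶ pullback (O.ι ≫ a) k :=
    pullback.lift ((pullback.fst a k).resLE O O' e) (O'.ι ≫ pullback.snd a k)
      (by rw [Scheme.Hom.resLE_comp_ι_assoc, Category.assoc, pullback.condition])
  have hl : l ≫ m = O'.ι := by
    apply pullback.hom_ext <;> simp [l, m]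
  have : IsOpenImmersion (l ≫ m) := by rw [hl]; infer_instance
  have := IsOpenImmersion.of_comp l m
  have : O'.ι ≫ pullback.snd a k = l ≫ pullback.snd (O.ι ≫ a) k := (pullback.lift_snd _ _ _).symm
  rw [this]
  infer_instance

theorem exists_smooth_nhd_of_pullback {U V V' : Scheme.{u}} (a : U ⟶ V) (k : V' ⟶ V) [Flat k]
    (h : LocallyOfFinitePresentation k ∨ LocallyOfFinitePresentation a) (O' : (pullback a k).Opens)
    [Smooth (O'.ι ≫ pullback.snd a k)] (u : ↥(pullback a k)) (hu : u ∈ O') :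
    ∃ W : U.Opens, pullback.fst a k u ∈ W ∧ Smooth (W.ι ≫ a) := by
  rcases h with h | h
  · let O₁ : U.Opens := ⟨pullback.fst a k '' O', (pullback.fst a k).isOpenMap _ O'.2⟩
    have e : O' ≤ pullback.fst a k ⁻¹ᵁ O₁ := fun w hw => ⟨w, hw, rfl⟩
    let r := (pullback.fst a k).resLE O₁ O' e
    have : Surjective r := ⟨fun v => by
      obtain ⟨w, hw, hwv⟩ := v.2
      refine ⟨⟨w, hw⟩, O₁.ι.isOpenEmbedding.injective ?_⟩
      rw [← Scheme.Hom.comp_apply, Scheme.Hom.resLE_comp_ι]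
      exact hwv⟩
    have : Flat r := IsZariskiLocalAtSource.resLE (P := @Flat) e inferInstance
    have : LocallyOfFinitePresentation r :=
      IsZariskiLocalAtSource.resLE (P := @LocallyOfFinitePresentation) e inferInstance
    have : LocallyOfFinitePresentation (r ≫ O₁.ι ≫ a) := by
      rw [Scheme.Hom.resLE_comp_ι_assoc, pullback.condition, ← Category.assoc]
      infer_instance
    have := Groth.Agent.SrcDescent.locallyOfFinitePresentation_of_fppf_comp r (O₁.ι ≫ a)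
    let m : pullback (O₁.ι ≫ a) k ⟶ pullback a k :=
      pullback.map _ _ _ _ O₁.ι (𝟙 _) (𝟙 _) (by simp) (by simp)
    let l : O'.toScheme ⟶ pullback (O₁.ι ≫ a) k :=
      pullback.lift r (O'.ι ≫ pullback.snd a k)
        (by rw [Scheme.Hom.resLE_comp_ι_assoc, Category.assoc, pullback.condition])
    have hl : l ≫ m = O'.ι := by
      apply pullback.hom_ext <;> simp [l, m, r]
    obtain ⟨W, hW, hWs⟩ := FlatPtDesc.smooth_nhd_descend (O₁.ι ≫ a) k (l ⟨u, hu⟩) (Flat.stalkMap k _)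
      ⟨m ⁻¹ᵁ O', by
        show m (l ⟨u, hu⟩) ∈ O'
        rw [← Scheme.Hom.comp_apply, hl]
        exact hu, by
        have : pullback.snd (O₁.ι ≫ a) k = m ≫ pullback.snd a k := by simp [m]
        rw [this, ← Category.assoc, ← morphismRestrict_ι, Category.assoc]
        infer_instance⟩
    refine ⟨O₁.ι ''ᵁ W, ⟨_, hW, ?_⟩, ?_⟩
    · show (pullback.fst (O₁.ι ≫ a) k ≫ O₁.ι) (l ⟨u, hu⟩) = _
      rw [← Scheme.Hom.comp_apply, pullback.lift_fst_assoc, Scheme.Hom.resLE_comp_ι]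
      rfl
    · rw [← Scheme.Hom.isoImage_inv_ι_assoc O₁.ι W a]
      infer_instance
  · exact FlatPtDesc.smooth_nhd_descend a k u (Flat.stalkMap k _) ⟨O', hu, inferInstance⟩

theorem largest_smooth_fp (h𝒳 : AlgSt.IsAlgStack K₀ 𝒳) (h𝒴 : AlgSt.IsAlgStack K₀ 𝒴)
    (h𝒴' : AlgSt.IsAlgStack K₀ 𝒴') {f : 𝒳 ⥤ᵇ 𝒴} {g : 𝒴' ⥤ᵇ 𝒴} (hg : AlgSt.LocQ (LocP @Flat) g)
    (hfp : AlgSt.LocQ (LocP @LocallyOfFinitePresentation) g ∨ AlgSt.LocQ (LocP @LocallyOfFinitePresentation) f)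
    {T : Set (AlgSt.Points 𝒳)} (hT : IsOpen T)
    (hs : AlgSt.LocQ (LocP @Smooth) (BasedFunctor.comp (AlgSt.subIncl 𝒳 (PtsIn T)) f)) :
    IsOpen (AlgSt.Points.map (FibCat.fpSnd g f) ⁻¹' T) ∧
    AlgSt.LocQ (LocP @Smooth) (BasedFunctor.comp
      (AlgSt.subIncl (FibCat.fp g f) (PtsIn (AlgSt.Points.map (FibCat.fpSnd g f) ⁻¹' T))) (FibCat.fpFst g f)) ∧
    ∀ T' : Set (AlgSt.Points (FibCat.fp g f)), IsOpen T' →
      AlgSt.LocQ (LocP @Smooth) (BasedFunctor.comp (AlgSt.subIncl (FibCat.fp g f) (PtsIn T')) (FibCat.fpFst g f)) →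
      T' ⊆ AlgSt.Points.map (FibCat.fpSnd g f) ⁻¹' smoothPts f := by
  have hP := isAlgStack_fp h𝒴' h𝒳 h𝒴.isStack h𝒴.diag g f
  obtain ⟨V, z, hz, hz'⟩ := id h𝒴.atlas
  obtain ⟨U, c, hc, hc'⟩ := exists_atlas_fp h𝒳 (isAlgStack_overCat V) h𝒴 f z
  obtain ⟨V', e, he, he'⟩ := exists_atlas_fp h𝒴' (isAlgStack_overCat V) h𝒴 g z
  obtain ⟨a, ⟨ia⟩⟩ := exists_mapB (BasedFunctor.comp c (FibCat.fpSnd f z))
  obtain ⟨k, ⟨ik⟩⟩ := exists_mapB (BasedFunctor.comp e (FibCat.fpSnd g z))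
  let z' := BasedFunctor.comp e (FibCat.fpFst g z)
  have hgz := fp_isFibGrpd (F := g) (G := z) h𝒴'.isStack.1 (isFibGrpd_overCat V) h𝒴.isStack.1
  have hz₁ : AlgSt.RepByAlgSpWith (LocP @Smooth) z' :=
    repByAlgSpWith_locP_comp (isFibGrpd_overCat V') hgz he (repByAlgSpWith_fpFst g hz)
  have hz₁' : AlgSt.RepByAlgSpWith IsSurjectiveMor z' :=
    repByAlgSpWith_isSurjectiveMor_comp (isFibGrpd_overCat V') hgz he' (repByAlgSpWith_fpFst g hz')
  let D : Over S := Over.mk (pullback.fst a.left k.left ≫ U.hom)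
  let p : D ⟶ U := Over.homMk (pullback.fst a.left k.left) rfl
  let q : D ⟶ V' := Over.homMk (pullback.snd a.left k.left) (by
    show pullback.snd a.left k.left ≫ V'.hom = pullback.fst a.left k.left ≫ U.hom
    rw [← Over.w k, ← pullback.condition_assoc, Over.w a])
  have sq : IsPullback p q a k :=
    IsPullback.of_map (Over.forget S) (Over.OverMorphism.ext pullback.condition) (IsPullback.of_hasPullback a.left k.left)
  obtain ⟨c₁, ⟨i₁⟩, ⟨k₁⟩, hs₁, hs₁'⟩ := exists_overCat_chart_baseChange (g := g) sq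
    (z' := z') ((whiskerLeftIso e (FibCat.fpIso g z) ≪≫ whiskerRightIso ik.symm z :
      BasedFunctor.comp z' g ≅ BasedFunctor.comp (AlgSt.overMap k) z)) c ia.symm
  let x := BasedFunctor.comp c (FibCat.fpFst f z)
  let x₁ := BasedFunctor.comp c₁ (FibCat.fpFst (FibCat.fpFst g f) z')
  have hsq : ∀ u : ↥D.left, AlgSt.Points.map (FibCat.fpSnd g f) (AlgSt.Points.ofChart x₁ u) =
      AlgSt.Points.ofChart x (p.left u) := fun u => by
    rw [map_ofChart, ← ofChart_overMap p x]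
    exact pts_map_congr k₁ (ptAt D u)
  have hgT : IsOpen (AlgSt.Points.map (FibCat.fpSnd g f) ⁻¹' T) :=
    hT.preimage (continuous_pts_map h𝒳.isStack.1 h𝒳.atlas _)
  refine ⟨hgT, ?_, fun T' hT' hs' w hw => ?_⟩
  · have := smooth_on_chart h𝒳 h𝒴 hT hs hz hc ia.symm
    refine locQ_smooth_of_chart hP h𝒴' hgT hz₁ hz₁' (hs₁ hc) (hs₁' hc') i₁ ?_
    refine smooth_pullback_open a.left k.left (chartPreimage h𝒳 x hT) (chartPreimage hP x₁ hgT) fun u hu => ?_
    show AlgSt.Points.ofChart x (p.left u) ∈ T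
    rw [← hsq]
    exact hu
  · have hgs := fp_isFibGrpd (F := FibCat.fpFst g f) (G := z') hP.isStack.1 (isFibGrpd_overCat V') h𝒴'.isStack.1
    have hxs : AlgSt.RepByAlgSpWith IsSurjectiveMor x₁ :=
      repByAlgSpWith_isSurjectiveMor_comp (isFibGrpd_overCat D) hgs (hs₁' hc')
        (repByAlgSpWith_fpFst (FibCat.fpFst g f) hz₁')
    obtain ⟨u, rfl⟩ := ofChart_surjective hP.isStack.1 hxs w
    have hsmq : Smooth ((chartPreimage hP x₁ hT').ι ≫ pullback.snd a.left k.left) :=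
      smooth_on_chart hP h𝒴' hT' hs' hz₁ (hs₁ hc) i₁
    have : Flat k.left := locP_yon_map (P := @Flat)
      ((locQS_of_locQ isSmoothLocalST_flat h𝒴'.isStack.1 h𝒴.isStack.1 hg).scheme e hz he ik.symm)
    have hl : LocallyOfFinitePresentation k.left ∨ LocallyOfFinitePresentation a.left := hfp.imp
      (fun h => locP_yon_map (P := @LocallyOfFinitePresentation)
        ((locQS_of_locQ isSmoothLocalST_lfp h𝒴'.isStack.1 h𝒴.isStack.1 h).scheme e hz he ik.symm))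
      (fun h => locP_yon_map (P := @LocallyOfFinitePresentation)
        ((locQS_of_locQ isSmoothLocalST_lfp h𝒳.isStack.1 h𝒴.isStack.1 h).scheme c hz hc ia.symm))
    obtain ⟨W, huW, hW⟩ := @exists_smooth_nhd_of_pullback _ _ _ a.left k.left ‹_› hl (chartPreimage hP x₁ hT') hsmq u hw
    obtain ⟨ho, hsW⟩ := locQ_smooth_image h𝒳 h𝒴 hz hc ia.symm W hW
    show AlgSt.Points.map (FibCat.fpSnd g f) _ ∈ smoothPts f
    rw [hsq]
    exact Set.mem_biUnion (x := PtsIn (AlgSt.Points.ofChart x '' W)) ⟨isOpenSubstack_ptsIn h𝒳 ho, hsW⟩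
      (range_subIncl_ptsIn.superset ⟨_, huW, rfl⟩)

end Groth.Agent.AlgStLib
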