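import Groth.Agent.AlgStLib.LocQCalc
import Groth.Agent.AlgStLib.QuasiCompact
import Groth.Agent.AlgStLib.LocEss
import Groth.Agent.AlgStLib.SmoothLocally
import Groth.Agent.HTopCov.Points
import Groth.Agent.AlgSpVal.ValThrough
import Groth.Agent.AlgSpVal.DvrThrough

/-!
# Valuation rings and points of algebraic stacks
-/

set_option backward.isDefEq.respectTransparency false
set_option backward.isDefEq.respectTransparency.types false

universe u

open CategoryTheory CategoryTheory.Functor CategoryTheory.Limits AlgebraicGeometry Opposite AlgSp IsLocalRing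

namespace Groth.Agent.AlgStLib

open Groth.Agent.FibBase Groth.Agent.AlgSpLib

variable {S : Scheme.{u}} {𝒳 𝒴 : AlgSt.Cat S}

local notation "K₀" => Scheme.fppfPrecoverage

/-- Lifting of valuation rings along flat functors. -/
theorem exists_valuationRing_lift (h𝒳 : AlgSt.IsAlgStack K₀ 𝒳) (h𝒴 : AlgSt.IsAlgStack K₀ 𝒴) {f : 𝒳 ⥤ᵇ 𝒴}
    (hf : AlgSt.LocQ (LocP @Flat) f)
    (A : Type u) [CommRing A] [IsDomain A] [ValuationRing A] (sA : Spec (CommRingCat.of A) ⟶ S)
    (a : FibCat.overCat (Over.mk sA) ⥤ᵇ 𝒴)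
    (ha : AlgSt.Points.ofChart a (IsLocalRing.closedPoint A) ∈ Set.range (AlgSt.Points.map f)) :
    ∃ (A' : Type u) (_ : CommRing A') (_ : IsDomain A') (_ : ValuationRing A') (φ : A →+* A'),
      Function.Injective φ ∧ IsLocalHom φ ∧
      ∃ x : FibCat.overCat (Over.mk (Spec.map (CommRingCat.ofHom φ) ≫ sA)) ⥤ᵇ 𝒳,
        Nonempty (BasedFunctor.comp x f ≅
          BasedFunctor.comp (AlgSt.overMap (Over.homMk (Spec.map (CommRingCat.ofHom φ)) rfl :
            Over.mk (Spec.map (CommRingCat.ofHom φ) ≫ sA) ⟶ Over.mk sA)) a) := by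
  let T : Over S := Over.mk sA
  have hP := isAlgStack_fp (isAlgStack_overCat T) h𝒳 h𝒴.isStack h𝒴.diag a f
  have hF : AlgSt.LocQ (LocP @Flat) (FibCat.fpFst a f) :=
    locQ_fpFst isSmoothLocalST_flat stableBC_locP h𝒳 h𝒴 (isAlgStack_overCat T) a hf
  obtain ⟨U, c, hc, hc'⟩ := id hP.atlas
  obtain ⟨h, ⟨ih⟩⟩ := exists_mapB (BasedFunctor.comp c (FibCat.fpFst a f))
  have hflat : Flat h.left := by
    let d : FibCat.overCat U ⥤ᵇ FibCat.fp (FibCat.fpFst a f) (BasedFunctor.id (FibCat.overCat T : AlgSt.Cat S)) :=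
      FibCat.fpLift c (BasedFunctor.comp c (FibCat.fpFst a f)) (Iso.refl _)
    have hfst : FibCat.IsEquivOver (FibCat.fpFst (FibCat.fpFst a f) (BasedFunctor.id (FibCat.overCat T : AlgSt.Cat S))) :=
      fpFst_id_isEquivOver _
    obtain ⟨g, hg, ⟨j⟩, -⟩ := isEquivOver_inv hfst
    have hd : AlgSt.RepByAlgSpWith (LocP @Smooth) d :=
      repByAlgSpWith_of_iso (whiskerLeftIso d j) (repByAlgSpWith_postcomp hg hc)
    exact locP_yon_map (P := @Flat) ((locQS_of_locQ isSmoothLocalST_flat hP.isStack.1 (isAlgStack_overCat T).isStack.1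
      hF).scheme d (repByAlgSpWith_smooth_of_isEquivOver isEquivOver_id) hd ih.symm)
  obtain ⟨x₀, hx₀⟩ := ha
  obtain ⟨w, hw₁, -⟩ := exists_pts_fp h𝒳.isStack.1 h𝒴.isStack.1 (isFibGrpd_overCat T) f a
    (ptAt T (closedPoint A)) x₀ (by rw [← ofChart_eq_map]; exact hx₀.symm)
  obtain ⟨u, hu⟩ := ofChart_surjective hP.isStack.1 hc' w
  have hu' : h.left u = closedPoint A := by
    have h1 : ptAt T (h.left u) = ptAt T (closedPoint A) := by
      rw [← hw₁, ← hu, map_ofChart]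
      exact (ofChart_overMap h (BasedFunctor.id _) u).symm.trans (pts_map_congr ih (ptAt U u))
    simpa only [toSch_ptAt] using congrArg (toSch T) h1
  have hsp : (⊥ : PrimeSpectrum A) ⤳ h.left u := by
    rw [hu']
    exact IsLocalRing.specializes_closedPoint _
  obtain ⟨q, hq, hq'⟩ := Flat.generalizingMap (f := h.left) hsp
  obtain ⟨W, iW, iW', φ, l, hφ, hl, -⟩ :=
    Groth.Agent.HTopCov.exists_ext_of_points (V := CommRingCat.of A) h.left hq hq' hu'
  refine ⟨W, inferInstance, iW, iW', φ.hom, hφ.1, hφ.2, ?_⟩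
  let T' : Over S := Over.mk (Spec.map (CommRingCat.ofHom φ.hom) ≫ sA)
  let jA : T' ⟶ T := Over.homMk (Spec.map (CommRingCat.ofHom φ.hom)) rfl
  let jl : T' ⟶ U := Over.homMk l (by
    show l ≫ U.hom = Spec.map φ ≫ sA
    rw [← Over.w h, ← Category.assoc, hl]
    rfl)
  refine ⟨BasedFunctor.comp (AlgSt.overMap jl) (BasedFunctor.comp c (FibCat.fpSnd a f)), ⟨?_⟩⟩
  exact whiskerLeftIso (AlgSt.overMap jl) (whiskerLeftIso c (FibCat.fpIso a f).symm ≪≫ whiskerRightIso ih.symm a) ≪≫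
    whiskerRightIso (overMapCompIso jl h ≪≫ eqToIso (congrArg AlgSt.overMap
      (Over.OverMorphism.ext hl : jl ≫ h = jA))) a

/-- Points in the closure of the image of a quasi-compact functor. -/
theorem exists_valuationRing_witness (h𝒳 : AlgSt.IsAlgStack K₀ 𝒳) (h𝒴 : AlgSt.IsAlgStack K₀ 𝒴) {f : 𝒳 ⥤ᵇ 𝒴}
    (hf : AlgSt.IsQuasiCompactMor K₀ f)
    (y : AlgSt.Points 𝒴) (hy : y ∈ closure (Set.range (AlgSt.Points.map f))) :
    ∃ (A : Type u) (_ : CommRing A) (_ : IsDomain A) (_ : ValuationRing A) (sA : Spec (CommRingCat.of A) ⟶ S)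
      (a : FibCat.overCat (Over.mk sA) ⥤ᵇ 𝒴)
      (x : FibCat.overCat (Over.mk (Spec.map (CommRingCat.ofHom (algebraMap A (FractionRing A))) ≫ sA)) ⥤ᵇ 𝒳),
      Nonempty (BasedFunctor.comp x f ≅
        BasedFunctor.comp (AlgSt.overMap (Over.homMk (Spec.map (CommRingCat.ofHom (algebraMap A (FractionRing A)))) rfl :
          Over.mk (Spec.map (CommRingCat.ofHom (algebraMap A (FractionRing A))) ≫ sA) ⟶ Over.mk sA)) a) ∧
      AlgSt.Points.ofChart a (IsLocalRing.closedPoint A) = y := by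
  obtain ⟨V, y₀, hy₀, hy₀'⟩ := id h𝒴.atlas
  obtain ⟨v₀, rfl⟩ := ofChart_surjective h𝒴.isStack.1 hy₀' y
  obtain ⟨B, hB, hv₀, -⟩ := exists_isAffineOpen_mem_and_subset (X := V.left) (x := v₀) (U := ⊤) trivial
  let V₁ : Over S := Over.mk (B.ι ≫ V.hom)
  let j : V₁ ⟶ V := Over.homMk B.ι rfl
  let y₁ := BasedFunctor.comp (AlgSt.overMap j) y₀
  have hy₁ : AlgSt.RepByAlgSpWith (LocP @Smooth) y₁ :=
    repByAlgSpWith_locP_comp (isFibGrpd_overCat _) (isFibGrpd_overCat _) (repByAlgSpWith_overMap stableBC_locP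
      (locP_of_repWith ((repWith_yon_map_iff _ _).2 (inferInstanceAs (Smooth B.ι))))) hy₀
  let v : ↥V₁.left := ⟨v₀, hv₀⟩
  have hyv : AlgSt.Points.ofChart y₁ v = AlgSt.Points.ofChart y₀ v₀ := ofChart_overMap j y₀ v
  have : IsAffine V₁.left := hB
  obtain ⟨U, c, hU, hc, hc'⟩ := hf _ (isAlgStack_overCat V₁)
    ⟨V₁, BasedFunctor.id _, ‹_›, repByAlgSpWith_smooth_of_isEquivOver isEquivOver_id,
      repByAlgSpWith_surj_of_isEquivOver isEquivOver_id⟩ y₁
  obtain ⟨g, ⟨ig⟩⟩ := exists_mapB (BasedFunctor.comp c (FibCat.fpFst y₁ f))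
  have hP := fp_isFibGrpd (F := y₁) (G := f) (isFibGrpd_overCat V₁) h𝒳.isStack.1 h𝒴.isStack.1
  have hsub : AlgSt.Points.ofChart y₁ ⁻¹' Set.range (AlgSt.Points.map f) ⊆ Set.range g.left := by
    rintro t ⟨x₀, hx₀⟩
    obtain ⟨w, hw₁, -⟩ := exists_pts_fp h𝒳.isStack.1 h𝒴.isStack.1 (isFibGrpd_overCat V₁) f y₁
      (ptAt V₁ t) x₀ (by rw [← ofChart_eq_map]; exact hx₀.symm)
    obtain ⟨u, hu⟩ := ofChart_surjective hP hc' w
    refine ⟨u, ?_⟩
    have h1 : ptAt V₁ (g.left u) = ptAt V₁ t := by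
      rw [← hw₁, ← hu, map_ofChart]
      exact (ofChart_overMap g (BasedFunctor.id _) u).symm.trans (pts_map_congr ig (ptAt U u))
    simpa only [toSch_ptAt] using congrArg (toSch V₁) h1
  have hv : v ∈ closure (Set.range g.left) := by
    refine closure_mono hsub ((isOpenMap_ofChart h𝒴.isStack.1 (repByAlgSpWith_flat_of_smooth hy₁)
      (repByAlgSpWith_lfp_of_smooth hy₁)).preimage_closure_subset_closure_preimage ?_)
    rw [Set.mem_preimage, hyv]
    exact hy
  have := hU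
  obtain ⟨q, hq⟩ := Groth.Agent.AlgSpVal.exists_specializes_of_mem_closure_range g.left hv
  obtain ⟨A, i, hi, hik⟩ := Groth.Agent.AlgSpVal.exists_valuationRing_through
    (K := ↥(U.left.residueField q)) (U.left.fromSpecResidueField q ≫ g.left) v (by
      rw [Scheme.Hom.comp_apply]
      exact (congrArg g.left (Scheme.fromSpecResidueField_apply q _)).symm ▸ hq)
  let K : Type u := ↥(U.left.residueField q)
  let e : FractionRing A ≃ₐ[A] ↥(U.left.residueField q) := FractionRing.algEquiv A ↥(U.left.residueField q)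
  let sA : Spec (CommRingCat.of A) ⟶ S := i ≫ V₁.hom
  let TK : Over S := Over.mk (Spec.map (CommRingCat.ofHom (algebraMap A (FractionRing A))) ≫ sA)
  have he : Spec.map (CommRingCat.ofHom e.symm.toRingEquiv.toRingHom) ≫
      Spec.map (CommRingCat.ofHom (algebraMap A ↥(U.left.residueField q))) = Spec.map (CommRingCat.ofHom (algebraMap A (FractionRing A))) := by
    rw [← Spec.map_comp]
    congr 1
    exact CommRingCat.hom_ext (RingHom.ext fun z => e.symm.commutes z)
  let l : TK ⟶ U := Over.homMk (Spec.map (CommRingCat.ofHom e.symm.toRingEquiv.toRingHom) ≫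
      U.left.fromSpecResidueField q) (by
    show (_ ≫ U.left.fromSpecResidueField q) ≫ U.hom = _ ≫ i ≫ V₁.hom
    rw [← Over.w g, ← he]
    simp only [Category.assoc]
    rw [reassoc_of% hik])
  let iA : Over.mk sA ⟶ V₁ := Over.homMk i rfl
  let jA : TK ⟶ Over.mk sA := Over.homMk (Spec.map (CommRingCat.ofHom (algebraMap A (FractionRing A)))) rfl
  have hl : l ≫ g = jA ≫ iA := Over.OverMorphism.ext (by
    show (_ ≫ U.left.fromSpecResidueField q) ≫ g.left = Spec.map (CommRingCat.ofHom (algebraMap A (FractionRing A))) ≫ i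
    rw [← he]
    simp only [Category.assoc]
    rw [hik])
  refine ⟨A, inferInstance, inferInstance, inferInstance, sA, BasedFunctor.comp (AlgSt.overMap iA) y₁,
    BasedFunctor.comp (AlgSt.overMap l) (BasedFunctor.comp c (FibCat.fpSnd y₁ f)), ⟨?_⟩, ?_⟩
  · exact whiskerLeftIso (AlgSt.overMap l) (whiskerLeftIso c (FibCat.fpIso y₁ f).symm ≪≫ whiskerRightIso ig.symm y₁) ≪≫
      whiskerRightIso (overMapCompIso l g ≪≫ eqToIso (congrArg AlgSt.overMap hl) ≪≫ (overMapCompIso jA iA).symm) y₁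
  · rw [ofChart_overMap iA y₁]
    exact (congrArg (AlgSt.Points.ofChart y₁) hi).trans hyv

end Groth.Agent.AlgStLib
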